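import Cfsg.Agent.Lib.Classical.OrthOrderStd
import Cfsg.Agent.Lib.Classical.OmegaOnto
import Cfsg.Agent.Lib.Classical.OddEvenSymp
import Cfsg.Agent.Lib.Classical.SympOrder
import Cfsg.Agent.Lib.MinIndexSp.ExistTwo

/-!
The stabilizer of a nonsingular point in `O⁺(8, 2)` is `2 × S₆(2)`.
-/

set_option autoImplicit false
set_option Elab.async false
set_option linter.style.haveILetI false
set_option maxRecDepth 20000

namespace CfsgLib.Fi22Pres.PointSix

open Matrix CfsgLib.Orth

/-- the space -/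
abbrev V8 : Type := Fin 4 ⊕ Fin 4 → ZMod 2

/-- the coordinates of the perp -/
abbrev I7 : Type := Unit ⊕ (Fin 3 ⊕ Fin 3)

/-- the form -/
noncomputable abbrev qp : QuadraticForm (ZMod 2) V8 := CfsgLib.Orth.plusQ 4

/-- its group -/
abbrev Op : Type := CfsgLib.Orth.Grp qp

/-- the point -/
def point : V8 := Pi.single (.inl 3) 1 + Pi.single (.inr 3) 1

/-- a partner of the point -/
def mate : V8 := Pi.single (.inl 3) 1

/-- the coordinate of the perp read at a coordinate -/
def down : Fin 4 ⊕ Fin 4 → I7 :=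
  Sum.elim (fun i => if h : (i : ℕ) < 3 then .inr (.inl ⟨i, h⟩) else .inl ())
    fun i => if h : (i : ℕ) < 3 then .inr (.inr ⟨i, h⟩) else .inl ()

/-- the coordinate giving a coordinate of the perp -/
def up : I7 → Fin 4 ⊕ Fin 4 :=
  Sum.elim (fun _ => .inl 3) (Sum.elim (fun i => .inl i.castSucc) fun i => .inr i.castSucc)

/-- the inclusion of the perp -/
def inc : Matrix (Fin 4 ⊕ Fin 4) I7 (ZMod 2) := fun a b => if down a = b then 1 else 0

/-- the projection to the perp -/
def proj : Matrix I7 (Fin 4 ⊕ Fin 4) (ZMod 2) := fun b a => if up b = a then 1 else 0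

/-- the polar form -/
def pol (u v : V8) : ZMod 2 := QuadraticMap.polar (Cfsg.quadFormPlus 4 (ZMod 2)) u v

theorem proj_inc : proj * inc = 1 := by decide +kernel

theorem inc_q : ∀ x : I7 → ZMod 2,
    Cfsg.quadFormPlus 4 (ZMod 2) (inc *ᵥ x) = Cfsg.quadFormOdd 3 (ZMod 2) x := by decide +kernel

theorem inc_perp : ∀ x : I7 → ZMod 2, pol point (inc *ᵥ x) = 0 := by decide +kernel

theorem perp_inc : ∀ w : V8, pol point w = 0 → inc *ᵥ (proj *ᵥ w) = w := by decide +kernel

theorem split_mate : ∀ w : V8, pol point (w - pol point w • mate) = 0 := by decide +kernel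

theorem mate_images : ∀ w : V8, Cfsg.quadFormPlus 4 (ZMod 2) w =
      Cfsg.quadFormPlus 4 (ZMod 2) mate →
    (∀ b : I7, pol w (inc *ᵥ Pi.single b 1) = pol mate (inc *ᵥ Pi.single b 1)) →
    w = mate ∨ w = mate + point := by decide +kernel

theorem point_q : Cfsg.quadFormPlus 4 (ZMod 2) point = 1 ∧ pol point mate = 1 := by decide +kernel

theorem qp_eq (v : V8) : qp v = Cfsg.quadFormPlus 4 (ZMod 2) v := by rw [CfsgLib.Orth.plusQ_coe 4]

theorem pol_ap (g : Op) (u v : V8) : pol (ap g u) (ap g v) = pol u v := by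
  simp only [pol, QuadraticMap.polar, ← qp_eq, ← ap_add, ap_q]

/-- the stabilizer -/
def stabPt : Subgroup Op where
  carrier := {g | ap g point = point}
  one_mem' := ap_one point
  mul_mem' := fun {a b} ha hb => by
    simp only [Set.mem_ofPred_eq] at ha hb ⊢
    rw [ap_mul, hb, ha]
  inv_mem' := fun {a} ha => by
    simp only [Set.mem_ofPred_eq] at ha ⊢
    conv_lhs => rw [← ha, ap_inv_ap]

theorem stab_inc (g : stabPt) (x : I7 → ZMod 2) :
    inc *ᵥ (proj *ᵥ ap (g : Op) (inc *ᵥ x)) = ap (g : Op) (inc *ᵥ x) :=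
  perp_inc _ (by
    have h := pol_ap (g : Op) point (inc *ᵥ x)
    rw [show ap (g : Op) point = point from g.2, inc_perp] at h
    exact h)

/-- the matrix on the perp -/
def perpMat (g : stabPt) : Matrix I7 I7 (ZMod 2) :=
  proj * ((g : Op).1 : Matrix (Fin 4 ⊕ Fin 4) (Fin 4 ⊕ Fin 4) (ZMod 2)) * inc

theorem perpMat_apply (g : stabPt) (x : I7 → ZMod 2) :
    perpMat g *ᵥ x = proj *ᵥ ap (g : Op) (inc *ᵥ x) := by
  rw [perpMat, ← Matrix.mulVec_mulVec, ← Matrix.mulVec_mulVec]
  rfl

theorem inc_perpMat (g : stabPt) (x : I7 → ZMod 2) :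
    inc *ᵥ (perpMat g *ᵥ x) = ap (g : Op) (inc *ᵥ x) := by rw [perpMat_apply, stab_inc]

/-- the restriction to the perp -/
noncomputable def perpHom : stabPt →* Cfsg.isometryGroup (ZMod 2) (Cfsg.quadFormOdd 3 (ZMod 2)) :=
  (MonoidHom.toHomUnits
    { toFun := perpMat
      map_one' := Matrix.ext_of_mulVec_single fun b => by
        rw [perpMat_apply, OneMemClass.coe_one, ap_one, Matrix.mulVec_mulVec, proj_inc]
      map_mul' := fun g h => Matrix.ext_of_mulVec_single fun b => by
        rw [← Matrix.mulVec_mulVec, perpMat_apply, perpMat_apply g, inc_perpMat, Subgroup.coe_mul,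
          ap_mul] }).codRestrict _ fun g x _ => by
    show Cfsg.quadFormOdd 3 (ZMod 2) (perpMat g *ᵥ x) = Cfsg.quadFormOdd 3 (ZMod 2) x
    rw [← inc_q, ← inc_q, inc_perpMat, ← qp_eq, ← qp_eq, ap_q]

theorem nondeg : Nondeg qp := plusQ_nondeg 4

theorem exists_pointRefl : ∃ r : Op, IsRefl point r :=
  exists_refl nondeg (by rw [qp_eq, point_q.1]; exact one_ne_zero)

/-- the reflection in the point -/
noncomputable def pointRefl : Op := exists_pointRefl.choose

theorem pointRefl_spec : IsRefl point pointRefl := exists_pointRefl.choose_spec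

theorem neg_eq (x : V8) : -x = x := funext fun k => ZMod.neg_eq_self_mod_two (x k)

theorem pointRefl_mem : pointRefl ∈ stabPt := by
  show ap pointRefl point = point
  rw [refl_self pointRefl_spec, neg_eq]

theorem pointRefl_mate : ap pointRefl mate = mate + point := by
  rw [pointRefl_spec.2, sub_eq_add_neg, qp_eq, point_q.1, inv_one, one_mul]
  have : QuadraticMap.polar (⇑qp) point mate = 1 := by
    rw [QuadraticMap.polar, qp_eq, qp_eq, qp_eq]; exact point_q.2
  rw [this, one_smul, neg_eq]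

/-- An element fixing the perp pointwise is trivial or the reflection. -/
theorem ker_cases {g : stabPt} (hg : perpHom g = 1) : (g : Op) = 1 ∨ (g : Op) = pointRefl := by
  have hm : perpMat g = 1 := congrArg
    (fun m : Cfsg.isometryGroup (ZMod 2) (Cfsg.quadFormOdd 3 (ZMod 2)) =>
      ((m : GL I7 (ZMod 2)) : Matrix I7 I7 (ZMod 2))) hg
  have hfix : ∀ x, ap (g : Op) (inc *ᵥ x) = inc *ᵥ x := fun x => by
    rw [← inc_perpMat, hm, Matrix.one_mulVec]
  have hr : ∀ x, ap pointRefl (inc *ᵥ x) = inc *ᵥ x := fun x => refl_fix pointRefl_spec (by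
    show QuadraticMap.polar (⇑qp) point (inc *ᵥ x) = 0
    rw [QuadraticMap.polar, qp_eq, qp_eq, qp_eq]; exact inc_perp x)
  have hdet : ∀ k : Op, (∀ x, ap k (inc *ᵥ x) = inc *ᵥ x) → ap (g : Op) mate = ap k mate →
      (g : Op) = k := by
    intro k hk he
    refine ext_ap fun w => ?_
    have hw : w = inc *ᵥ (proj *ᵥ (w - pol point w • mate)) + pol point w • mate := by
      rw [perp_inc _ (split_mate w), sub_add_cancel]
    rw [hw, ap_add, ap_add, ap_smul, ap_smul, hfix, hk, he]
  rcases mate_images (ap (g : Op) mate) (by rw [← qp_eq, ap_q, qp_eq]) (fun b => by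
    conv_lhs => rw [← hfix (Pi.single b 1)]
    rw [pol_ap]) with h | h
  · exact Or.inl (hdet 1 (fun x => ap_one _) (by rw [h, ap_one]))
  · exact Or.inr (hdet _ hr (by rw [h, pointRefl_mate]))

theorem card_Op : Nat.card Op = 348364800 := by
  show Nat.card (CfsgLib.Orth.Grp qp) = _
  rw [CfsgLib.Orth.card_orth_plus 4 (by norm_num) (CfsgLib.Orth.plusQ_coe 4) nondeg, Nat.card_zmod]
  norm_num [Finset.prod_range_succ]

theorem card_odd :
    Nat.card (Cfsg.isometryGroup (ZMod 2) (Cfsg.quadFormOdd 3 (ZMod 2))) = 1451520 := by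
  obtain ⟨e⟩ := CfsgLib.Classical.OddEven.equiv_symplectic (F := ZMod 2) 3
  rw [Nat.card_congr e.toEquiv]
  have := CfsgLib.Classical.SympTrans.card_symplectic (F := ZMod 2) (m := 3)
  rw [this, Nat.card_zmod]
  norm_num [Finset.prod_range_succ]

theorem points_count :
    (Finset.univ.filter fun v : V8 => Cfsg.quadFormPlus 4 (ZMod 2) v = 1).card = 120 := by
  decide +kernel

theorem facts : Nat.card stabPt = 2903040 ∧ Function.Surjective perpHom ∧
    ∀ v : V8, Cfsg.quadFormPlus 4 (ZMod 2) v = 1 → ∃ g : Op, ap g point = v := by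
  classical
  haveI : Finite Op := Nat.finite_of_card_ne_zero (by rw [card_Op]; norm_num)
  have hker : Nat.card perpHom.ker ≤ 2 := by
    have : (perpHom.ker : Set stabPt) ⊆ {1, ⟨pointRefl, pointRefl_mem⟩} := by
      intro g hg
      rcases ker_cases (show perpHom g = 1 from hg) with h | h
      · exact Or.inl (Subtype.ext h)
      · exact Or.inr (Subtype.ext h)
    rw [← SetLike.coe_sort_coe, Nat.card_coe_set_eq]
    exact (Set.ncard_le_ncard this (Set.toFinite _)).trans
      ((Set.ncard_insert_le _ _).trans (by rw [Set.ncard_singleton]))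
  have hprod : Nat.card stabPt = Nat.card perpHom.ker * Nat.card perpHom.range := by
    rw [← perpHom.ker.card_mul_index, Subgroup.index_ker]
  have hrange : Nat.card perpHom.range ≤ 1451520 :=
    card_odd ▸ Subgroup.card_le_card_group perpHom.range
  -- the orbit
  set T := Finset.univ.filter fun v : V8 => Cfsg.quadFormPlus 4 (ZMod 2) v = 1
  let f : Op ⧸ stabPt → {v : V8 // v ∈ T} := Quotient.lift
    (fun g : Op => (⟨ap g point, Finset.mem_filter.mpr ⟨Finset.mem_univ _, by
      rw [← qp_eq, ap_q, qp_eq, point_q.1]⟩⟩ : {v : V8 // v ∈ T})) (by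
      intro a b hab
      have h : ap (a⁻¹ * b) point = point := QuotientGroup.leftRel_apply.mp hab
      apply Subtype.ext
      show ap a point = ap b point
      conv_lhs => rw [← h, ← ap_mul, mul_inv_cancel_left])
  have hf : Function.Injective f := by
    rintro ⟨a⟩ ⟨b⟩ h
    have h : ap a point = ap b point := congrArg Subtype.val h
    refine QuotientGroup.eq.mpr ?_
    show ap (a⁻¹ * b) point = point
    rw [ap_mul, ← h, ap_inv_ap]
  have hq : Nat.card (Op ⧸ stabPt) ≤ 120 := by
    refine (Nat.card_le_card_of_injective f hf).trans (le_of_eq ?_)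
    rw [Nat.card_eq_finsetCard, points_count]
  have htot : Nat.card (Op ⧸ stabPt) * Nat.card stabPt = 348364800 := by
    rw [← Subgroup.card_eq_card_quotient_mul_card_subgroup, card_Op]
  have hle : Nat.card stabPt ≤ 2 * 1451520 := hprod ▸ Nat.mul_le_mul hker hrange
  have hs : Nat.card stabPt = 2903040 := by
    have := Nat.mul_le_mul_right (Nat.card stabPt) hq
    omega
  have hqe : Nat.card (Op ⧸ stabPt) = 120 := by
    rw [hs] at htot; exact Nat.eq_of_mul_eq_mul_right (by norm_num) (htot.trans (by norm_num))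
  refine ⟨hs, ?_, fun v hv => ?_⟩
  · rw [← MonoidHom.range_eq_top]
    refine Subgroup.eq_top_of_card_eq _ ?_
    rw [card_odd]
    have h1 := Nat.mul_le_mul_right (Nat.card perpHom.range) hker
    rw [← hprod, hs] at h1
    omega
  · obtain ⟨⟨g⟩, hg⟩ := ((Nat.bijective_iff_injective_and_card f).mpr
      ⟨hf, by rw [hqe, Nat.card_eq_finsetCard, points_count]⟩).2
      ⟨v, Finset.mem_filter.mpr ⟨Finset.mem_univ _, hv⟩⟩
    exact ⟨g, congrArg Subtype.val hg⟩

theorem omega_index : (Cfsg.Omega (ZMod 2) ⇑qp).index = 2 :=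
  CfsgLib.Orth.index_omega_two nondeg rfl (by simp) (fun h => by simp at h)

theorem pointRefl_not_omega : pointRefl ∉ Cfsg.Omega (ZMod 2) ⇑qp := by
  intro h
  have htop : (⊤ : Subgroup Op) ≤ Cfsg.Omega (ZMod 2) ⇑qp := by
    rw [← CfsgLib.Orth.refl_eq_top nondeg (fun e => by simp at e), CfsgLib.Orth.Refl,
      Subgroup.closure_le]
    rintro r ⟨v, hv⟩
    have hv1 : Cfsg.quadFormPlus 4 (ZMod 2) v = 1 := by
      have h1 := hv.1
      rw [qp_eq] at h1
      exact (show ∀ a : ZMod 2, a ≠ 0 → a = 1 by decide) _ h1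
    obtain ⟨g, hg⟩ := facts.2.2 v hv1
    have hc := CfsgLib.Orth.refl_conj pointRefl_spec g
    rw [hg] at hc
    have : r = g * pointRefl * g⁻¹ := ext_ap fun x => by rw [hv.2, hc.2]
    rw [this]
    exact (inferInstance : (Cfsg.Omega (ZMod 2) ⇑qp).Normal).conj_mem _ h g
  have h1 := omega_index
  rw [top_le_iff.mp htop, Subgroup.index_top] at h1
  omega

theorem center_symp : Subgroup.center (Matrix.symplecticGroup (Fin 3) (ZMod 2)) = ⊥ :=
  CfsgLib.MinIndexSp.Two.center_eq_bot (ZMod.card 2)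

theorem stab_iso : Nonempty (stabPt ≃* Multiplicative (ZMod 2) × Cfsg.PSp 3 (ZMod 2)) := by
  haveI : Fact (Nat.Prime 2) := ⟨Nat.prime_two⟩
  haveI : Finite Op := Nat.finite_of_card_ne_zero (by rw [card_Op]; norm_num)
  set Ω := Cfsg.Omega (ZMod 2) ⇑qp
  haveI : Ω.Normal := inferInstance
  obtain ⟨eZ⟩ : Nonempty ((Op ⧸ Ω) ≃* Multiplicative (ZMod 2)) :=
    ⟨mulEquivOfPrimeCardEq (p := 2) (by rw [← Subgroup.index_eq_card]; exact omega_index)
      (by rw [Nat.card_congr Multiplicative.toAdd, Nat.card_zmod])⟩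
  obtain ⟨eS⟩ := CfsgLib.Classical.OddEven.equiv_symplectic (F := ZMod 2) 3
  have eP : Cfsg.PSp 3 (ZMod 2) ≃* Matrix.symplecticGroup (Fin 3) (ZMod 2) :=
    (QuotientGroup.quotientMulEquivOfEq center_symp).trans QuotientGroup.quotientBot
  let φ : stabPt →* Multiplicative (ZMod 2) × Cfsg.PSp 3 (ZMod 2) :=
    (eZ.toMonoidHom.comp ((QuotientGroup.mk' Ω).comp stabPt.subtype)).prod
      ((eP.symm.toMonoidHom.comp eS.toMonoidHom).comp perpHom)
  have hinj : Function.Injective φ := by
    refine (injective_iff_map_eq_one φ).2 fun g hg => ?_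
    have h1 : eZ (QuotientGroup.mk' Ω (g : Op)) = 1 := congrArg Prod.fst hg
    have h2 : eP.symm (eS (perpHom g)) = 1 := congrArg Prod.snd hg
    rw [MulEquiv.map_eq_one_iff] at h1
    rw [MulEquiv.map_eq_one_iff, MulEquiv.map_eq_one_iff] at h2
    have hΩ : (g : Op) ∈ Ω := (QuotientGroup.eq_one_iff _).mp h1
    rcases ker_cases h2 with h | h
    · exact Subtype.ext h
    · exact absurd (h ▸ hΩ) pointRefl_not_omega
  have hcard : Nat.card (Multiplicative (ZMod 2) × Cfsg.PSp 3 (ZMod 2)) = 2903040 := by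
    rw [Nat.card_prod, Nat.card_congr Multiplicative.toAdd, Nat.card_zmod, Nat.card_congr eP.toEquiv,
      ← Nat.card_congr eS.toEquiv, card_odd]
  haveI : Finite (Multiplicative (ZMod 2) × Cfsg.PSp 3 (ZMod 2)) :=
    Nat.finite_of_card_ne_zero (by rw [hcard]; norm_num)
  exact ⟨MulEquiv.ofBijective φ ((Nat.bijective_iff_injective_and_card φ).mpr
    ⟨hinj, by rw [facts.1, hcard]⟩)⟩

end CfsgLib.Fi22Pres.PointSix
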