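import Cfsg.Agent.Lib.CosetEnum.Basic

/-!
Coset enumeration data: 2 cosets, 2 nodes, 1 facts.
-/

set_option autoImplicit false
set_option linter.style.longLine false

namespace CfsgLib.Fi22Pres
open CfsgLib.CosetEnum

/-- the certificate -/
def certS1 : Cert where
  K := 1
  invs := [0]
  rels := [[0, 0]]
  subs := []
  N := 2
  M := 2
  F := 1
  defs := (.leaf 0x0)
  facts := (.leaf 0x8000000)
  refs := (.leaf 0x0)
  tab := (.leaf 0x1)
  nd := (.leaf 0x1000000)
  edge := (.leaf 0x1000000)
  img := (.leaf 0x100000)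

end CfsgLib.Fi22Pres
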