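import Cfsg.Agent.Lib.CosetEnum.Chain

/-!
Orbit chain data.
-/

set_option autoImplicit false
set_option linter.style.longLine false

namespace CfsgLib.Fi22Pres
open CfsgLib.CosetEnum

/-- part 0 of a tree -/
def levelsTree0Part0 : List (ℕ × ℕ) := [(0, 1), (1, 0), (1, 2), (14, 2), (2, 3), (13, 1), (13, 3), (3, 4), (3, 7), (12, 3), (15, 4), (15, 7), (4, 5), (4, 7), (16, 8), (11, 2), (11, 4), (11, 7), (17, 5), (17, 7), (23, 8), (18, 6), (18, 7), (5, 3), (5, 8), (10, 4), (10, 7), (29, 5), (29, 7), (27, 8), (37, 6), (37, 7), (6, 3), (6, 8), (38, 7), (20, 3), (20, 8), (19, 2), (19, 8), (32, 3), (32, 5), (32, 7), (9, 3), (9, 8), (54, 6), (54, 7), (7, 3), (7, 8), (61, 7), (24, 3), (24, 8), (22, 2), (22, 8), (42, 3), (42, 8), (40, 2), (40, 4), (40, 8), (39, 1), (39, 8), (41, 7), (59, 5), (57, 6),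 (57, 7), (8, 8), (34, 8), (81, 7), (28, 3), (28, 8), (26, 8), (48, 3), (48, 8), (45, 2), (45, 4), (45, 8), (44, 8), (46, 7), (66, 2), (66, 4), (66, 8), (63, 1), (63, 4), (63, 8), (65, 8), (67, 7), (62, 8), (64, 7), (85, 4), (85, 6), (83, 7), (31, 8), (60, 7), (53, 3), (53, 8), (50, 4), (50, 8), (51, 7), (73, 2), (73, 4), (73, 8)]

/-- part 1 of a tree -/
def levelsTree0Part1 : List (ℕ × ℕ) := [(70, 4), (70, 8), (72, 8), (74, 7), (71, 7), (90, 1), (90, 4), (90, 8), (93, 5), (93, 8), (95, 7), (87, 4), (87, 8), (89, 3), (89, 8), (91, 7), (94, 7), (88, 7), (92, 3), (110, 6), (56, 8), (78, 4), (78, 8), (77, 8), (79, 7), (98, 4), (98, 8), (101, 5), (101, 8), (103, 7), (97, 3), (97, 8), (99, 7), (102, 7), (100, 3), (112, 4), (112, 8), (116, 3), (116, 5), (116, 8), (118, 7), (121, 8), (122, 7), (111,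 3), (111, 8), (113, 7), (115, 7), (115, 8), (117, 7), (119, 3), (123, 3), (114, 3), (120, 4), (139, 5), (105, 5), (105, 8), (107, 7), (106, 7), (126, 3), (126, 5), (126, 8), (128, 7), (131, 8), (132, 7), (125, 7), (125, 8), (127, 7), (129, 3), (133, 3), (130, 4), (141, 3), (141, 5), (141, 8), (143, 7), (146, 5), (146, 7), (146, 8), (149, 8), (150, 7), (152, 3), (155, 7), (156, 3), (140, 2), (140, 7), (140, 8), (142, 7), (144, 3), (147, 8), (148, 7), (151, 3), (153, 4), (157, 2), (145, 2), (145, 4), (154, 5), (135, 8), (136, 7), (137, 3), (158, 5), (158, 7)]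

/-- part 2 of a tree -/
def levelsTree0Part2 : List (ℕ × ℕ) := [(158, 8), (161, 8), (162, 7), (164, 3), (167, 7), (168, 3), (159, 8), (160, 7), (163, 3), (165, 4), (169, 2), (166, 5), (175, 2), (175, 5), (175, 7), (175, 8), (178, 8), (179, 7), (181, 3), (185, 4), (185, 7), (185, 8), (186, 8), (187, 7), (190, 7), (191, 3), (193, 4), (196, 3), (197, 2), (174, 7), (174, 8), (176, 8), (177, 7), (180, 3), (182, 2), (182, 4), (188, 7), (189, 3), (192, 2), (192, 4), (194, 5), (198, 1), (183, 4), (184, 5), (195, 6), (170, 7), (171, 3), (172, 2), (199, 4), (199, 7), (199, 8), (200, 8), (201, 7), (204, 7), (205, 3), (207, 4), (210, 3), (211, 2), (202, 7), (203, 3), (206, 2), (206, 4), (208, 5), (212, 1), (209, 6), (216, 5), (216, 7), (216, 8), (219, 4), (219, 7), (219, 8), (220, 8), (221, 7), (224,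 7), (225, 3), (227, 2), (227, 4), (232, 7), (232, 8), (233, 8), (234, 7), (235, 7), (236, 3), (239, 3), (240, 2), (240, 4), (243, 5), (246, 2), (246, 4), (247, 1), (217, 3), (217, 8), (218, 7), (222, 7), (223, 3), (226, 2), (226, 4), (228, 4), (229, 5), (237, 3)]

/-- part 3 of a tree -/
def levelsTree0Part3 : List (ℕ × ℕ) := [(238, 2), (238, 4), (241, 1), (241, 4), (242, 5), (244, 6), (248, 0), (230, 3), (230, 5), (231, 6), (213, 3), (214, 2), (215, 1), (249, 7), (249, 8), (250, 8), (251, 7), (252, 7), (253, 3), (256, 3), (257, 2), (257, 4), (260, 5), (263, 2), (263, 4), (264, 1), (254, 3), (255, 2), (255, 4), (258, 1), (258, 4), (259, 5), (261, 6), (265, 0), (269, 4), (269, 7), (269, 8), (270, 3), (270, 8), (271, 7), (275, 7), (275, 8), (276, 8), (277, 7), (278, 7), (279, 3), (282, 3),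 (283, 2), (283, 4), (286, 4), (287, 5), (293, 3), (293, 8), (294, 7), (295, 7), (296, 3), (297, 3), (298, 2), (298, 4), (302, 2), (302, 4), (303, 1), (303, 4), (304, 5), (308, 6), (310, 1), (310, 4), (312, 0), (272, 4), (272, 8), (273, 7), (274, 3), (280, 3), (281, 2), (281, 4), (284, 1), (284, 4), (285, 5), (288, 3), (288, 5), (289, 6), (299, 2), (299, 4), (300, 1), (300, 4), (301, 5), (305, 0), (305, 4), (306, 5), (307, 6), (290, 5), (290, 7), (291, 6), (266, 2), (266, 4), (267, 1), (268, 0), (314, 3), (314, 8), (315, 7)]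

/-- part 4 of a tree -/
def levelsTree0Part4 : List (ℕ × ℕ) := [(316, 7), (317, 3), (318, 3), (319, 2), (319, 4), (323, 2), (323, 4), (324, 1), (324, 4), (325, 5), (329, 6), (331, 1), (331, 4), (333, 0), (320, 2), (320, 4), (321, 1), (321, 4), (322, 5), (326, 0), (326, 4), (327, 5), (328, 6), (339, 3), (339, 7), (339, 8), (340, 3), (340, 8), (341, 7), (342, 4), (342, 8), (343, 7), (344, 3), (349, 3), (349, 8), (350, 7), (351, 7), (352, 3), (353, 3), (354, 2), (354, 4), (358, 2), (358, 4), (359, 1), (359, 4), (360, 5), (364, 3), (364, 5), (365, 6), (372, 2), (372, 8), (373, 7), (374, 3), (375, 3), (376, 2), (376, 4), (377, 2), (377, 4), (378, 1), (378, 4), (379, 5), (385, 1), (385, 4), (386, 5), (387, 0), (387, 4), (388, 5), (389, 6), (395, 0), (395, 4), (396, 3), (345, 5), (345, 8), (346,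 7), (347, 3), (348, 2), (348, 4), (355, 2), (355, 4), (356, 1), (356, 4), (357, 5), (361, 0), (361, 4), (362, 3), (362, 5), (363, 6), (366, 5), (366, 7), (367, 6), (380, 1), (380, 4), (381, 5), (382, 0), (382, 4), (383, 3), (383, 5), (384, 6), (390, 4), (391, 5)]

/-- part 5 of a tree -/
def levelsTree0Part5 : List (ℕ × ℕ) := [(392, 6), (369, 6), (335, 1), (335, 4), (337, 0), (398, 2), (398, 8), (399, 7), (400, 3), (401, 3), (402, 2), (402, 4), (403, 2), (403, 4), (404, 1), (404, 4), (405, 5), (411, 1), (411, 4), (412, 5), (413, 0), (413, 4), (414, 5), (415, 6), (421, 0), (421, 4), (422, 3), (406, 1), (406, 4), (407, 5), (408, 0), (408, 4), (409, 3), (409, 5), (410, 6), (416, 4), (417, 5), (418, 6), (427, 8), (428, 8), (429, 7), (430, 8), (431, 7), (432, 3), (433, 8), (434, 7), (435, 3),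 (436, 2), (436, 4), (443, 8), (444, 7), (445, 3), (446, 3), (447, 2), (447, 4), (448, 2), (448, 4), (449, 1), (449, 4), (450, 5), (456, 1), (456, 4), (457, 5), (458, 0), (458, 4), (459, 3), (459, 5), (460, 6), (466, 5), (466, 7), (467, 6), (473, 8), (474, 7), (475, 3), (476, 2), (476, 4), (477, 2), (477, 4), (478, 1), (478, 4), (479, 5), (480, 1), (480, 4), (481, 5), (482, 0), (482, 4), (483, 3), (483, 5), (484, 6), (493, 0), (493, 4), (494, 3), (494, 5), (495, 6), (496, 4), (497, 5), (498, 6), (503, 4), (504, 3), (505, 7)]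

/-- part 6 of a tree -/
def levelsTree0Part6 : List (ℕ × ℕ) := [(439, 3), (440, 2), (440, 4), (441, 1), (441, 4), (442, 5), (451, 1), (451, 4), (452, 5), (453, 0), (453, 4), (454, 3), (454, 5), (455, 6), (461, 4), (462, 3), (462, 5), (463, 5), (463, 7), (464, 6), (469, 6), (485, 0), (485, 4), (486, 3), (486, 5), (487, 6), (488, 4), (489, 3), (489, 5), (490, 5), (491, 6), (500, 5), (501, 6), (424, 0), (424, 4), (425, 3), (506, 1), (506, 8), (507, 7), (508, 3), (509, 2), (509, 4), (510, 2), (510, 4), (511, 1), (511, 4), (512, 5), (513, 1), (513, 4), (514, 5), (515, 0), (515, 4), (516, 3), (516, 5), (517, 6), (526, 0), (526, 4), (527, 3), (527, 5), (528, 6), (529, 4), (530, 5), (531, 6), (536, 4), (537, 3), (538, 7), (518, 0), (518, 4), (519, 3), (519, 5), (520, 6), (521, 4), (524, 6), (533,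 5), (534, 6), (542, 7), (543, 7), (544, 3), (545, 7), (546, 3), (547, 2), (547, 4), (549, 3), (550, 2), (550, 4), (551, 1), (551, 4), (552, 5), (559, 7), (560, 3), (561, 2), (561, 4), (562, 2), (562, 4), (563, 1), (563, 4), (564, 5), (565, 1), (565, 4), (566, 5)]

/-- part 7 of a tree -/
def levelsTree0Part7 : List (ℕ × ℕ) := [(567, 0), (567, 4), (568, 3), (568, 5), (569, 6), (578, 0), (578, 4), (579, 3), (579, 5), (580, 6), (581, 4), (582, 3), (582, 5), (583, 5), (583, 7), (584, 6), (592, 4), (592, 6), (592, 7), (593, 8), (596, 7), (597, 3), (598, 2), (598, 4), (599, 1), (599, 4), (600, 5), (601, 1), (601, 4), (602, 5), (603, 0), (603, 4), (604, 3), (604, 5), (605, 6), (606, 0), (606, 4), (607, 3), (607, 5), (608, 6), (609, 4), (610, 3), (610, 5), (611, 5), (612, 6), (624, 4), (625, 3),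 (625, 5), (626, 5), (626, 7), (627, 6), (629, 5), (630, 6), (634, 3), (635, 2), (635, 7), (636, 8), (553, 2), (554, 1), (554, 4), (556, 0), (556, 4), (557, 3), (557, 5), (570, 0), (570, 4), (571, 3), (571, 5), (572, 6), (573, 4), (574, 3), (574, 5), (575, 5), (575, 7), (576, 6), (586, 3), (586, 5), (587, 5), (587, 7), (588, 6), (589, 6), (614, 4), (615, 3), (615, 5), (617, 6), (620, 2), (621, 6), (622, 6), (632, 6), (539, 4), (540, 3), (541, 7), (639, 3), (640, 2), (640, 4), (641, 1), (641, 4), (642, 5), (643, 1), (643, 4)]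

/-- part 8 of a tree -/
def levelsTree0Part8 : List (ℕ × ℕ) := [(644, 5), (645, 0), (645, 4), (646, 3), (646, 5), (647, 6), (648, 0), (648, 4), (649, 3), (649, 5), (650, 6), (651, 4), (652, 3), (652, 5), (653, 5), (654, 6), (663, 4), (664, 3), (664, 5), (665, 5), (665, 7), (666, 6), (668, 5), (669, 6), (673, 3), (671, 6), (679, 3), (680, 3), (681, 2), (681, 4), (682, 3), (683, 2), (683, 4), (684, 1), (684, 4), (685, 5), (686, 2), (687, 1), (687, 4), (688, 5), (689, 0), (689, 4), (690, 3), (690, 5), (691, 6), (700, 3), (701, 2), (701, 4), (702, 1), (702, 4), (703, 5), (704, 1), (704, 4), (705, 5), (706, 0), (706, 4), (707, 3), (707, 5), (708, 6), (709, 0), (709, 4), (710, 3), (710, 5), (711, 6), (712, 4), (713, 3), (713, 5), (714, 5), (714, 7), (715, 6), (728, 4), (729, 3), (729, 5), (730,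 5), (730, 7), (731, 6), (733, 3), (733, 5), (734, 5), (734, 7), (735, 6), (736, 4), (736, 6), (736, 7), (737, 8), (745, 6), (745, 7), (749, 4), (750, 1), (750, 4), (751, 5), (752, 0), (752, 4), (753, 3), (753, 5), (754, 6), (755, 0), (755, 4), (756, 3), (756, 5)]

/-- part 9 of a tree -/
def levelsTree0Part9 : List (ℕ × ℕ) := [(757, 6), (758, 4), (759, 3), (759, 5), (760, 5), (760, 7), (761, 6), (763, 4), (764, 3), (764, 5), (765, 5), (766, 6), (768, 3), (768, 5), (769, 2), (769, 5), (770, 6), (771, 4), (771, 6), (780, 3), (780, 5), (781, 2), (781, 5), (781, 7), (782, 6), (783, 6), (783, 7), (784, 8), (786, 6), (789, 2), (790, 7), (692, 1), (693, 0), (693, 4), (694, 3), (695, 4), (696, 3), (696, 5), (697, 5), (697, 7), (717, 4), (718, 3), (718, 5), (719, 5), (719, 7), (720, 6), (722, 3),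 (722, 5), (723, 2), (723, 5), (723, 7), (724, 6), (725, 6), (739, 5), (739, 7), (740, 6), (741, 6), (793, 4), (794, 4), (795, 5), (796, 4), (797, 3), (797, 5), (798, 6), (799, 0), (799, 4), (800, 3), (800, 5), (801, 6), (802, 4), (803, 3), (803, 5), (804, 5), (804, 7), (805, 6), (808, 5), (809, 5), (810, 6), (812, 5), (815, 4), (817, 3), (817, 5), (818, 5), (819, 6), (820, 6), (820, 7), (823, 6), (827, 2), (827, 4), (828, 2), (828, 4), (829, 1), (829, 4), (830, 5), (831, 2), (831, 4), (832, 1), (832, 4), (833, 5), (834, 0)]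

/-- part 10 of a tree -/
def levelsTree0Part10 : List (ℕ × ℕ) := [(834, 4), (835, 3), (835, 5), (836, 6), (837, 1), (838, 0), (838, 4), (839, 3), (839, 5), (841, 4), (842, 3), (842, 5), (843, 5), (843, 7), (844, 6), (856, 2), (856, 4), (857, 1), (857, 4), (858, 5), (859, 0), (859, 4), (860, 3), (860, 5), (861, 6), (862, 0), (862, 4), (863, 3), (863, 5), (864, 6), (865, 4), (866, 3), (866, 5), (867, 5), (867, 7), (868, 6), (870, 4), (871, 3), (871, 5), (872, 5), (872, 7), (873, 6), (875, 3), (875, 5), (876, 2), (876, 5), (876, 7), (877, 6), (878, 4), (878, 6), (878, 7), (879, 8), (894, 3), (894, 5), (895, 2), (895, 5), (895, 7), (896, 6), (897, 4), (897, 6), (897, 7), (898, 8), (900, 5), (900, 7), (901, 6), (902, 4), (902, 6), (902, 7), (903, 8), (905, 6), (905, 7), (913, 3), (914, 5), (915,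 4), (916, 3), (916, 5), (917, 6), (918, 4), (919, 3), (919, 5), (920, 5), (920, 7), (921, 6), (923, 4), (924, 3), (924, 5), (925, 5), (925, 7), (926, 6), (928, 3), (928, 5), (929, 2), (929, 5), (929, 7), (930, 6), (931, 4), (931, 6), (931, 7), (932, 8), (934, 5)]

/-- part 11 of a tree -/
def levelsTree0Part11 : List (ℕ × ℕ) := [(935, 2), (935, 5), (936, 6), (937, 4), (939, 2), (941, 5), (942, 4), (944, 6), (946, 2), (946, 5), (947, 6), (948, 5), (948, 7), (949, 6), (949, 7), (952, 7), (953, 8), (957, 3), (846, 0), (847, 4), (848, 3), (850, 3), (850, 5), (851, 2), (851, 5), (851, 7), (853, 4), (853, 7), (881, 3), (882, 2), (882, 5), (882, 7), (884, 6), (887, 7), (889, 7), (890, 6), (908, 6), (958, 5), (959, 3), (959, 5), (960, 6), (961, 3), (961, 5), (962, 5), (962, 7), (963, 6), (965, 4),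 (966, 3), (966, 5), (967, 5), (967, 7), (968, 6), (970, 3), (970, 5), (971, 5), (972, 6), (973, 4), (973, 6), (973, 7), (981, 5), (982, 6), (983, 6), (985, 7), (988, 1), (988, 4), (989, 5), (990, 1), (990, 4), (991, 5), (992, 0), (992, 4), (993, 3), (993, 5), (994, 6), (995, 1), (995, 4), (997, 0), (997, 4), (998, 3), (998, 5), (1000, 4), (1001, 3), (1001, 5), (1002, 5), (1002, 7), (1003, 6), (1005, 0), (1006, 4), (1007, 3), (1007, 5), (1008, 5), (1010, 3), (1010, 5), (1011, 2), (1011, 5), (1011, 7), (1012, 6), (1013, 4), (1013, 6), (1013, 7)]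

/-- part 12 of a tree -/
def levelsTree0Part12 : List (ℕ × ℕ) := [(1014, 8), (1028, 4), (1029, 5), (1030, 4), (1031, 3), (1031, 5), (1032, 6), (1033, 4), (1034, 3), (1034, 5), (1035, 5), (1035, 7), (1036, 6), (1038, 4), (1039, 3), (1039, 5), (1040, 5), (1040, 7), (1041, 6), (1043, 3), (1043, 5), (1044, 2), (1044, 5), (1044, 7), (1045, 6), (1046, 4), (1046, 6), (1046, 7), (1047, 8), (1049, 3), (1049, 5), (1050, 2), (1050, 5), (1050, 7), (1051, 6), (1052, 4), (1052, 6), (1052, 7), (1053, 8), (1055, 2), (1055, 5), (1055, 7), (1056, 6), (1057, 5), (1057, 7), (1058, 4), (1058, 6), (1058, 7), (1059, 8), (1061, 6), (1061, 7), (1074, 2), (1074, 5), (1074, 7), (1075, 6), (1076, 5), (1076, 7), (1077, 4), (1077, 6), (1077, 7), (1078, 8), (1080, 6), (1080, 7), (1081, 7), (1082, 8), (1084, 4), (1084,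 6), (1084, 7), (1085, 8), (1087, 6), (1087, 7), (1091, 3), (1093, 2), (1094, 6), (1095, 3), (1095, 5), (1096, 5), (1097, 6), (1099, 3), (1099, 5), (1100, 2), (1100, 5), (1100, 7), (1101, 6), (1102, 4), (1102, 6), (1102, 7), (1103, 8), (1105, 3), (1105, 5), (1106, 2), (1106, 5), (1106, 7), (1107, 6), (1108, 4), (1108, 6), (1108, 7), (1109, 8), (1111, 2), (1111, 5)]

/-- part 13 of a tree -/
def levelsTree0Part13 : List (ℕ × ℕ) := [(1112, 6), (1113, 5), (1113, 7), (1114, 4), (1114, 6), (1114, 7), (1117, 6), (1117, 7), (1118, 7), (1119, 8), (1125, 4), (1128, 5), (1129, 6), (1131, 6), (1131, 7), (1132, 3), (1133, 7), (1135, 8), (1137, 4), (1017, 3), (1018, 2), (1019, 2), (1019, 5), (1019, 7), (1022, 4), (1138, 6), (1139, 5), (1140, 6), (1142, 2), (1142, 5), (1142, 7), (1143, 6), (1144, 4), (1144,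 6), (1144, 7), (1147, 3), (1148, 5), (1150, 4), (1150, 6), (1150, 7), (1153, 5), (1157, 7), (1158, 7), (1160, 6), (1164, 0), (1164, 4), (1165, 3), (1165, 5), (1166, 6), (1167, 4), (1168, 3), (1168, 5), (1170, 4), (1171, 3), (1171, 5), (1172, 5), (1172, 7), (1173, 6), (1175, 0), (1175, 4), (1176, 3), (1177, 4), (1178, 3), (1178, 5), (1179, 5), (1179, 7), (1181, 3), (1181, 5), (1182, 2), (1182, 5), (1182, 7), (1183, 6), (1184, 4), (1184, 6), (1184, 7), (1185, 8), (1188, 3), (1188, 5), (1189, 2), (1189, 5), (1191, 4), (1192, 2), (1192, 5), (1192, 7), (1193, 6), (1194, 5), (1194, 7), (1195, 4), (1195, 6), (1195, 7), (1196, 8), (1198, 6), (1198, 7), (1199, 7), (1200, 8), (1211, 3), (1211, 5), (1212, 6), (1213, 3), (1213, 5)]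

/-- part 14 of a tree -/
def levelsTree0Part14 : List (ℕ × ℕ) := [(1214, 5), (1214, 7), (1215, 6), (1217, 3), (1217, 5), (1218, 2), (1218, 5), (1218, 7), (1219, 6), (1220, 4), (1220, 6), (1220, 7), (1221, 8), (1223, 3), (1223, 5), (1224, 2), (1224, 5), (1224, 7), (1225, 6), (1226, 4), (1226, 6), (1226, 7), (1227, 8), (1229, 2), (1229, 5), (1229, 7), (1230, 6), (1231, 5), (1231, 7), (1232, 4), (1232, 6), (1232, 7), (1233, 8), (1235, 6), (1235, 7), (1236, 7), (1237, 8), (1239, 5), (1241, 5), (1242, 4), (1242, 6), (1242, 7), (1245, 6), (1245, 7), (1249, 4), (1249, 7), (1252, 4), (1252, 7), (1254, 6), (1254, 7), (1258, 3), (1259, 5), (1259, 7), (1260, 4), (1260, 6), (1260, 7), (1261, 8), (1263, 4), (1263, 6), (1263, 7), (1264, 3), (1264, 8), (1265, 6), (1265, 7), (1266, 7), (1267, 8), (1269,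 7), (1270, 3), (1270, 8), (1271, 8), (1273, 6), (1273, 7), (1277, 3), (1278, 2), (1279, 1), (1281, 2), (1281, 5), (1282, 6), (1283, 4), (1283, 6), (1285, 2), (1285, 5), (1285, 7), (1286, 6), (1287, 5), (1287, 7), (1288, 4), (1288, 6), (1288, 7), (1289, 8), (1291, 6), (1291, 7), (1292, 7), (1293, 8), (1295, 2), (1295, 5), (1297, 5), (1297, 7), (1298, 4), (1298, 6)]

/-- part 15 of a tree -/
def levelsTree0Part15 : List (ℕ × ℕ) := [(1298, 7), (1305, 5), (1308, 4), (1308, 6), (1308, 7), (1309, 3), (1310, 7), (1311, 7), (1317, 3), (1318, 6), (1320, 7), (1321, 3), (1322, 4), (1325, 5), (1327, 4), (1327, 6), (1329, 5), (1330, 4), (1330, 6), (1330, 7), (1345, 4), (1346, 3), (1346, 5), (1347, 5), (1347, 7), (1348, 6), (1350, 3), (1350, 5), (1351, 5), (1351, 7), (1353, 3), (1353, 5), (1354, 2), (1354,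 5), (1354, 7), (1355, 6), (1356, 4), (1356, 6), (1356, 7), (1357, 8), (1359, 4), (1360, 3), (1361, 7), (1362, 3), (1362, 5), (1363, 2), (1363, 5), (1363, 7), (1365, 4), (1365, 7), (1366, 8), (1367, 2), (1367, 5), (1367, 7), (1368, 6), (1369, 5), (1369, 7), (1370, 4), (1370, 6), (1370, 7), (1371, 8), (1373, 6), (1373, 7), (1374, 7), (1375, 8), (1377, 5), (1379, 5), (1380, 4), (1382, 5), (1383, 4), (1383, 6), (1383, 7), (1386, 4), (1388, 6), (1388, 7), (1390, 8), (1392, 5), (1392, 7), (1393, 3), (1396, 5), (1396, 7), (1397, 6), (1399, 2), (1399, 5), (1399, 7), (1400, 6), (1401, 4), (1401, 6), (1401, 7), (1402, 8), (1404, 2), (1404, 5), (1404, 7), (1405, 6), (1406, 5), (1406, 7), (1407, 4), (1407, 6), (1407, 7), (1408, 8)]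

/-- part 16 of a tree -/
def levelsTree0Part16 : List (ℕ × ℕ) := [(1410, 6), (1410, 7), (1411, 7), (1412, 8), (1414, 2), (1414, 5), (1414, 7), (1416, 5), (1416, 7), (1417, 4), (1417, 6), (1417, 7), (1418, 8), (1420, 6), (1420, 7), (1421, 7), (1422, 8), (1424, 1), (1424, 5), (1424, 7), (1425, 4), (1425, 6), (1425, 7), (1426, 8), (1428, 4), (1428, 6), (1428, 7), (1429, 3), (1429, 8), (1430, 6), (1430, 7), (1431, 7), (1432, 8), (1434, 5), (1434, 7), (1435, 3), (1435, 8), (1436, 8), (1438, 4), (1439, 4), (1440, 6), (1440, 7), (1445, 7), (1447, 3), (1447, 7), (1450, 3), (1451, 2), (1452, 4), (1452, 6), (1452, 7), (1453, 8), (1454, 6), (1454, 7), (1455, 7), (1456, 8), (1458, 6), (1458, 7), (1459, 7), (1460, 3), (1460, 8), (1461, 4), (1461, 8), (1463, 7), (1464, 3), (1464, 8), (1465, 8), (1467,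 8), (1468, 2), (1468, 8), (1472, 3), (1473, 2), (1474, 1), (1475, 0), (1476, 5), (1477, 4), (1477, 6), (1481, 1), (1481, 5), (1481, 7), (1482, 4), (1482, 6), (1482, 7), (1485, 4), (1485, 6), (1485, 7), (1486, 3), (1489, 8), (1495, 5), (1497, 4), (1497, 6), (1497, 7), (1503, 3), (1503, 7), (1504, 7), (1505, 3), (1506, 4), (1509, 7), (1511, 3), (1512, 4), (1513, 5)]

/-- part 17 of a tree -/
def levelsTree0Part17 : List (ℕ × ℕ) := [(1521, 3), (1521, 5), (1522, 2), (1522, 5), (1522, 7), (1523, 6), (1524, 4), (1524, 6), (1524, 7), (1525, 8), (1527, 2), (1527, 5), (1527, 7), (1529, 4), (1529, 7), (1530, 8), (1531, 2), (1531, 5), (1531, 7), (1532, 6), (1533, 5), (1533, 7), (1534, 4), (1534, 6), (1534, 7), (1535, 8), (1537, 6), (1537, 7), (1538, 7), (1539, 8), (1541, 3), (1542, 2), (1542, 7), (1543,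 8), (1544, 2), (1544, 5), (1544, 7), (1546, 5), (1546, 7), (1547, 4), (1547, 7), (1548, 8), (1549, 7), (1550, 8), (1552, 1), (1552, 5), (1552, 7), (1553, 4), (1553, 6), (1553, 7), (1554, 8), (1556, 4), (1556, 6), (1556, 7), (1557, 3), (1557, 8), (1558, 6), (1558, 7), (1559, 7), (1560, 8), (1562, 5), (1562, 7), (1563, 3), (1563, 8), (1564, 8), (1566, 4), (1567, 4), (1569, 4), (1570, 6), (1570, 7), (1573, 3), (1574, 5), (1575, 3), (1578, 3), (1579, 2), (1580, 4), (1580, 6), (1580, 7), (1581, 8), (1583, 5), (1583, 7), (1584, 4), (1584, 6), (1584, 7), (1585, 8), (1587, 6), (1587, 7), (1588, 7), (1589, 8), (1591, 1), (1591, 5), (1591, 7), (1592, 4), (1592, 6), (1592, 7), (1593, 8), (1595, 4), (1595, 6), (1595, 7), (1596, 3)]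

/-- part 18 of a tree -/
def levelsTree0Part18 : List (ℕ × ℕ) := [(1596, 8), (1597, 6), (1597, 7), (1598, 7), (1599, 8), (1601, 5), (1601, 7), (1602, 3), (1602, 8), (1603, 8), (1605, 1), (1605, 5), (1605, 7), (1606, 4), (1606, 7), (1607, 8), (1608, 4), (1608, 6), (1608, 7), (1609, 3), (1609, 8), (1610, 6), (1610, 7), (1611, 7), (1612, 8), (1614, 7), (1615, 3), (1615, 8), (1616, 8), (1618, 5), (1619, 4), (1619, 6), (1619, 7), (1620, 8), (1621, 6), (1621, 7), (1622, 7), (1623, 8), (1625, 3), (1625, 6), (1625, 7), (1626, 7), (1627, 3), (1627, 8), (1628, 4), (1628, 8), (1630, 5), (1630, 7), (1631, 3), (1631, 8), (1632, 8), (1635, 8), (1636, 2), (1636, 8), (1643, 3), (1644, 7), (1645, 3), (1646, 2), (1647, 1), (1648, 6), (1648, 7), (1649, 7), (1650, 8), (1652, 7), (1653, 3), (1653, 8), (1654,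 8), (1656, 7), (1657, 3), (1657, 8), (1658, 3), (1658, 8), (1659, 4), (1659, 8), (1661, 5), (1661, 8), (1663, 8), (1664, 2), (1664, 8), (1668, 1), (1668, 8), (1670, 2), (1671, 1), (1672, 0), (1674, 4), (1674, 6), (1677, 5), (1678, 4), (1678, 6), (1678, 7), (1683, 3), (1685, 3), (1686, 4), (1692, 7), (1693, 3), (1694, 3), (1695, 4), (1696, 5), (1697, 8), (1698, 4)]

/-- part 19 of a tree -/
def levelsTree0Part19 : List (ℕ × ℕ) := [(1699, 5), (1701, 2), (1701, 5), (1701, 7), (1702, 6), (1703, 5), (1703, 7), (1704, 4), (1704, 6), (1704, 7), (1705, 8), (1707, 6), (1707, 7), (1708, 7), (1709, 8), (1711, 5), (1711, 7), (1712, 4), (1712, 7), (1713, 8), (1714, 7), (1715, 8), (1717, 1), (1717, 5), (1717, 7), (1718, 4), (1718, 6), (1718, 7), (1719, 8), (1721, 4), (1721, 6), (1721, 7), (1722, 3), (1722,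 8), (1723, 6), (1723, 7), (1724, 7), (1725, 8), (1727, 5), (1727, 7), (1728, 3), (1728, 8), (1729, 8), (1731, 2), (1731, 7), (1732, 7), (1733, 8), (1735, 1), (1735, 5), (1735, 7), (1736, 4), (1736, 7), (1737, 8), (1738, 4), (1738, 7), (1739, 3), (1739, 8), (1740, 7), (1741, 8), (1743, 8), (1745, 5), (1745, 7), (1746, 4), (1746, 6), (1746, 7), (1747, 3), (1747, 8), (1748, 6), (1748, 7), (1749, 7), (1750, 8), (1752, 3), (1752, 6), (1752, 7), (1753, 7), (1754, 3), (1754, 8), (1755, 4), (1755, 8), (1757, 5), (1757, 7), (1758, 3), (1758, 8), (1759, 8), (1761, 7), (1762, 3), (1762, 8), (1763, 2), (1763, 8), (1767, 3), (1768, 3), (1770, 3), (1771, 7), (1773, 2), (1774, 2), (1775, 1), (1776, 6), (1776, 7), (1777, 7), (1778, 8)]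

/-- part 20 of a tree -/
def levelsTree0Part20 : List (ℕ × ℕ) := [(1780, 4), (1780, 6), (1780, 7), (1781, 8), (1782, 6), (1782, 7), (1783, 7), (1784, 8), (1786, 7), (1787, 3), (1787, 8), (1788, 8), (1790, 5), (1790, 7), (1791, 4), (1791, 6), (1791, 7), (1792, 3), (1792, 8), (1793, 6), (1793, 7), (1794, 7), (1795, 8), (1797, 3), (1797, 6), (1797, 7), (1798, 7), (1799, 3), (1799, 8), (1800, 4), (1800, 8), (1802, 5), (1802, 7), (1803, 3), (1803, 8), (1804, 8), (1806, 7), (1807, 3), (1807, 8), (1808, 2), (1808, 8), (1811, 5), (1812, 4), (1812, 7), (1813, 8), (1814, 7), (1815, 8), (1817, 3), (1817, 6), (1817, 7), (1818, 7), (1819, 3), (1819, 8), (1820, 8), (1822, 7), (1823, 3), (1823, 8), (1824, 8), (1826, 8), (1827, 8), (1830, 4), (1830, 6), (1831, 7), (1832, 7), (1833, 8), (1835, 7), (1836,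 3), (1836, 8), (1837, 8), (1839, 7), (1840, 5), (1840, 7), (1841, 3), (1841, 8), (1842, 3), (1842, 8), (1843, 4), (1843, 8), (1845, 5), (1845, 8), (1848, 8), (1849, 2), (1849, 8), (1853, 1), (1853, 8), (1855, 2), (1856, 3), (1856, 8), (1857, 2), (1858, 1), (1859, 0), (1860, 7), (1861, 3), (1861, 8), (1862, 8), (1864, 8), (1865, 2), (1865, 8), (1868, 3), (1868, 8)]

/-- part 21 of a tree -/
def levelsTree0Part21 : List (ℕ × ℕ) := [(1869, 2), (1869, 4), (1869, 8), (1871, 4), (1871, 8), (1873, 5), (1873, 8), (1875, 6), (1875, 8), (1878, 1), (1878, 8), (1880, 8), (1882, 1), (1883, 0), (1888, 3), (1891, 7), (1892, 4), (1893, 5), (1894, 3), (1894, 8), (1895, 4), (1896, 4), (1897, 5), (1900, 5), (1902, 1), (1902, 5), (1902, 7), (1903, 4), (1903, 6), (1903, 7), (1904, 8), (1906, 7), (1907, 3), (1907,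 8), (1908, 7), (1909, 7), (1910, 8), (1912, 7), (1913, 3), (1913, 8), (1914, 8), (1916, 4), (1916, 7), (1917, 3), (1917, 8), (1918, 7), (1919, 8), (1921, 3), (1921, 8), (1923, 5), (1923, 7), (1924, 4), (1924, 6), (1924, 7), (1925, 3), (1925, 8), (1926, 6), (1926, 7), (1927, 7), (1928, 8), (1930, 3), (1930, 6), (1930, 7), (1931, 7), (1932, 3), (1932, 8), (1933, 4), (1933, 8), (1935, 5), (1935, 7), (1936, 3), (1936, 8), (1937, 8), (1939, 7), (1940, 3), (1940, 8), (1941, 2), (1941, 8), (1944, 1), (1944, 7), (1945, 8), (1946, 3), (1946, 8), (1948, 5), (1948, 7), (1949, 4), (1949, 7), (1950, 3), (1950, 8), (1951, 7), (1952, 8), (1954, 3), (1954, 7), (1955, 3), (1955, 8), (1956, 4), (1956, 8), (1958, 8), (1961, 4), (1961, 6)]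

/-- part 22 of a tree -/
def levelsTree0Part22 : List (ℕ × ℕ) := [(1961, 7), (1962, 8), (1963, 3), (1963, 6), (1963, 7), (1964, 7), (1965, 3), (1965, 8), (1966, 8), (1968, 7), (1969, 3), (1969, 8), (1970, 8), (1972, 6), (1972, 7), (1973, 5), (1973, 7), (1974, 3), (1974, 8), (1975, 3), (1975, 8), (1976, 4), (1976, 8), (1978, 5), (1978, 8), (1979, 7), (1980, 7), (1981, 3), (1981, 8), (1982, 2), (1982, 8), (1985, 8), (1986, 2), (1986, 8), (1988, 1), (1988, 8), (1990, 7), (1993, 8), (1994, 1), (1995, 1), (1996, 0), (1997, 7), (1998, 3), (1998, 8), (1999, 8), (2001, 3), (2001, 6), (2001, 7), (2002, 7), (2003, 8), (2005, 7), (2006, 3), (2006, 8), (2007, 8), (2009, 3), (2009, 8), (2010, 2), (2010, 8), (2013, 4), (2013, 7), (2014, 8), (2015, 3), (2015, 6), (2015, 7), (2016, 7), (2017, 3), (2017,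 8), (2018, 8), (2020, 5), (2020, 7), (2021, 3), (2021, 8), (2022, 8), (2024, 6), (2024, 7), (2025, 5), (2025, 7), (2026, 3), (2026, 8), (2027, 3), (2027, 8), (2028, 4), (2028, 8), (2030, 5), (2030, 8), (2032, 7), (2033, 3), (2033, 8), (2034, 2), (2034, 8), (2037, 8), (2038, 8), (2040, 1), (2040, 8), (2041, 7), (2043, 7), (2044, 8), (2046, 8), (2048, 7), (2049, 7)]

/-- part 23 of a tree -/
def levelsTree0Part23 : List (ℕ × ℕ) := [(2050, 3), (2050, 8), (2051, 3), (2051, 8), (2052, 4), (2052, 8), (2055, 8), (2056, 2), (2056, 8), (2063, 3), (2063, 8), (2064, 8), (2066, 8), (2067, 2), (2067, 8), (2070, 3), (2070, 8), (2072, 3), (2072, 8), (2073, 2), (2073, 4), (2073, 8), (2075, 4), (2075, 8), (2077, 5), (2077, 8), (2079, 6), (2079, 8), (2082, 1), (2082, 8), (2084, 0), (2084, 8), (2086, 1), (2087,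 2), (2087, 8), (2089, 1), (2090, 0), (2092, 3), (2092, 8), (2093, 2), (2093, 8), (2097, 1), (2097, 8), (2099, 4), (2099, 8), (2101, 1), (2101, 4), (2101, 8), (2102, 5), (2102, 8), (2103, 7), (2104, 5), (2104, 8), (2106, 8), (2108, 8), (2110, 8), (2113, 0), (2116, 8), (2117, 5), (2119, 4), (2119, 8), (2121, 5), (2122, 5), (2125, 7), (2126, 7), (2127, 3), (2127, 8), (2128, 7), (2129, 7), (2130, 8), (2132, 3), (2132, 8), (2133, 4), (2133, 8), (2135, 3), (2135, 8), (2136, 8), (2138, 3), (2138, 8), (2139, 2), (2139, 8), (2142, 3), (2142, 7), (2143, 3), (2143, 8), (2144, 8), (2146, 3), (2146, 8), (2148, 8), (2150, 4), (2150, 6), (2150, 7), (2151, 3), (2151, 8), (2152, 3), (2152, 6), (2152, 7), (2153, 7), (2154, 3), (2154, 8)]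

/-- part 24 of a tree -/
def levelsTree0Part24 : List (ℕ × ℕ) := [(2155, 4), (2155, 8), (2157, 5), (2157, 7), (2158, 3), (2158, 8), (2159, 8), (2161, 6), (2161, 7), (2162, 5), (2162, 7), (2163, 3), (2163, 8), (2164, 3), (2164, 8), (2165, 4), (2165, 8), (2167, 5), (2167, 8), (2168, 7), (2169, 7), (2170, 3), (2170, 8), (2171, 2), (2171, 8), (2174, 3), (2174, 8), (2175, 2), (2175, 8), (2177, 1), (2177, 8), (2178, 7), (2179, 7), (2180, 3), (2180, 8), (2182, 4), (2182, 8), (2184, 4), (2184, 7), (2185, 8), (2186, 7), (2187, 3), (2187, 8), (2188, 8), (2190, 8), (2192, 7), (2193, 3), (2193, 8), (2194, 4), (2194, 8), (2196, 5), (2196, 8), (2197, 7), (2199, 3), (2199, 6), (2199, 7), (2200, 7), (2201, 8), (2203, 7), (2204, 7), (2205, 3), (2205, 8), (2206, 3), (2206, 8), (2207, 4), (2207, 8), (2209,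 7), (2210, 8), (2211, 2), (2211, 8), (2215, 3), (2215, 8), (2216, 7), (2217, 3), (2217, 8), (2218, 2), (2218, 4), (2218, 8), (2220, 4), (2220, 8), (2222, 5), (2222, 8), (2223, 7), (2224, 6), (2224, 8), (2225, 7), (2227, 8), (2228, 8), (2230, 1), (2230, 8), (2233, 1), (2233, 8), (2235, 0), (2235, 8), (2237, 8), (2239, 0), (2242, 3), (2242, 8), (2243, 2), (2243, 8)]

/-- part 25 of a tree -/
def levelsTree0Part25 : List (ℕ × ℕ) := [(2246, 7), (2247, 7), (2248, 3), (2248, 8), (2249, 8), (2251, 3), (2251, 8), (2252, 2), (2252, 8), (2255, 8), (2257, 1), (2257, 8), (2258, 7), (2259, 7), (2260, 8), (2262, 7), (2263, 5), (2263, 7), (2264, 3), (2264, 8), (2265, 8), (2266, 4), (2266, 8), (2269, 7), (2270, 3), (2270, 8), (2271, 2), (2271, 8), (2275, 3), (2275, 8), (2276, 7), (2277, 3), (2277, 8), (2278,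 2), (2278, 4), (2278, 8), (2280, 8), (2282, 5), (2282, 8), (2284, 6), (2284, 8), (2286, 8), (2287, 2), (2287, 8), (2289, 1), (2289, 8), (2290, 7), (2292, 7), (2293, 0), (2293, 8), (2294, 7), (2296, 3), (2296, 8), (2299, 3), (2299, 8), (2300, 3), (2300, 8), (2301, 2), (2301, 4), (2301, 8), (2303, 8), (2305, 8), (2308, 8), (2310, 2), (2310, 8), (2314, 1), (2314, 8), (2316, 2), (2316, 4), (2316, 8), (2318, 4), (2318, 8), (2320, 1), (2320, 4), (2320, 8), (2321, 5), (2321, 8), (2322, 7), (2323, 5), (2323, 8), (2325, 6), (2325, 8), (2327, 8), (2329, 8), (2331, 8), (2333, 0), (2334, 1), (2334, 8), (2336, 0), (2338, 8), (2340, 1), (2340, 8), (2341, 7), (2342, 8), (2344, 5), (2344, 8), (2345, 7), (2346, 4), (2346, 8), (2347, 5)]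

/-- part 26 of a tree -/
def levelsTree0Part26 : List (ℕ × ℕ) := [(2347, 8), (2348, 7), (2349, 8), (2350, 7), (2352, 8), (2360, 5), (2360, 8), (2364, 3), (2364, 8), (2365, 3), (2365, 8), (2366, 4), (2366, 8), (2368, 3), (2368, 8), (2369, 8), (2371, 4), (2371, 8), (2373, 5), (2373, 8), (2374, 7), (2375, 2), (2375, 8), (2378, 2), (2378, 8), (2380, 1), (2380, 8), (2381, 7), (2382, 7), (2383, 3), (2383, 8), (2384, 4), (2384, 8), (2386, 7), (2387, 2), (2387, 8), (2389, 7), (2390, 6), (2390, 7), (2391, 7), (2392, 3), (2392, 8), (2393, 2), (2393, 8), (2395, 6), (2395, 7), (2396, 5), (2396, 7), (2397, 3), (2397, 8), (2398, 8), (2399, 4), (2399, 8), (2401, 5), (2401, 8), (2402, 7), (2403, 7), (2404, 8), (2405, 2), (2405, 8), (2408, 7), (2409, 3), (2409, 8), (2410, 7), (2411, 3), (2411, 8), (2412,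 2), (2412, 4), (2412, 8), (2414, 8), (2416, 5), (2416, 8), (2417, 7), (2418, 6), (2418, 8), (2419, 7), (2421, 3), (2421, 8), (2422, 8), (2424, 1), (2424, 8), (2425, 7), (2426, 4), (2426, 8), (2428, 1), (2428, 8), (2429, 7), (2430, 0), (2430, 8), (2431, 7), (2433, 3), (2433, 8), (2434, 8), (2436, 5), (2436, 8), (2437, 7), (2438, 7), (2439, 8), (2441, 3), (2441, 8)]

/-- part 27 of a tree -/
def levelsTree0Part27 : List (ℕ × ℕ) := [(2442, 4), (2442, 8), (2444, 7), (2446, 3), (2446, 8), (2447, 4), (2447, 8), (2449, 5), (2449, 8), (2450, 7), (2451, 6), (2451, 8), (2452, 7), (2454, 7), (2455, 7), (2456, 3), (2456, 8), (2457, 8), (2459, 3), (2459, 8), (2460, 3), (2460, 8), (2461, 2), (2461, 4), (2461, 8), (2463, 4), (2463, 8), (2465, 8), (2466, 7), (2469, 8), (2471, 4), (2471, 8), (2473, 3), (2473,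 8), (2474, 4), (2474, 8), (2476, 1), (2476, 4), (2476, 8), (2477, 5), (2477, 8), (2478, 7), (2479, 5), (2479, 8), (2480, 7), (2481, 6), (2481, 8), (2482, 7), (2484, 8), (2485, 7), (2489, 0), (2489, 8), (2491, 8), (2493, 8), (2497, 8), (2499, 1), (2499, 8), (2500, 7), (2501, 3), (2501, 8), (2502, 3), (2502, 8), (2503, 2), (2503, 8), (2506, 8), (2508, 1), (2508, 8), (2509, 7), (2510, 7), (2511, 0), (2511, 8), (2512, 7), (2514, 3), (2514, 8), (2516, 3), (2516, 8), (2517, 7), (2518, 3), (2518, 8), (2519, 2), (2519, 4), (2519, 8), (2522, 8), (2524, 8), (2525, 2), (2525, 8), (2527, 8), (2528, 7), (2529, 2), (2529, 8), (2531, 3), (2531, 8), (2532, 2), (2532, 8), (2534, 1), (2534, 4), (2534, 8), (2535, 5), (2535, 8), (2536, 7)]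

/-- part 28 of a tree -/
def levelsTree0Part28 : List (ℕ × ℕ) := [(2538, 6), (2538, 8), (2540, 8), (2543, 8), (2544, 7), (2545, 0), (2545, 8), (2546, 7), (2549, 8), (2550, 7), (2552, 8), (2554, 8), (2556, 8), (2558, 4), (2558, 8), (2559, 8), (2560, 7), (2564, 1), (2564, 8), (2565, 7), (2566, 8), (2568, 1), (2568, 4), (2568, 8), (2569, 5), (2569, 8), (2570, 7), (2571, 5), (2571, 8), (2572, 7), (2573, 0), (2573, 4), (2573, 8), (2574, 5), (2574, 8), (2575, 7), (2576, 8), (2577, 7), (2579, 8), (2581, 8), (2587, 0), (2587, 8), (2590, 7), (2591, 8), (2592, 7), (2595, 8), (2596, 7), (2598, 5), (2598, 8), (2599, 7), (2600, 8), (2601, 7), (2603, 7), (2606, 8), (2608, 2), (2608, 4), (2608, 8), (2610, 8), (2612, 5), (2612, 8), (2613, 7), (2614, 8), (2617, 5), (2617, 8), (2618, 7), (2619, 6), (2619,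 8), (2620, 7), (2622, 1), (2622, 8), (2623, 7), (2624, 1), (2624, 8), (2625, 7), (2626, 0), (2626, 8), (2627, 7), (2629, 3), (2629, 8), (2630, 2), (2630, 4), (2630, 8), (2632, 8), (2633, 7), (2635, 8), (2636, 7), (2638, 7), (2639, 3), (2639, 8), (2640, 8), (2641, 4), (2641, 8), (2643, 8), (2644, 7), (2645, 7), (2646, 3), (2646, 8), (2647, 7), (2648, 3), (2648, 8)]

/-- part 29 of a tree -/
def levelsTree0Part29 : List (ℕ × ℕ) := [(2649, 2), (2649, 4), (2649, 8), (2652, 5), (2652, 8), (2653, 7), (2654, 8), (2655, 7), (2657, 8), (2659, 8), (2660, 7), (2661, 3), (2661, 8), (2662, 2), (2662, 4), (2662, 8), (2664, 3), (2664, 8), (2665, 8), (2667, 1), (2667, 8), (2668, 5), (2668, 8), (2669, 7), (2670, 7), (2671, 6), (2671, 8), (2672, 7), (2674, 8), (2675, 7), (2677, 8), (2679, 7), (2680, 0), (2680,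 8), (2681, 7), (2683, 8), (2684, 7), (2685, 8), (2686, 7), (2688, 8), (2689, 7), (2691, 8), (2693, 7), (2694, 8), (2695, 7), (2697, 3), (2697, 8), (2699, 4), (2699, 8), (2701, 8), (2702, 7), (2704, 4), (2704, 8), (2706, 5), (2706, 8), (2707, 7), (2708, 8), (2709, 7), (2711, 8), (2712, 7), (2714, 3), (2714, 8), (2715, 3), (2715, 8), (2716, 2), (2716, 8), (2719, 4), (2719, 8), (2721, 4), (2721, 8), (2723, 4), (2723, 8), (2724, 8), (2725, 7), (2726, 5), (2726, 8), (2727, 7), (2728, 7), (2731, 5), (2731, 8), (2732, 7), (2733, 4), (2733, 8), (2735, 5), (2735, 8), (2736, 7), (2737, 0), (2737, 4), (2737, 8), (2738, 5), (2738, 8), (2739, 7), (2740, 6), (2740, 8), (2741, 7), (2743, 6), (2743, 8), (2744, 7), (2746, 8), (2747, 7)]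

/-- part 30 of a tree -/
def levelsTree0Part30 : List (ℕ × ℕ) := [(2748, 3), (2749, 7), (2751, 8), (2755, 7), (2756, 8), (2757, 7), (2759, 8), (2761, 8), (2763, 1), (2763, 8), (2764, 7), (2765, 7), (2766, 8), (2767, 7), (2770, 8), (2771, 7), (2773, 8), (2775, 2), (2775, 8), (2777, 3), (2777, 8), (2778, 2), (2778, 8), (2780, 4), (2780, 8), (2781, 8), (2782, 7), (2785, 8), (2786, 7), (2787, 7), (2789, 1), (2789, 8), (2790, 7), (2791, 4), (2791, 8), (2793, 8), (2794, 7), (2795, 0), (2795, 4), (2795, 8), (2796, 5), (2796, 8), (2797, 7), (2798, 6), (2798, 8), (2799, 7), (2801, 8), (2804, 7), (2806, 8), (2807, 7), (2808, 3), (2809, 7), (2811, 7), (2812, 7), (2813, 7), (2814, 8), (2815, 7), (2816, 7), (2818, 8), (2819, 7), (2822, 0), (2822, 4), (2822, 8), (2823, 5), (2823, 8), (2824, 7), (2825,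 8), (2826, 7), (2828, 8), (2829, 7), (2831, 8), (2832, 5), (2832, 8), (2833, 7), (2834, 8), (2835, 7), (2837, 7), (2841, 8), (2844, 7), (2846, 7), (2848, 8), (2849, 7), (2851, 7), (2852, 3), (2855, 8), (2856, 8), (2857, 7), (2858, 7), (2859, 8), (2860, 7), (2862, 7), (2863, 8), (2864, 7), (2866, 8), (2867, 7), (2868, 3), (2869, 8), (2870, 7), (2872, 8), (2873, 7)]

/-- part 31 of a tree -/
def levelsTree0Part31 : List (ℕ × ℕ) := [(2875, 8), (2876, 7), (2877, 3), (2878, 2), (2878, 4), (2878, 8), (2880, 4), (2880, 8), (2881, 8), (2882, 7), (2883, 7), (2885, 7), (2887, 3), (2887, 8), (2888, 2), (2888, 4), (2888, 8), (2891, 8), (2892, 7), (2893, 7), (2895, 3), (2895, 8), (2896, 2), (2896, 4), (2896, 8), (2898, 3), (2898, 8), (2899, 8), (2901, 8), (2902, 5), (2902, 8), (2903, 7), (2904, 8), (2905,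 7), (2907, 7), (2910, 7), (2912, 8), (2914, 1), (2914, 8), (2915, 5), (2915, 8), (2916, 7), (2917, 4), (2917, 8), (2919, 7), (2920, 0), (2920, 8), (2921, 7), (2922, 6), (2922, 8), (2923, 7), (2926, 8), (2927, 7), (2928, 3), (2929, 7), (2931, 7), (2933, 8), (2934, 7), (2935, 3), (2936, 7), (2938, 7), (2940, 7), (2942, 7), (2944, 7), (2945, 3), (2946, 8), (2948, 8), (2949, 7), (2950, 7), (2952, 8), (2953, 7), (2954, 8), (2955, 7), (2957, 7), (2958, 3), (2959, 7), (2961, 8), (2963, 8), (2965, 8), (2966, 7), (2967, 8), (2968, 7), (2969, 5), (2969, 8), (2970, 7), (2971, 8), (2972, 7), (2973, 7), (2975, 8), (2976, 7), (2978, 3), (2979, 6), (2979, 8), (2980, 7), (2982, 8), (2983, 7), (2984, 6), (2984, 8), (2985, 7), (2987, 8)]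

/-- part 32 of a tree -/
def levelsTree0Part32 : List (ℕ × ℕ) := [(2988, 5), (2988, 8), (2989, 7), (2990, 6), (2990, 8), (2991, 7), (2993, 8), (2994, 7), (2995, 3), (2996, 8), (2997, 7), (2998, 3), (2999, 7), (3000, 3), (3001, 2), (3005, 7), (3006, 3), (3007, 7), (3008, 7), (3009, 8), (3010, 7), (3013, 7), (3014, 3), (3015, 7), (3017, 7), (3018, 8), (3019, 7), (3020, 8), (3022, 8), (3023, 7), (3024, 8), (3025, 7), (3026, 7), (3028, 7), (3030, 3), (3031, 8), (3032, 7), (3034, 8), (3035, 7), (3036, 7), (3038, 8), (3039, 8), (3040, 7), (3041, 8), (3042, 7), (3043, 3), (3044, 8), (3045, 7), (3048, 3), (3049, 7), (3050, 3), (3051, 4), (3056, 7), (3059, 7), (3061, 8), (3062, 8), (3063, 7), (3064, 8), (3065, 7), (3067, 7), (3069, 7), (3071, 7), (3072, 8), (3073, 7), (3075, 7), (3076, 3), (3081,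 7), (3082, 3), (3083, 3), (3085, 7), (3086, 7), (3089, 7), (3090, 3), (3092, 7), (3094, 7), (3095, 3), (3096, 2), (3097, 7), (3099, 7), (3100, 3), (3101, 7), (3102, 3), (3103, 4), (3104, 8), (3105, 8), (3106, 7), (3107, 8), (3108, 7), (3109, 7), (3111, 3), (3112, 3), (3113, 8), (3115, 8), (3116, 8), (3117, 7), (3118, 7), (3121, 8), (3123, 8), (3124, 8), (3125, 7)]

/-- part 33 of a tree -/
def levelsTree0Part33 : List (ℕ × ℕ) := [(3126, 8), (3128, 7), (3129, 7), (3130, 8), (3131, 7), (3133, 7), (3134, 3), (3136, 3), (3137, 7), (3138, 8), (3139, 7), (3140, 8), (3141, 7), (3143, 8), (3144, 7), (3146, 8), (3147, 7), (3148, 3), (3149, 8), (3150, 7), (3151, 3), (3152, 7), (3153, 3), (3154, 2), (3157, 7), (3158, 3), (3159, 4), (3164, 3), (3166, 7), (3167, 7), (3169, 3), (3170, 7), (3172, 7), (3173,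 3), (3174, 3), (3175, 2), (3177, 7), (3178, 7), (3179, 7), (3181, 7), (3183, 8), (3184, 7), (3186, 7), (3188, 3), (3189, 7), (3190, 3), (3191, 2), (3192, 8), (3193, 7), (3194, 3), (3195, 7), (3197, 8), (3198, 7), (3199, 3), (3200, 7), (3201, 8), (3202, 7), (3204, 8), (3205, 7), (3206, 3), (3207, 7), (3208, 3), (3209, 2), (3210, 7), (3211, 3), (3212, 2), (3214, 2), (3215, 1), (3216, 3), (3220, 7), (3221, 3), (3222, 3), (3226, 7), (3228, 7), (3229, 7), (3231, 7), (3232, 3), (3236, 7), (3237, 3), (3238, 7), (3240, 3), (3241, 7), (3242, 7), (3243, 3), (3244, 7), (3245, 3), (3246, 4), (3247, 7), (3253, 3), (3255, 7), (3256, 7), (3258, 7), (3259, 3), (3263, 7), (3264, 3), (3265, 3), (3267, 3), (3268, 2), (3270, 3), (3271, 3)]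

/-- part 34 of a tree -/
def levelsTree0Part34 : List (ℕ × ℕ) := [(3272, 3), (3275, 3), (3276, 2), (3276, 4), (3284, 7), (3285, 7), (3287, 7), (3288, 3), (3289, 3), (3290, 2), (3291, 4), (3292, 7), (3293, 7), (3294, 7), (3296, 3), (3297, 7), (3298, 7), (3299, 7), (3301, 7), (3303, 3), (3304, 7), (3305, 3), (3306, 3), (3310, 7), (3311, 3), (3312, 7), (3313, 3), (3314, 7), (3316, 7), (3317, 3), (3318, 4), (3319, 7), (3320, 3), (3321, 2), (3322, 3), (3323, 2), (3324, 1), (3327, 5), (3330, 3), (3332, 3), (3333, 3), (3334, 2), (3339, 3), (3340, 3), (3341, 7), (3342, 3), (3343, 3), (3344, 2), (3348, 7), (3349, 3), (3350, 2), (3351, 3), (3352, 7), (3353, 3), (3354, 2), (3356, 7), (3357, 3), (3358, 7), (3359, 3), (3360, 2), (3362, 2), (3363, 1), (3365, 2), (3365, 4), (3370, 3), (3373, 3), (3376,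 3), (3378, 3), (3380, 3), (3383, 3), (3385, 3), (3391, 3), (3392, 3), (3394, 3), (3395, 2), (3405, 3), (3406, 3), (3407, 3), (3408, 4), (3409, 2), (3410, 1), (3413, 3), (3414, 3), (3417, 3), (3418, 3), (3421, 3), (3424, 3), (3425, 4), (3426, 3), (3427, 2), (3428, 3), (3429, 3), (3430, 4), (3431, 5), (3434, 1), (3444, 2), (3447, 2), (3450, 2), (3451, 1), (3454, 2)]

/-- part 35 of a tree -/
def levelsTree0Part35 : List (ℕ × ℕ) := [(3454, 4), (3458, 3), (3459, 4), (3472, 2), (3476, 4), (3477, 2), (3478, 2), (3478, 4), (3479, 5)]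

/-- a tree -/
def levelsTree0 : List (ℕ × ℕ) :=
  [levelsTree0Part0, levelsTree0Part1, levelsTree0Part2, levelsTree0Part3, levelsTree0Part4, levelsTree0Part5, levelsTree0Part6, levelsTree0Part7, levelsTree0Part8, levelsTree0Part9, levelsTree0Part10, levelsTree0Part11, levelsTree0Part12, levelsTree0Part13, levelsTree0Part14, levelsTree0Part15, levelsTree0Part16, levelsTree0Part17, levelsTree0Part18, levelsTree0Part19, levelsTree0Part20, levelsTree0Part21, levelsTree0Part22, levelsTree0Part23, levelsTree0Part24, levelsTree0Part25, levelsTree0Part26, levelsTree0Part27, levelsTree0Part28, levelsTree0Part29, levelsTree0Part30, levelsTree0Part31, levelsTree0Part32, levelsTree0Part33, levelsTree0Part34, levelsTree0Part35].flatten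


/-- level 0 -/
def levelsLevel0 : Level := ⟨0, [[0],
    [1],
    [2],
    [3],
    [4],
    [5],
    [6],
    [7],
    [8]], levelsTree0,
    0x3fffffffffffffffffffffffffffffffffffffffffffffffffffffffffffffffffffffffffffffffffffffffffffffffffffffffffffffffffffffffffffffffffffffffffffffffffffffffffffffffffffffffffffffffffffffffffffffffffffffffffffffffffffffffffffffffffffffffffffffffffffffffffffffffffffffffffffffffffffffffffffffffffffffffffffffffffffffffffffffffffffffffffffffffffffffffffffffffffffffffffffffffffffffffffffffffffffffffffffffffffffffffffffffffffffffffffffffffffffffffffffffffffffffffffffffffffffffffffffffffffffffffffffffffffffffffffffffffffffffffffffffffffffffffffffffffffffffffffffffffffffffffffffffffffffffffffffffffffffffffffffffffffffffffffffffffffffffffffffffffffffffffffffffffffffffffffffffffffffffffffffffffffffffffffffffffffffffffffffffffffffffffffffffffffffffffffffffffffffffffffffffffffffffffffffffffffffffffffffffffffffffffffffffffffffffffffffffffffffffffffffffffffffffffffffffffffffffffffffff⟩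

/-- part 0 of a tree -/
def levelsTree1Part0 : List (ℕ × ℕ) := [(1, 0), (1, 1), (14, 1), (2, 2), (13, 2), (3, 3), (3, 6), (15, 3), (15, 6), (4, 4), (4, 6), (16, 7), (17, 4), (17, 6), (23, 7), (18, 5), (18, 6), (18, 8), (5, 2), (5, 7), (36, 8), (37, 5), (37, 6), (37, 8), (6, 2), (6, 7), (47, 8), (38, 6), (38, 8), (20, 2), (20, 7), (20, 8), (159, 7), (19, 1), (19, 7), (21, 8), (166, 4), (61, 6), (61, 8), (24, 2), (24, 7), (24, 8), (147, 7), (22, 1), (22, 7), (25, 8), (154, 4), (42, 2), (42, 7), (42, 8), (200, 4), (200, 7), (40, 1), (40, 3), (40, 7), (40, 8), (43, 8), (125, 7), (202, 6), (39, 7), (41, 6), (41, 8), (130, 4), (209, 3), (209, 5), (48, 2), (48, 7), (48, 8), (186, 4), (186, 7), (45, 1), (45, 3), (45, 7), (45, 8), (49, 8), (115, 7), (188, 6), (44, 7), (46, 6), (46, 8), (120, 4),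 (195, 3), (195, 5), (66, 1), (66, 3), (66, 7), (66, 8), (69, 8), (158, 4), (158, 7), (250, 3), (250, 7), (252, 6), (63, 7), (65, 7), (67, 6), (67, 8), (97, 7), (1020, 4), (1020, 7)]

/-- part 1 of a tree -/
def levelsTree1Part1 : List (ℕ × ℕ) := [(160, 6), (254, 2), (100, 4), (165, 3), (165, 5), (261, 2), (261, 5), (73, 1), (73, 3), (73, 7), (73, 8), (76, 8), (146, 4), (146, 7), (233, 3), (233, 7), (235, 6), (70, 7), (72, 7), (74, 6), (74, 8), (89, 7), (852, 4), (852, 7), (148, 6), (237, 2), (92, 4), (153, 3), (153, 5), (244, 2), (244, 5), (90, 7), (93, 4), (93, 7), (95, 6), (95, 8), (126, 4), (126, 7), (1207, 4), (1207, 7), (199, 3), (199, 7), (201, 6), (314, 2), (314, 7), (316, 6), (316, 8), (318, 2), (91, 8), (94, 6), (94, 8), (96, 8), (1205, 4), (1205, 7), (127, 6), (850, 3), (850, 5),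 (850, 7), (909, 6), (203, 2), (320, 1), (320, 3), (129, 5), (208, 2), (208, 5), (328, 1), (328, 5), (328, 6), (330, 4), (98, 7), (101, 4), (101, 7), (103, 6), (103, 8), (116, 4), (116, 7), (1024, 4), (1024, 7), (185, 3), (185, 7), (187, 6), (293, 2), (293, 7), (295, 6), (295, 8), (297, 2), (99, 8), (102, 6), (102, 8), (104, 8), (1022, 4), (1022, 7), (117, 6), (696, 3), (696, 5), (696, 7), (742, 6), (189, 2), (299, 1), (299, 3)]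

/-- part 2 of a tree -/
def levelsTree1Part2 : List (ℕ × ℕ) := [(119, 5), (194, 2), (194, 5), (307, 1), (307, 5), (307, 6), (309, 4), (118, 8), (121, 7), (122, 6), (122, 8), (124, 8), (1387, 4), (1387, 7), (161, 7), (162, 6), (1385, 3), (1385, 5), (1385, 7), (1085, 6), (249, 7), (251, 6), (251, 8), (253, 2), (398, 1), (398, 7), (399, 6), (399, 8), (401, 2), (401, 8), (403, 1), (403, 3), (123, 2), (123, 8), (1072, 4), (1019, 3), (1019, 5), (1019, 7), (163, 2), (695, 2), (695, 5), (695, 7), (1010, 7), (1017, 6), (739, 2), (255, 1), (255, 3), (406, 3), (407, 4), (259, 1), (259, 5), (260, 4), (418, 5), (418, 6), (419, 4), (419, 6), (420, 8), (128, 8), (131, 7), (132, 6), (132, 8), (134, 8), (1209, 4), (1209, 7), (149, 7), (150, 6), (1197, 3), (1197, 5), (1197, 7), (903, 6), (232, 7), (234, 6),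 (234, 8), (236, 2), (372, 1), (372, 7), (373, 6), (373, 8), (375, 2), (375, 8), (377, 1), (377, 3), (133, 2), (133, 8), (1208, 4), (851, 3), (851, 5), (851, 7), (151, 2), (556, 2), (556, 5), (556, 7), (842, 7), (848, 6), (587, 2), (238, 1), (238, 3), (380, 3), (381, 4), (242, 1)]

/-- part 3 of a tree -/
def levelsTree1Part3 : List (ℕ × ℕ) := [(242, 5), (243, 4), (392, 5), (392, 6), (393, 4), (393, 6), (394, 8), (1196, 4), (155, 6), (155, 8), (156, 2), (156, 8), (1253, 4), (1194, 4), (1194, 7), (1571, 3), (1571, 5), (1571, 7), (1250, 6), (204, 6), (204, 8), (205, 2), (1555, 2), (1555, 5), (1555, 7), (1193, 7), (1275, 6), (1275, 8), (900, 2), (315, 6), (315, 8), (317, 2), (317, 8), (319, 1), (319, 3), (506, 7), (507, 6), (507, 8), (508, 2), (508, 8), (1521, 4), (510, 1), (510, 3), (510, 8),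 (1170, 7), (513, 3), (514, 4), (157, 1), (157, 8), (889, 4), (889, 7), (887, 2), (1192, 7), (206, 1), (573, 1), (573, 5), (573, 6), (573, 7), (841, 4), (841, 7), (847, 6), (1188, 6), (908, 2), (586, 1), (321, 3), (519, 2), (519, 4), (520, 5), (520, 8), (327, 5), (325, 4), (329, 8), (535, 4), (535, 6), (524, 2), (532, 3), (532, 6), (532, 8), (1673, 7), (1384, 4), (167, 6), (167, 8), (168, 2), (168, 8), (1391, 4), (1382, 4), (1382, 7), (1389, 3), (1389, 5), (1389, 7), (1059, 6), (190, 6), (190, 8), (191, 2), (1372, 2), (1372, 5), (1372, 7), (1012, 7), (1089, 6), (1089, 8)]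

/-- part 4 of a tree -/
def levelsTree1Part4 : List (ℕ × ℕ) := [(734, 2), (294, 6), (294, 8), (296, 2), (296, 8), (298, 1), (298, 3), (473, 7), (474, 6), (474, 8), (475, 2), (475, 8), (1346, 4), (477, 1), (477, 3), (477, 8), (992, 7), (480, 3), (481, 4), (169, 1), (169, 8), (1066, 4), (1066, 7), (723, 2), (1011, 7), (192, 1), (453, 1), (453, 5), (453, 6), (453, 7), (689, 4), (689, 7), (693, 6), (1007, 6), (741, 2), (462, 1), (300, 3), (486, 2), (486, 4), (487, 5), (487, 8), (306, 5), (304, 4), (308, 8), (502, 4), (502, 6), (491, 2), (499, 3), (499, 6), (499, 8), (1475, 7), (1390, 3), (196, 2), (196, 8), (1732, 4), (197, 1), (197, 8), (1057, 4), (1057, 7), (1448, 3), (1448, 5), (1386, 3), (1379, 6), (1769, 2), (1769, 5), (1769, 7), (1383, 7), (1446, 6), (1446, 8), (1055, 2), (256, 2), (256,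 8), (257, 1), (1749, 1), (1749, 5), (1749, 6), (1749, 7), (1368, 4), (1368, 7), (1472, 6), (1472, 8), (1084, 2), (733, 1), (733, 3), (400, 2), (400, 8), (1359, 4), (402, 1), (402, 3), (402, 8), (404, 3), (405, 4), (638, 6), (638, 8), (639, 2), (639, 8), (1701, 4), (640, 1), (640, 3), (640, 8)]

/-- part 5 of a tree -/
def levelsTree1Part5 : List (ℕ × ℕ) := [(1353, 4), (1353, 7), (1702, 5), (643, 3), (643, 8), (644, 4), (644, 8), (1033, 7), (649, 2), (649, 4), (650, 5), (650, 8), (198, 8), (777, 4), (777, 7), (722, 1), (488, 5), (488, 6), (488, 7), (712, 4), (712, 7), (1092, 2), (740, 1), (409, 2), (658, 4), (658, 6), (659, 5), (659, 8), (660, 8), (414, 4), (415, 3), (415, 8), (670, 3), (670, 6), (670, 8), (662, 2), (657, 3), (667, 6), (667, 8), (655, 8), (1884, 7), (1572, 3), (210, 2), (210,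 8), (1944, 4), (211, 1), (211, 8), (1248, 4), (1248, 7), (1576, 3), (1576, 5), (1569, 3), (1243, 6), (1574, 2), (1574, 5), (1574, 7), (1195, 7), (1256, 6), (1256, 8), (876, 2), (239, 2), (239, 8), (240, 1), (1559, 1), (1559, 5), (1559, 6), (1559, 7), (1183, 4), (1183, 7), (1277, 6), (1277, 8), (902, 2), (582, 1), (582, 3), (374, 2), (374, 8), (1175, 4), (376, 1), (376, 3), (376, 8), (378, 3), (379, 4), (596, 6), (596, 8), (597, 2), (597, 8), (1522, 4), (598, 1), (598, 3), (598, 8), (1171, 4), (1171, 7), (1523, 5), (601, 3), (601, 8), (602, 4), (602, 8), (859, 7), (607, 2), (607, 4)]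

/-- part 6 of a tree -/
def levelsTree1Part6 : List (ℕ × ℕ) := [(608, 5), (608, 8), (212, 8), (883, 4), (883, 7), (574, 1), (382, 5), (382, 6), (382, 7), (567, 4), (567, 7), (911, 2), (588, 1), (383, 2), (616, 4), (616, 6), (617, 5), (617, 8), (618, 8), (388, 4), (389, 3), (389, 8), (631, 3), (631, 6), (631, 8), (623, 2), (622, 3), (628, 6), (628, 8), (613, 8), (1672, 7), (1575, 2), (246, 1), (246, 3), (246, 8), (1946, 4), (1946, 7), (1656, 3), (1656, 5), (247, 8), (941, 4), (941, 7), (1252, 3), (1252, 5), (1252, 7), (1645, 2), (1645, 5), (1573, 2), (1239, 2), (1968, 1), (1968, 5), (1968, 6), (1968, 7), (1570, 4), (1570, 7), (1643, 8), (1566, 8), (1249, 2), (1249, 8), (875, 1), (323, 1), (323, 3), (323, 8), (1945, 7), (1964, 5), (1964, 6), (1964, 7), (1553, 4), (1553, 6), (1553, 7), (1970,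 7), (1670, 6), (1670, 8), (901, 1), (901, 3), (629, 3), (581, 4), (509, 1), (509, 3), (509, 8), (511, 3), (511, 8), (512, 4), (512, 8), (516, 2), (516, 4), (517, 8), (677, 2), (677, 8), (1902, 4), (793, 1), (793, 3), (793, 8), (1904, 4), (1904, 7), (1903, 3), (1903, 5), (794, 3), (794, 8), (795, 4)]

/-- part 7 of a tree -/
def levelsTree1Part7 : List (ℕ × ℕ) := [(795, 8), (1531, 4), (1531, 7), (800, 2), (800, 4), (800, 8), (918, 7), (801, 5), (801, 8), (1217, 4), (1217, 7), (957, 6), (809, 4), (809, 6), (810, 5), (810, 8), (811, 8), (2866, 7), (620, 4), (620, 7), (609, 4), (609, 7), (390, 2), (865, 3), (910, 1), (522, 3), (522, 5), (522, 6), (522, 8), (813, 8), (426, 4), (531, 3), (531, 8), (528, 8), (822, 2), (822, 6), (822, 8), (816, 2), (816, 8), (2114, 7), (808, 3), (806, 2), (806, 8),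 (2091, 4), (2091, 7), (2108, 7), (1927, 6), (1770, 2), (263, 1), (263, 3), (263, 8), (2180, 4), (2180, 7), (1860, 3), (1860, 5), (264, 8), (1068, 4), (1068, 7), (1441, 3), (1441, 5), (1441, 7), (1772, 2), (1772, 5), (1768, 2), (1050, 2), (1757, 1), (1757, 5), (1757, 6), (1757, 7), (1388, 4), (1388, 7), (1450, 8), (1380, 8), (1058, 2), (1058, 8), (713, 1), (302, 1), (302, 3), (302, 8), (1733, 7), (1753, 5), (1753, 6), (1753, 7), (1370, 4), (1370, 6), (1370, 7), (1759, 7), (1473, 6), (1473, 8), (735, 1), (735, 3), (497, 3), (458, 4), (476, 1), (476, 3), (476, 8), (478, 3), (478, 8), (479, 4), (479, 8)]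

/-- part 8 of a tree -/
def levelsTree1Part8 : List (ℕ × ℕ) := [(483, 2), (483, 4), (484, 8), (748, 2), (748, 8), (1703, 4), (749, 1), (749, 3), (749, 8), (1705, 4), (1705, 7), (1704, 3), (1704, 5), (750, 3), (750, 8), (751, 4), (751, 8), (1354, 4), (1354, 7), (756, 2), (756, 4), (756, 8), (752, 7), (757, 5), (757, 8), (1034, 4), (1034, 7), (1030, 6), (765, 4), (765, 6), (766, 5), (766, 8), (767, 8), (2756, 7), (775, 4), (775, 7), (482, 4), (482, 7), (305, 2), (706, 3), (743, 1), (661, 3), (661, 5), (661, 6), (661, 8), (776, 8), (337, 4), (498, 3), (498, 8), (495, 8), (785, 2), (785, 6), (785, 8), (772, 2), (772, 8), (1883, 7), (779, 3), (762, 2), (762, 8), (1859, 4), (1859, 7), (1880, 7), (1724, 6), (1773, 1), (1773, 6), (310, 3), (310, 8), (311, 8), (2182, 4), (2182, 7), (1868, 3), (1868,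 5), (1868, 7), (1459, 2), (1459, 5), (769, 4), (769, 7), (1125, 3), (1125, 5), (1125, 7), (1447, 2), (1447, 5), (1447, 7), (1439, 8), (1857, 1), (1857, 5), (1857, 6), (1771, 1), (1771, 6), (1049, 1), (2204, 5), (2204, 6), (2204, 7), (1748, 4), (1748, 6), (1748, 7), (2210, 7), (1855, 6), (1855, 8), (1445, 8)]

/-- part 9 of a tree -/
def levelsTree1Part9 : List (ℕ × ℕ) := [(1766, 8), (1056, 1), (1056, 3), (1056, 8), (1864, 7), (411, 3), (411, 8), (412, 8), (1737, 7), (1746, 4), (1746, 6), (1746, 7), (2206, 2), (2206, 7), (1882, 6), (1882, 8), (1367, 3), (1367, 6), (1750, 7), (2213, 6), (2213, 8), (786, 3), (1075, 4), (496, 2), (496, 4), (728, 8), (641, 3), (641, 8), (642, 4), (642, 8), (646, 2), (646, 4), (646, 8), (647, 8), (1414, 4), (653, 4), (654, 8), (1875, 7), (540, 1), (540, 8), (2127,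 4), (2127, 7), (674, 3), (674, 8), (958, 4), (958, 8), (1719, 4), (1719, 7), (2130, 3), (2130, 5), (2130, 7), (959, 2), (959, 4), (959, 8), (1717, 4), (1717, 7), (960, 5), (960, 8), (1404, 4), (1404, 7), (1718, 3), (967, 4), (967, 6), (967, 8), (968, 5), (968, 8), (1099, 4), (1099, 7), (791, 6), (969, 8), (2770, 4), (2770, 7), (1405, 5), (1405, 7), (1132, 6), (977, 3), (977, 5), (977, 6), (977, 8), (978, 8), (2674, 7), (2619, 4), (2619, 7), (3094, 6), (758, 3), (408, 5), (652, 6), (652, 8), (423, 4), (666, 2), (666, 8), (1901, 4), (985, 6), (985, 8), (975, 2), (975, 8), (2337, 4), (2337, 7), (976, 3), (976, 8)]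

/-- part 10 of a tree -/
def levelsTree1Part10 : List (ℕ × ℕ) := [(2327, 7), (2153, 6), (648, 4), (964, 1), (964, 8), (2331, 4), (2331, 7), (2241, 5), (2241, 7), (2157, 6), (2355, 6), (1992, 1), (1992, 6), (331, 3), (331, 8), (332, 8), (2434, 4), (2434, 7), (2092, 3), (2092, 5), (2092, 7), (1649, 2), (1649, 5), (939, 4), (939, 7), (1244, 3), (1244, 5), (1244, 7), (1641, 2), (1641, 5), (1641, 7), (1255, 8), (1980, 1), (1980, 5), (1980, 6), (1991, 1), (1991, 6), (871, 1), (1973, 5), (1973, 6), (1973, 7), (1558, 4), (1558, 6), (1558, 7), (1981, 7), (1646, 6), (1646, 8), (1254, 8), (1568, 8), (877, 1), (877, 3), (877, 8), (1663, 7), (385, 3), (385, 8), (386, 8), (1548, 7), (1556, 4), (1556, 6), (1556, 7), (1975, 2), (1975, 7), (1671, 6), (1671, 8), (1182, 3), (1182, 6), (1560, 7), (1984, 6),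 (1984, 8), (630, 3), (896, 4), (387, 2), (387, 4), (578, 8), (599, 3), (599, 8), (600, 4), (600, 8), (604, 2), (604, 4), (604, 8), (605, 8), (1224, 4), (611, 4), (612, 8), (1919, 7), (676, 1), (676, 8), (1907, 4), (1907, 7), (826, 3), (826, 8), (914, 4), (914, 8), (1535, 4), (1535, 7), (1910, 3), (1910, 5), (1910, 7), (916, 2)]

/-- part 11 of a tree -/
def levelsTree1Part11 : List (ℕ × ℕ) := [(916, 4), (916, 8), (1533, 4), (1533, 7), (917, 5), (917, 8), (1218, 4), (1218, 7), (1534, 3), (925, 4), (925, 6), (925, 8), (926, 5), (926, 8), (919, 4), (919, 7), (915, 6), (927, 8), (2511, 4), (2511, 7), (1219, 5), (1219, 7), (1213, 6), (937, 3), (937, 5), (937, 6), (937, 8), (938, 8), (2591, 7), (2859, 4), (2859, 7), (3005, 6), (603, 3), (521, 5), (812, 6), (812, 8), (333, 4), (627, 2), (627, 8),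 (1918, 4), (952, 6), (952, 8), (933, 2), (933, 8), (2090, 4), (2090, 7), (945, 3), (945, 8), (2110, 7), (1931, 6), (807, 4), (922, 1), (922, 8), (2084, 4), (2084, 7), (1996, 5), (1996, 7), (1935, 6), (2112, 6), (1994, 6), (1982, 7), (396, 2), (396, 8), (1956, 4), (1956, 7), (2436, 4), (2436, 7), (2099, 3), (2099, 5), (2099, 7), (2437, 6), (1658, 2), (1658, 5), (1658, 7), (1657, 7), (2100, 8), (1320, 1), (1320, 5), (1320, 6), (1263, 4), (942, 3), (942, 5), (942, 7), (1317, 2), (1317, 5), (1317, 7), (1644, 1), (1644, 5), (1644, 6), (1644, 7), (1640, 8), (2089, 5), (2089, 6), (1990, 6), (2087, 7), (1972, 6), (1993, 7), (1963, 4), (1963, 6), (1963, 7)]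

/-- part 12 of a tree -/
def levelsTree1Part12 : List (ℕ × ℕ) := [(2460, 2), (2460, 7), (2086, 6), (2086, 8), (1621, 3), (1621, 6), (1621, 8), (1969, 7), (1951, 6), (2468, 6), (2468, 8), (1654, 7), (1260, 4), (940, 3), (940, 8), (1952, 7), (527, 2), (527, 8), (1950, 7), (1607, 4), (1607, 7), (1953, 6), (1552, 3), (1552, 6), (1965, 2), (1965, 7), (2463, 3), (2463, 7), (2464, 6), (2464, 8), (2097, 2), (1229, 6), (1971, 8), (947, 2), (947, 4), (894, 8), (397, 4), (624, 8), (1661, 7), (797, 2), (797, 4), (797, 8), (798, 8), (804, 4), (804, 6), (804, 8), (805, 8), (1605, 4), (2106, 4), (2106, 7), (815, 3), (815, 8), (2079, 7), (2109, 6), (537, 8), (2366, 4), (2366, 7), (2365, 7), (818, 2), (818, 4), (818, 8), (1925, 4), (1925, 7), (1138, 5), (1138, 8), (1593, 4), (1593, 7), (1928, 3), (2368,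 2), (2368, 7), (2369, 7), (2370, 8), (1139, 4), (1139, 6), (1139, 8), (1140, 5), (1140, 8), (1591, 4), (1591, 7), (1924, 3), (1141, 8), (2524, 4), (2524, 7), (1592, 3), (1592, 5), (1592, 7), (1150, 3), (1150, 5), (1150, 6), (1150, 8), (1151, 7), (1151, 8), (1285, 4), (1285, 7), (1152, 8), (2926, 4), (2926, 7), (1286, 5), (1286, 7), (950, 6)]

/-- part 13 of a tree -/
def levelsTree1Part13 : List (ℕ × ℕ) := [(635, 2), (2863, 4), (2863, 7), (2525, 5), (2525, 7), (3015, 6), (1156, 5), (1156, 6), (1156, 8), (814, 6), (814, 8), (824, 8), (2540, 7), (2418, 4), (2418, 7), (2929, 6), (2373, 7), (2867, 6), (928, 2), (515, 4), (529, 4), (820, 6), (820, 8), (2123, 4), (1699, 5), (1163, 2), (1163, 7), (1163, 8), (2589, 4), (2589, 7), (1158, 1), (1158, 3), (1158, 8), (2581, 4), (2581, 7), (2496, 5), (2496,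 7), (2396, 6), (1149, 4), (1149, 8), (2484, 7), (2583, 6), (2398, 2), (799, 8), (1146, 8), (2549, 4), (2549, 7), (2493, 5), (2493, 7), (2585, 6), (2214, 6), (2211, 7), (422, 2), (422, 8), (2188, 4), (2188, 7), (2643, 4), (2643, 7), (2338, 3), (2338, 5), (2338, 7), (2693, 6), (1862, 2), (1862, 5), (1862, 7), (1861, 7), (2339, 8), (1510, 1), (1510, 5), (1510, 6), (1452, 4), (1123, 3), (1123, 5), (1123, 7), (1419, 2), (1419, 5), (1419, 7), (1822, 1), (1822, 5), (1822, 6), (1822, 7), (1449, 8), (2216, 5), (2216, 6), (1847, 6), (2227, 7), (2203, 6), (2228, 7), (1752, 4), (1752, 6), (1752, 7), (2217, 2), (2217, 7), (1858, 6), (1858, 8), (1430, 3), (1430, 6), (1430, 8), (1758, 7), (1740, 6)]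

/-- part 14 of a tree -/
def levelsTree1Part14 : List (ℕ × ℕ) := [(2229, 6), (2229, 8), (1465, 7), (1077, 4), (770, 3), (770, 8), (1741, 7), (494, 2), (494, 8), (1739, 7), (1418, 4), (1418, 7), (1742, 6), (1369, 3), (1369, 6), (1754, 2), (1754, 7), (2220, 3), (2220, 7), (2221, 6), (2221, 8), (1878, 2), (1044, 6), (1760, 8), (782, 2), (782, 4), (729, 8), (312, 4), (493, 8), (1713, 7), (753, 2), (753, 4), (753, 8), (754, 8), (760, 4), (760, 6), (760, 8), (761, 8), (1416, 4), (2146, 4), (2146, 7), (771, 3), (771, 8), (2143, 7), (2147, 6), (673, 8), (2133, 4), (2133, 7), (2132, 7), (981, 2), (981, 4), (981, 8), (1722, 4), (1722, 7), (1094, 5), (1094, 8), (1408, 4), (1408, 7), (1725, 3), (2135, 2), (2135, 7), (2136, 7), (2137, 8), (1096, 4), (1096, 6), (1096, 8), (1097, 5), (1097, 8), (1406,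 4), (1406, 7), (1721, 3), (1098, 8), (2286, 4), (2286, 7), (1407, 3), (1407, 5), (1407, 7), (1108, 3), (1108, 5), (1108, 6), (1108, 8), (1109, 7), (1109, 8), (1100, 4), (1100, 7), (1110, 8), (2766, 4), (2766, 7), (1101, 5), (1101, 7), (1095, 6), (789, 2), (2677, 4), (2677, 7), (2287, 5), (2287, 7), (2771, 6), (1124, 5), (1124, 6), (1124, 8)]

/-- part 15 of a tree -/
def levelsTree1Part15 : List (ℕ × ℕ) := [(979, 6), (979, 8), (987, 8), (2342, 7), (2654, 4), (2654, 7), (2844, 6), (2612, 7), (3089, 6), (759, 2), (651, 4), (413, 4), (783, 6), (783, 8), (2142, 4), (1782, 5), (1135, 2), (1135, 7), (1135, 8), (2336, 4), (2336, 7), (1118, 1), (1118, 3), (1118, 8), (2329, 4), (2329, 7), (2239, 5), (2239, 7), (2162, 6), (1127, 4), (1127, 8), (2346, 7), (2356, 6), (2164, 2), (965, 8), (1104, 8), (2293,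 4), (2293, 7), (2235, 5), (2235, 7), (2332, 6), (2230, 2), (2230, 7), (2231, 8), (505, 6), (505, 8), (2196, 4), (2196, 7), (2194, 3), (2194, 7), (2197, 6), (2694, 3), (2694, 5), (2694, 7), (2695, 6), (2344, 2), (2344, 5), (2344, 7), (1869, 7), (1871, 1), (1871, 5), (1871, 6), (1871, 7), (1460, 4), (1460, 7), (1872, 8), (1133, 6), (1076, 8), (1126, 2), (1126, 5), (1126, 7), (1509, 1), (1509, 6), (1509, 7), (1839, 5), (1839, 6), (1839, 7), (1814, 6), (1856, 7), (1835, 6), (1835, 8), (2192, 6), (2334, 2), (2334, 7), (2237, 7), (2335, 8), (2215, 2), (2215, 7), (2238, 8), (1831, 3), (1831, 6), (1831, 8), (2205, 2), (2205, 7), (2186, 6), (2721, 3), (2721, 7), (2722, 6), (2722, 8), (2314, 2)]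

/-- part 16 of a tree -/
def levelsTree1Part16 : List (ℕ × ℕ) := [(1836, 7), (1837, 7), (2212, 6), (2212, 8), (2847, 4), (1112, 2), (2187, 7), (665, 6), (665, 8), (1813, 4), (1813, 7), (2189, 6), (1815, 7), (1816, 6), (1424, 2), (1424, 6), (1747, 2), (2207, 3), (2207, 7), (2208, 8), (2726, 4), (2726, 7), (2727, 6), (2727, 8), (2343, 2), (2340, 3), (780, 8), (1461, 7), (503, 8), (1845, 7), (962, 4), (962, 6), (962, 8), (963, 8), (2349, 7), (973, 3), (973, 6), (973, 8), (974, 7), (974, 8), (1495, 4), (2325, 4), (2325, 7), (1873, 7), (2354, 6), (980, 8), (2224, 7), (2328, 6), (2155, 4), (2155, 7), (2610, 7), (2613, 6), (2611, 8), (664, 4), (664, 6), (664, 8), (983, 5), (983, 8), (1792, 4), (1792, 7), (2154, 3), (2269, 4), (1795, 3), (1795, 5), (1795, 7), (2158, 2), (2614, 7), (2615, 8), (2616,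 8), (1327, 3), (1327, 5), (1327, 6), (1327, 8), (971, 7), (971, 8), (1481, 4), (1481, 7), (1328, 8), (2777, 4), (2777, 7), (1791, 3), (1791, 5), (1791, 7), (2152, 2), (2657, 7), (2270, 7), (2784, 6), (1338, 8), (1339, 8), (1340, 7), (1340, 8), (3149, 4), (3149, 7), (1331, 8), (1483, 4), (1483, 7), (1482, 3), (1482, 5), (1482, 7), (2671, 4)]

/-- part 17 of a tree -/
def levelsTree1Part17 : List (ℕ × ℕ) := [(2671, 7), (2785, 5), (2785, 7), (3152, 6), (2617, 7), (3092, 6), (972, 8), (984, 8), (2801, 4), (2801, 7), (669, 8), (2284, 4), (2284, 7), (2357, 7), (2803, 6), (2167, 7), (2675, 6), (3155, 2), (2620, 6), (645, 8), (986, 7), (986, 8), (2362, 4), (1897, 5), (1343, 1), (1343, 3), (1343, 7), (1343, 8), (2841, 4), (2841, 7), (2638, 5), (1334, 8), (1337, 8), (2831, 4), (2831, 7), (2751, 5),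 (2751, 7), (2840, 6), (2648, 2), (966, 8), (2746, 4), (2746, 7), (2749, 6), (2651, 2), (2622, 3), (2806, 4), (2806, 7), (2688, 7), (2809, 6), (2469, 2), (2469, 7), (2470, 8), (538, 6), (538, 8), (2393, 4), (2393, 7), (2442, 3), (2442, 7), (2444, 6), (2872, 3), (2872, 5), (2872, 7), (2893, 6), (2506, 2), (2506, 5), (2506, 7), (2093, 7), (2007, 1), (2007, 5), (2007, 6), (2007, 7), (1650, 4), (1650, 7), (2095, 8), (1319, 6), (1259, 8), (1300, 2), (1300, 5), (1300, 7), (1611, 1), (1611, 6), (1611, 7), (2049, 5), (2049, 6), (2049, 7), (1610, 6), (2055, 7), (1630, 6), (1630, 8), (2071, 6), (2473, 2), (2473, 7), (2056, 7), (2487, 8), (2459, 2), (2459, 7), (2488, 8), (1625, 3), (1625, 6), (1625, 8)]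

/-- part 18 of a tree -/
def levelsTree1Part18 : List (ℕ × ℕ) := [(1974, 2), (1974, 7), (1954, 6), (2474, 3), (2474, 7), (2475, 6), (2475, 8), (2082, 2), (1631, 7), (1632, 7), (1983, 6), (1983, 8), (3012, 4), (930, 2), (1955, 7), (626, 6), (626, 8), (1609, 4), (1609, 7), (1957, 6), (1612, 7), (1613, 6), (1231, 2), (1231, 6), (1557, 2), (1976, 3), (1976, 7), (1977, 8), (2479, 4), (2479, 7), (2480, 6), (2480, 8), (2111, 2), (2101, 3), (625, 8), (1585, 7), (395, 8), (1917, 7), (920, 4), (920, 6), (920, 8), (921, 8), (2387, 7), (931, 3), (931, 6), (931, 8), (932, 7), (932, 8), (1297, 4), (2383, 4), (2383, 7), (2006, 7), (2388, 6), (944, 8), (2384, 7), (2385, 6), (1933, 4), (1933, 7), (2371, 7), (2374, 6), (2372, 8), (817, 4), (817, 6), (817, 8), (1160, 5), (1160, 8), (1596, 4), (1596, 7), (1932,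 3), (2032, 4), (1599, 3), (1599, 5), (1599, 7), (1936, 2), (2375, 7), (2376, 8), (2377, 8), (1283, 3), (1283, 5), (1283, 6), (1283, 8), (1153, 7), (1153, 8), (1287, 4), (1287, 7), (1284, 8), (2531, 4), (2531, 7), (1595, 3), (1595, 5), (1595, 7), (1930, 2), (2421, 7), (2033, 7), (2542, 6), (1301, 8), (1302, 8), (1303, 7), (1303, 8), (3009, 4)]

/-- part 19 of a tree -/
def levelsTree1Part19 : List (ℕ × ℕ) := [(3009, 7), (1304, 8), (1289, 4), (1289, 7), (1288, 3), (1288, 5), (1288, 7), (2904, 4), (2904, 7), (2543, 5), (2543, 7), (3013, 6), (2422, 7), (2931, 6), (1154, 8), (1161, 8), (2566, 4), (2566, 7), (823, 8), (2439, 4), (2439, 7), (2113, 7), (2594, 6), (2401, 7), (2907, 6), (3079, 2), (2860, 6), (802, 8), (953, 7), (953, 8), (2382, 4), (2001, 5), (1315, 1), (1315, 3), (1315, 7), (1315,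 8), (2587, 4), (2587, 7), (2455, 5), (1292, 8), (1313, 8), (2573, 4), (2573, 7), (2489, 5), (2489, 7), (2584, 6), (2411, 2), (1147, 8), (2598, 4), (2598, 7), (2599, 6), (2415, 2), (2414, 3), (2545, 4), (2545, 7), (2430, 7), (2550, 6), (2476, 3), (2476, 7), (2490, 8), (2547, 4), (636, 8), (1962, 4), (1962, 7), (2451, 3), (2451, 5), (2451, 7), (2452, 6), (2449, 2), (2449, 7), (2453, 2), (2595, 7), (2875, 7), (2944, 6), (2944, 8), (2945, 2), (2104, 1), (2104, 7), (2102, 7), (2075, 5), (2075, 6), (2075, 7), (1659, 7), (2105, 6), (2105, 8), (1264, 7), (1655, 4), (1323, 2), (1310, 1), (1310, 5), (1310, 6), (1310, 7), (1692, 6), (1692, 7), (1697, 7), (2043, 6), (2070, 2), (2070, 7), (2048, 6), (2048, 8)]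

/-- part 20 of a tree -/
def levelsTree1Part20 : List (ℕ × ℕ) := [(2046, 7), (2088, 6), (2088, 8), (2446, 2), (2446, 7), (2568, 3), (2568, 7), (2588, 8), (2528, 4), (2471, 3), (2471, 7), (2472, 8), (1619, 2), (2063, 2), (2063, 7), (2064, 7), (2461, 3), (2461, 7), (2462, 6), (2462, 8), (2441, 2), (2969, 4), (2969, 7), (2970, 6), (2970, 8), (2567, 2), (2958, 4), (2564, 3), (2604, 4), (3080, 5), (821, 8), (2014, 4), (2014, 7), (2044, 7), (2045, 6), (1967, 2), (2465, 7), (2975, 7), (2976, 6), (2976, 8), (2592, 3), (1628, 7), (1978, 7), (1144, 3), (1144, 6), (1144, 8), (2600, 7), (1157, 6), (1157, 8), (1159, 7), (1159, 8), (2576, 4), (2576, 7), (1677, 4), (1688, 3), (2077, 7), (2582, 6), (2481, 7), (2485, 6), (2400, 2), (2402, 6), (2858, 6), (2858, 8), (819, 8), (803, 8), (2018, 4), (2018, 7),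 (2517, 4), (2017, 3), (2017, 5), (2017, 7), (2397, 2), (3276, 4), (1515, 8), (1516, 8), (1155, 8), (3020, 4), (3020, 7), (1679, 4), (1678, 3), (1678, 5), (1678, 7), (2898, 7), (2518, 7), (3021, 6), (2015, 2), (2395, 6), (3044, 4), (3044, 7), (2922, 4), (2922, 7), (1520, 8), (3041, 4), (3041, 7), (3022, 3), (3022, 5), (3022, 7), (3319, 6), (1682, 7), (2416, 7)]

/-- part 21 of a tree -/
def levelsTree1Part21 : List (ℕ × ℕ) := [(2927, 6), (3322, 2), (2864, 6), (2538, 4), (2538, 7), (2895, 7), (3047, 6), (2118, 7), (2030, 7), (2541, 6), (2391, 6), (2890, 2), (2419, 6), (2930, 2), (3278, 3), (2606, 4), (2606, 7), (2121, 3), (2121, 5), (1518, 8), (1517, 8), (3061, 4), (3061, 7), (2887, 5), (3038, 4), (3038, 7), (2993, 4), (2993, 7), (2987, 3), (2987, 5), (2987, 7), (3071, 6), (3003, 8), (2900,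 2), (2899, 3), (2996, 7), (2999, 6), (3002, 2), (2870, 3), (2933, 7), (2723, 3), (2723, 7), (2730, 8), (2788, 4), (675, 8), (2151, 4), (2151, 7), (2641, 3), (2641, 5), (2641, 7), (2644, 6), (2701, 2), (2701, 7), (2703, 2), (2685, 7), (2626, 7), (3099, 6), (3099, 8), (3120, 2), (2251, 1), (2251, 7), (2252, 7), (2249, 5), (2249, 6), (2249, 7), (1784, 7), (2254, 6), (2254, 8), (1453, 7), (1466, 4), (1478, 2), (1500, 1), (1500, 5), (1500, 6), (1500, 7), (1818, 6), (1818, 7), (1824, 7), (1817, 6), (2300, 2), (2300, 7), (1840, 6), (1840, 8), (1823, 7), (2307, 6), (2307, 8), (2308, 2), (2308, 7), (2733, 3), (2733, 7), (2734, 8), (2290, 4), (2719, 3), (2719, 7), (2720, 8), (1428, 2), (1841, 2), (1841, 7), (1842, 7), (2218, 3)]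

/-- part 22 of a tree -/
def levelsTree1Part22 : List (ℕ × ℕ) := [(2218, 7), (2219, 6), (2219, 8), (2193, 2), (2735, 4), (2735, 7), (2736, 6), (2736, 8), (2330, 2), (3169, 4), (2320, 3), (2768, 4), (3161, 5), (784, 8), (1820, 4), (1820, 7), (1819, 7), (1821, 6), (1756, 2), (2222, 7), (2743, 7), (2744, 6), (2744, 8), (2348, 3), (1781, 7), (2144, 7), (1102, 3), (1102, 6), (1102, 8), (2635, 7), (1117, 6), (1117, 8), (1119, 7), (1119, 8), (2630, 4), (2630, 7), (1498, 4), (1497, 3), (2248, 7), (2631, 6), (2632, 7), (2633, 6), (2166, 2), (2168, 6), (2618, 6), (2618, 8), (982, 8), (970, 8), (1800, 4), (1800, 7), (2276, 4), (1799, 3), (1799, 5), (1799, 7), (2163, 2), (3401, 4), (1479, 8), (1480, 8), (1341, 8), (2791, 4), (2791, 7), (1486, 4), (1485, 3), (1485, 5), (1485, 7), (2664, 7), (2277, 7),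 (2792, 6), (1797, 2), (2161, 6), (2818, 4), (2818, 7), (3130, 4), (3130, 7), (1491, 8), (3143, 4), (3143, 7), (2793, 3), (2793, 5), (2793, 7), (3220, 6), (1489, 7), (2652, 7), (3133, 6), (3222, 2), (2679, 6), (2697, 4), (2697, 7), (2661, 7), (2821, 6), (2184, 7), (2185, 7), (2698, 6), (2200, 6), (2718, 2), (2655, 6), (3135, 2), (3176, 3), (2629, 4), (2629, 7)]

/-- part 23 of a tree -/
def levelsTree1Part23 : List (ℕ × ℕ) := [(2246, 3), (2246, 5), (1493, 8), (1494, 8), (2822, 4), (2822, 7), (2715, 5), (2795, 4), (2795, 7), (2832, 4), (2832, 7), (2737, 3), (2737, 5), (2737, 7), (2833, 6), (2752, 8), (2666, 2), (2665, 3), (2848, 7), (2849, 6), (2850, 2), (2670, 3), (2680, 7), (2738, 4), (2738, 7), (2739, 6), (2739, 8), (2808, 4), (2708, 2), (2708, 7), (2706, 1), (2706, 6), (2706, 7), (2226,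 3), (2323, 7), (1843, 7), (1896, 2), (2324, 6), (2324, 8), (1503, 6), (1894, 2), (1894, 7), (2296, 2), (2296, 7), (2316, 3), (2316, 7), (2317, 6), (2317, 8), (2299, 2), (2704, 7), (2823, 4), (2823, 7), (2824, 6), (2824, 8), (2731, 4), (2731, 7), (2732, 6), (2732, 8), (2310, 7), (2724, 7), (2725, 6), (2725, 8), (2700, 2), (2852, 4), (3183, 7), (3184, 6), (3184, 8), (3185, 2), (3185, 8), (3175, 4), (2819, 3), (1790, 4), (2260, 3), (2260, 7), (3189, 6), (3190, 2), (2748, 4), (2834, 7), (2740, 7), (2825, 7), (2321, 7), (2837, 6), (2650, 2), (2750, 2), (2359, 4), (1811, 4), (2266, 5), (2266, 7), (2264, 2), (2649, 6), (3140, 4), (3140, 7), (3126, 7), (2798, 4), (2798, 7), (2778, 3), (2778, 7), (3228, 6), (1888, 2), (2839, 2)]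

/-- part 24 of a tree -/
def levelsTree1Part24 : List (ℕ × ℕ) := [(2262, 6), (2646, 7), (3121, 3), (3121, 7), (3247, 6), (2668, 7), (3150, 6), (3204, 7), (2796, 7), (3244, 6), (2789, 7), (3229, 6), (3432, 2), (2672, 6), (3153, 2), (3435, 3), (2282, 7), (2802, 6), (3114, 2), (2360, 7), (3201, 7), (3192, 7), (3113, 5), (3255, 6), (3146, 7), (3241, 6), (3197, 7), (3207, 6), (3138, 5), (3138, 7), (3200, 6), (3200, 8), (3262, 2), (3128, 3), (3210, 6), (3213, 2), (2971, 4), (2971, 7), (2972, 6), (2972, 8), (3030, 4), (2891, 2), (2891, 7), (2948, 1), (2948, 6), (2948, 7), (2467, 3), (2502, 7), (2003, 7), (2002, 2), (2505, 6), (2505, 8), (1690, 6), (2051, 2), (2051, 7), (2050, 2), (2050, 7), (2556, 3), (2556, 7), (2557, 6), (2557, 8), (2072, 2), (2558, 7), (2982, 4), (2982, 7), (2983, 6), (2983,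 8), (2967, 4), (2967, 7), (2968, 6), (2968, 8), (2073, 7), (2477, 7), (2478, 6), (2478, 8), (2448, 2), (3014, 4), (2984, 7), (2985, 6), (2985, 8), (2986, 2), (2986, 8), (3331, 4), (2575, 3), (1618, 4), (2052, 3), (2052, 7), (2997, 6), (2998, 2), (2978, 4), (2880, 7), (2881, 7), (2878, 7), (2503, 7), (2882, 6), (2413, 2), (2884, 2), (2438, 4), (1686, 4), (2028, 5)]

/-- part 25 of a tree -/
def levelsTree1Part25 : List (ℕ × ℕ) := [(2028, 7), (2026, 2), (2412, 6), (3034, 4), (3034, 7), (2917, 7), (2946, 4), (2946, 7), (2532, 3), (2532, 7), (3035, 6), (1683, 2), (2962, 2), (2024, 6), (2409, 7), (2912, 3), (2912, 7), (3059, 6), (2902, 7), (3304, 6), (3039, 7), (3024, 7), (3314, 6), (3018, 7), (3036, 6), (3370, 2), (2905, 6), (3306, 2), (3372, 3), (2522, 7), (2947, 6), (2964, 2), (2501, 7), (3031,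 7), (3062, 7), (2963, 5), (3063, 6), (2920, 7), (3040, 6), (3072, 7), (3073, 6), (2988, 5), (2988, 7), (2989, 6), (2989, 8), (3074, 2), (2919, 3), (3081, 6), (3082, 2), (2990, 7), (2991, 6), (2991, 8), (2992, 8), (3051, 4), (2954, 7), (2571, 6), (2571, 7), (2952, 7), (2955, 6), (2521, 2), (2119, 7), (2552, 7), (2569, 7), (2570, 6), (2570, 8), (2555, 2), (2953, 6), (3064, 7), (3065, 6), (3066, 8), (2979, 7), (2980, 6), (2980, 8), (2981, 8), (2565, 6), (2973, 6), (2974, 2), (2974, 8), (3084, 4), (3341, 6), (3342, 2), (3342, 8), (3001, 4), (3060, 3), (3334, 4), (3334, 7), (2514, 7), (3345, 2), (3075, 6), (2994, 6), (3067, 6), (2577, 6), (3077, 2), (2896, 7), (2915, 7), (3312, 6), (3301, 6), (2535, 7), (3045, 6), (2529, 7)]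

/-- part 26 of a tree -/
def levelsTree1Part26 : List (ℕ × ℕ) := [(3023, 6), (3374, 2), (3069, 3), (2516, 7), (2914, 7), (3297, 6), (3388, 2), (2923, 6), (3320, 2), (3358, 6), (3042, 6), (3385, 2), (3032, 6), (3493, 3), (2928, 2), (2889, 2), (3356, 6), (3348, 6), (3316, 6), (3382, 2), (3352, 6), (3361, 2), (3310, 6), (3310, 8), (3302, 3), (3364, 2), (3327, 1), (3107, 7), (3186, 6), (3186, 8), (3187, 8), (3235, 4), (3116, 7), (2761, 6), (2761, 7), (2814, 7), (3167, 6), (2281, 2), (2303, 7), (2301, 7), (2759, 7), (2813, 6), (2813, 8), (2319, 2), (2815, 6), (3104, 7), (3195, 6), (3196, 8), (3105, 7), (3181, 6), (3181, 8), (3182, 8), (2322, 6), (2741, 6), (2742, 2), (2742, 8), (3223, 4), (3198, 6), (3199, 2), (3199, 8), (3191, 4), (2836, 3), (3439, 4), (3439, 7), (2305, 7), (3211, 2), (3108,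 6), (3109, 6), (3106, 6), (2764, 6), (3110, 2), (2662, 7), (3124, 7), (3238, 6), (3144, 6), (2781, 7), (3166, 6), (2775, 7), (2794, 6), (3239, 2), (3177, 3), (2275, 7), (3123, 7), (3137, 6), (3254, 2), (3131, 6), (3421, 2), (3242, 6), (3231, 6), (3428, 2), (3226, 6), (3465, 3), (3134, 2), (2717, 2), (3236, 6), (3256, 6), (3147, 6), (3243, 2), (3263, 6), (3264, 2)]

/-- part 27 of a tree -/
def levelsTree1Part27 : List (ℕ × ℕ) := [(3202, 6), (3202, 8), (3145, 3), (3267, 2), (3268, 1), (3205, 6), (3206, 2), (3206, 8), (3252, 4), (3246, 4), (3246, 7), (3172, 6), (2773, 7), (2829, 6), (3170, 6), (2811, 6), (2826, 6), (2827, 2), (2827, 8), (3258, 6), (3259, 2), (3193, 6), (3194, 2), (3194, 8), (3442, 7), (3266, 4), (3445, 2), (3209, 4), (3441, 7), (3437, 3), (3260, 2), (3141, 6), (3426, 2), (2799,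 6), (3248, 2), (2790, 6), (3261, 3), (3139, 6), (3151, 2), (3458, 2), (3471, 3), (3456, 2), (3449, 2), (3434, 3), (3453, 2), (3431, 1), (3287, 6), (3343, 2), (3343, 8), (3366, 4), (3377, 4), (3377, 7), (3294, 6), (2559, 7), (3008, 6), (3056, 6), (2560, 6), (3007, 6), (3055, 2), (3055, 8), (3284, 6), (3351, 2), (3285, 6), (3340, 2), (3340, 8), (3381, 7), (3371, 4), (3353, 2), (3344, 4), (3483, 7), (3365, 3), (3286, 2), (3299, 6), (3380, 2), (3026, 6), (3329, 2), (3019, 6), (3337, 3), (3298, 6), (3305, 2), (3383, 2), (3491, 3), (3378, 2), (3391, 2), (3384, 3), (3394, 2), (3395, 1), (3359, 2), (3360, 1), (3360, 8), (3387, 4), (3318, 7), (3017, 6), (3392, 2), (3349, 2), (3495, 3), (3482, 8), (3313, 2), (3502, 3), (3490, 3)]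

/-- part 28 of a tree -/
def levelsTree1Part28 : List (ℕ × ℕ) := [(3488, 1), (3407, 2), (3447, 1), (3447, 8), (3455, 4), (3420, 7), (2816, 6), (3405, 2), (3406, 2), (3454, 3), (3443, 8), (3418, 2), (3470, 3), (3468, 3), (3472, 1)]

/-- a tree -/
def levelsTree1 : List (ℕ × ℕ) :=
  [levelsTree1Part0, levelsTree1Part1, levelsTree1Part2, levelsTree1Part3, levelsTree1Part4, levelsTree1Part5, levelsTree1Part6, levelsTree1Part7, levelsTree1Part8, levelsTree1Part9, levelsTree1Part10, levelsTree1Part11, levelsTree1Part12, levelsTree1Part13, levelsTree1Part14, levelsTree1Part15, levelsTree1Part16, levelsTree1Part17, levelsTree1Part18, levelsTree1Part19, levelsTree1Part20, levelsTree1Part21, levelsTree1Part22, levelsTree1Part23, levelsTree1Part24, levelsTree1Part25, levelsTree1Part26, levelsTree1Part27,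 levelsTree1Part28].flatten


/-- level 1 -/
def levelsLevel1 : Level := ⟨1, [[0],
    [2],
    [3],
    [4],
    [5],
    [6],
    [7],
    [8],
    [0, 1, 2, 3, 4, 7, 0, 1, 2, 3, 4, 7, 0, 1, 2, 3, 4, 7, 0, 1, 2, 3, 4, 7, 0, 1, 2, 3, 4, 7]], levelsTree1,
    0x3ffffffffffffffffffffffffffe7ffffffffffffffffffffffffffff6ff3ffffffffffffdfffffffffffff6ffffffffffffff6fff1fffffffffffffffffffafffffffffffffffb4ffffffffffffffd9fffc7fffffffffffffffffffedff97ffffffffffffffe327ffffffffffdfe4fffcffffffffffffff6ffffffffcbfe1effffffffffffffc43ffffffffdfc3ffefffffffffffffffff27fffffff87fc3e8fffffffffffff03fffffcfc3ffdfffffffffdfffffe7fffc1fffffe1fe17c1fffffeffff07fff9f0fffffffdffffff8fffffc3fff83fffc3f03fc1fffe7fb87fe387ffffffffc7ffff7f83fffc3fe1ff8781ffc3ff1f61f98ffffffffffffb87fff7e7c3ff0fc3f180ffde1f9d8e47ffffffffffffffff3e1ff9ff1f87e38e23fc3f78e68c9fffffffffffffffffd3f0ffdf1f8e38c641ff1ce3210ffffffffffffffffffcf1f1df8e38c6481dc64407fffffffffffffffffff0f8e31c632401a2003fffffffffdffffffffff01c64648010001ffffffffffffffffe006420000005fffffffffffff0020000067fffffffffe0000013ffffffff00001ffffffe0003fffffc007ffff801fffe001fffa003fff003ffe07e⟩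

/-- part 0 of a tree -/
def levelsTree2Part0 : List (ℕ × ℕ) := [(198, 1), (198, 2), (198, 3), (247, 0), (247, 2), (247, 3), (1735, 0), (1735, 2), (1735, 3), (620, 0), (620, 2), (310, 2), (310, 3), (1950, 0), (1950, 2), (1950, 3), (769, 0), (769, 2), (1949, 1), (1949, 2), (1949, 3), (1976, 0), (1976, 1), (1976, 2), (511, 0), (511, 2), (773, 1), (773, 2), (3209, 0), (3209, 1), (3209, 2), (3209, 3), (2188, 0), (2188, 2), (2188, 3), (1956, 0), (1956, 2), (2187, 1), (2187, 2), (2187, 3), (3478, 0), (3478, 1), (3478, 2), (411, 0), (942, 1), (942, 2), (3001, 0), (3001, 1), (3001, 2), (3001, 3), (1882, 2), (1882, 3), (1754, 0), (1754, 1), (1754, 2), (786, 0), (786, 2), (1755, 2), (1755, 3), (2220, 2), (1292, 1), (1292, 2), (404, 1), (404, 2), (2652, 0), (2652, 1), (2652, 2), (934, 2), (2995, 0),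 (2995, 1), (2995, 2), (2995, 3), (3362, 1), (3362, 2), (3362, 3), (3354, 0), (3354, 2), (3354, 3), (2001, 0), (2001, 1), (2001, 2), (3342, 0), (3342, 2), (2442, 1), (2442, 2), (2442, 3), (3469, 0), (3469, 1), (3469, 2), (331, 0), (2194, 1), (2194, 2), (3489, 0), (3489, 1), (3489, 2), (3489, 3), (2097, 2), (2097, 3), (3407, 0), (3407, 1)]

/-- part 1 of a tree -/
def levelsTree2Part1 : List (ℕ × ℕ) := [(3407, 2), (940, 0), (940, 2), (3447, 1), (3447, 2), (3447, 3), (3470, 0), (3470, 2), (2761, 0), (2761, 1), (324, 1), (324, 2), (1121, 2), (2748, 0), (2748, 1), (2748, 2), (2748, 3), (3214, 1), (3214, 2), (3214, 3), (3212, 0), (3212, 2), (3212, 3), (665, 0), (3184, 0), (3184, 2), (1556, 0), (1556, 1), (1556, 2), (955, 0), (955, 2), (1557, 2), (1557, 3), (1975, 2), (2795, 0), (2795, 1), (2795,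 2), (629, 1), (629, 2), (2676, 0), (2676, 2), (1104, 1), (1104, 2), (634, 2), (1493, 1), (1493, 2), (1102, 0), (1102, 2), (378, 0), (378, 1), (378, 2), (321, 2), (2902, 0), (2902, 1), (2902, 2), (2904, 1), (2904, 2), (2904, 3), (2424, 0), (2424, 2), (2972, 0), (2972, 1), (2972, 2), (2741, 0), (2741, 1), (2741, 2), (2741, 3), (3208, 1), (3208, 2), (3208, 3), (3199, 2), (3199, 3), (1819, 0), (1819, 1), (1819, 2), (3446, 0), (3446, 2), (3431, 0), (3431, 2), (3431, 3), (2246, 0), (2246, 1), (2246, 2), (3412, 0), (3412, 2), (3454, 3), (2248, 0), (3188, 0), (3188, 2), (2142, 1), (2142, 2), (2142, 3), (2247, 0), (2247, 2), (2670, 1), (2670, 2), (3445, 1), (3445, 2), (1812, 0), (1812, 1)]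

/-- part 2 of a tree -/
def levelsTree2Part2 : List (ℕ × ℕ) := [(1812, 2), (2340, 2), (2340, 3), (3380, 0), (3380, 1), (3380, 2), (1123, 0), (1123, 2), (3485, 1), (3485, 2), (3485, 3), (3491, 0), (3491, 2), (1625, 0), (1625, 1), (1625, 2), (264, 1), (264, 2), (2101, 2), (3426, 0), (3426, 1), (3426, 2), (3426, 3), (3427, 1), (3427, 2), (3427, 3), (3471, 0), (3471, 2), (3471, 3), (1831, 0), (1831, 1), (1831, 2), (3459, 0), (3459, 2), (3287, 0), (3287, 1), (3287, 2), (1122, 0), (3343, 1), (3343, 2), (3343, 3), (3383, 0), (3383, 2), (1690, 1), (768, 1), (2744, 0), (2744, 2), (3350, 0), (3350, 3), (2502, 0), (3496, 2), (3488, 2), (3488, 3), (2559, 0), (2559, 1), (2559, 2), (2961, 1), (2503, 0), (2482, 0), (2482, 2), (2482, 3), (3000, 1), (3000, 2), (3000, 3), (2998, 0), (2998, 2), (2998, 3),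 (2014, 0), (2976, 0), (2976, 2), (3327, 0), (3327, 2), (3327, 3), (527, 0), (3292, 0), (3292, 2), (3365, 2), (3365, 3), (821, 0), (821, 2), (2973, 0), (2973, 2), (820, 3), (3341, 1), (3341, 2), (3396, 0), (3396, 1), (3396, 2), (1369, 2), (1369, 3), (1753, 2), (2206, 1), (2206, 2), (788, 1), (788, 2), (2419, 0), (2419, 2), (2545, 0), (2545, 1), (2545, 2)]

/-- part 3 of a tree -/
def levelsTree2Part3 : List (ℕ × ℕ) := [(789, 2), (3031, 0), (3031, 1), (3031, 2), (2920, 1), (2880, 0), (2880, 2), (3353, 1), (500, 2), (2894, 0), (2894, 2), (2930, 1), (2930, 2), (2930, 3), (1105, 0), (1105, 2), (921, 0), (921, 2), (497, 0), (497, 1), (497, 2), (796, 2), (1293, 0), (1293, 2), (535, 0), (535, 1), (535, 2), (920, 3), (303, 1), (478, 2), (478, 3), (300, 2), (2668, 0), (2668, 1), (2668, 2), (3124, 0),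 (3124, 1), (3124, 2), (3130, 1), (3130, 2), (3130, 3), (2667, 0), (2667, 2), (3235, 0), (3235, 1), (3235, 2), (2766, 0), (2766, 2), (2766, 3), (2730, 0), (2730, 1), (2730, 2), (1110, 2), (2289, 2), (2289, 3), (3187, 0), (3187, 1), (3187, 2), (2819, 1), (2819, 2), (2819, 3), (2732, 0), (2732, 2), (3220, 0), (3220, 1), (3220, 2), (2994, 1), (2994, 2), (2994, 3), (2985, 2), (2985, 3), (3291, 0), (3291, 1), (3291, 2), (3346, 0), (3346, 2), (3361, 2), (3361, 3), (2052, 0), (2052, 1), (3388, 0), (3388, 2), (1608, 0), (3344, 0), (3344, 2), (1609, 2), (1609, 3), (2051, 2), (1339, 1), (1339, 2), (3495, 1), (3495, 2), (2077, 0), (2077, 1), (2077, 2), (3494, 3), (2501, 0), (2501, 2), (3295, 0), (3295, 2)]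

/-- part 4 of a tree -/
def levelsTree2Part4 : List (ℕ × ℕ) := [(2382, 1), (2382, 2), (2382, 3), (2061, 0), (2061, 2), (2960, 1), (3390, 1), (3390, 2), (2578, 0), (2578, 1), (2578, 2), (3309, 0), (3309, 2), (2383, 1), (3289, 1), (2044, 1), (2090, 0), (2090, 2), (2090, 3), (2415, 1), (2415, 2), (627, 2), (2454, 2), (2925, 1), (2925, 2), (2417, 0), (2417, 2), (1489, 0), (1489, 1), (1489, 2), (3394, 2), (1688, 0), (1688, 1), (1688, 2), (770, 1), (3238, 0), (3238, 1), (3238, 2), (936, 0), (3418, 1), (3418, 2), (3418, 3), (3428, 0), (3428, 2), (1842, 1), (1842, 2), (939, 1), (2978, 0), (3425, 0), (3425, 2), (3425, 3), (1839, 0), (1839, 1), (1839, 2), (3506, 2), (3467, 2), (1841, 0), (1841, 1), (1841, 2), (1752, 1), (1752, 2), (1840, 0), (1840, 2), (2223, 0), (2223, 1), (3312, 0), (3312, 1), (3312,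 2), (3312, 3), (3313, 1), (3313, 2), (3313, 3), (3385, 0), (3385, 2), (3385, 3), (2064, 1), (2064, 2), (3359, 0), (3484, 0), (3484, 2), (3484, 3), (2049, 0), (2049, 1), (2049, 2), (3498, 2), (3386, 2), (3386, 3), (2063, 0), (2063, 1), (2063, 2), (3502, 0), (3502, 2), (1963, 1), (1963, 2), (2048, 0), (2048, 2), (2466, 0), (2466, 1), (2466, 2), (3360, 1)]

/-- part 5 of a tree -/
def levelsTree2Part5 : List (ℕ × ℕ) := [(2571, 0), (3186, 1), (3186, 2), (3186, 3), (3242, 0), (3242, 2), (1930, 0), (1930, 1), (935, 1), (3194, 0), (3194, 3), (3455, 2), (3449, 2), (3449, 3), (1885, 1), (1885, 2), (1497, 0), (2997, 1), (2997, 2), (2997, 3), (3337, 1), (3337, 2), (3450, 3), (3460, 0), (3460, 2), (2714, 1), (2283, 0), (2283, 1), (2283, 2), (2305, 0), (2305, 2), (3473, 2), (2716, 1), (2716, 2), (2759,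 0), (2759, 2), (2737, 0), (2630, 3), (2747, 1), (2747, 2), (2747, 3), (3177, 0), (3177, 1), (3190, 0), (3190, 2), (3213, 0), (3213, 3), (3114, 0), (3211, 2), (3211, 3), (1790, 0), (1790, 2), (2728, 0), (2728, 2), (2260, 1), (2260, 3), (3189, 1), (3189, 2), (3261, 0), (3261, 1), (3261, 2), (3438, 2), (3438, 3), (646, 0), (3117, 0), (666, 3), (3255, 1), (761, 0), (761, 1), (974, 0), (974, 2), (3137, 0), (3137, 2), (986, 2), (986, 3), (617, 0), (617, 1), (617, 2), (3109, 1), (3109, 2), (3269, 0), (3269, 1), (3269, 2), (3263, 2), (3265, 0), (3265, 1), (3265, 2), (3266, 1), (3266, 2), (3266, 3), (3434, 0), (3434, 2), (2778, 0), (2778, 2), (2463, 1), (2463, 2), (915, 2), (1964, 1), (1965, 0), (1965, 2)]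

/-- part 6 of a tree -/
def levelsTree2Part6 : List (ℕ × ℕ) := [(3201, 0), (3201, 1), (3201, 2), (632, 2), (2285, 0), (2675, 1), (2675, 2), (2675, 3), (3393, 1), (3393, 2), (2680, 1), (2635, 0), (2635, 2), (3257, 0), (3257, 1), (3257, 2), (965, 0), (965, 2), (3138, 1), (3104, 0), (3104, 2), (2455, 2), (3116, 0), (2763, 3), (3198, 1), (3198, 2), (2644, 0), (2644, 2), (3119, 1), (3119, 2), (3119, 3), (797, 0), (3155, 2), (3155, 3), (2651, 2), (1296, 1), (1296, 2), (1296, 3), (3451, 1), (3451, 2), (753, 3), (610, 1), (630, 1), (630, 2), (630, 3), (391, 0), (391, 2), (648, 0), (648, 1), (1103, 2), (1103, 3), (662, 0), (662, 1), (662, 2), (670, 1), (670, 2), (670, 3), (418, 0), (418, 2), (1957, 0), (2416, 0), (2416, 1), (2416, 2), (2915, 0), (2915, 1), (2915, 2), (2922, 1), (2922, 2), (2901,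 0), (2901, 2), (3051, 0), (3051, 1), (3051, 2), (3034, 1), (3034, 2), (3034, 3), (2914, 0), (2914, 2), (2230, 0), (2230, 1), (2230, 2), (3009, 0), (3009, 2), (3009, 3), (3030, 0), (3030, 1), (3030, 2), (1302, 2), (2534, 2), (2534, 3), (3377, 0), (3377, 1), (3377, 2), (3308, 1), (3308, 2), (3308, 3), (3336, 0), (3336, 2), (1139, 0), (2543, 2)]

/-- part 7 of a tree -/
def levelsTree2Part7 : List (ℕ × ℕ) := [(2543, 3), (2588, 0), (2588, 1), (2588, 2), (926, 0), (926, 2), (2567, 1), (2567, 2), (2567, 3), (2472, 0), (2472, 2), (2882, 0), (2882, 1), (3464, 0), (3464, 1), (3464, 2), (3066, 0), (3066, 1), (3066, 2), (1290, 2), (3060, 1), (3060, 2), (3060, 3), (2981, 0), (2981, 2), (3068, 2), (2949, 0), (2949, 2), (2949, 3), (3013, 0), (3013, 1), (2955, 2), (2570, 2), (2570, 3), (3370, 0), (3370,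 1), (3370, 2), (3036, 1), (3036, 2), (3036, 3), (3304, 0), (3028, 0), (3207, 2), (3207, 3), (3112, 0), (3112, 1), (3112, 2), (3247, 0), (3247, 2), (3408, 0), (3408, 1), (3408, 2), (3191, 0), (3191, 2), (3223, 1), (3223, 2), (3223, 3), (3251, 2), (1111, 0), (3437, 1), (3437, 2), (784, 0), (784, 2), (1830, 2), (3248, 0), (3416, 1), (3416, 2), (3219, 1), (3219, 2), (3409, 1), (1897, 1), (1152, 1), (1152, 2), (494, 2), (1515, 1), (1150, 0), (3139, 0), (3474, 2), (2321, 0), (2325, 1), (2325, 2), (2323, 0), (3178, 1), (3142, 0), (3142, 2), (2629, 1), (2629, 2), (2841, 0), (3225, 2), (2322, 2), (2336, 2), (2336, 3), (3135, 1), (2199, 2), (2712, 1), (2712, 2), (3260, 2), (2817, 0), (2817, 1), (2817, 2)]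

/-- part 8 of a tree -/
def levelsTree2Part8 : List (ℕ × ℕ) := [(2742, 1), (2830, 0), (2830, 2), (2774, 1), (3254, 1), (3230, 1), (3230, 2), (2239, 2), (2356, 1), (2356, 2), (785, 2), (2166, 0), (3024, 2), (2850, 1), (2850, 2), (2673, 0), (2673, 2), (1304, 0), (1288, 0), (1288, 2), (1289, 2), (1289, 3), (1680, 2), (809, 0), (809, 1), (1887, 1), (1887, 2), (1955, 1), (943, 0), (3299, 3), (3314, 0), (3314, 2), (2719, 0), (2719, 2), (764, 1), (3311, 0), (3311, 2), (3311, 3), (2075, 1), (2075, 2), (3500, 2), (3376, 2), (1627, 0), (1627, 2), (3105, 0), (3105, 1), (3105, 2), (3111, 1), (3379, 2), (2070, 0), (2070, 1), (2070, 2), (3504, 0), (3504, 2), (1972, 1), (1972, 2), (2043, 0), (2029, 1), (2029, 2), (2073, 0), (2073, 1), (2073, 2), (1974, 1), (1974, 2), (2072, 0), (2072, 2), (2410, 1), (2410,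 2), (1973, 0), (1977, 1), (2071, 2), (2071, 3), (2483, 0), (2483, 2), (3244, 0), (3244, 3), (2471, 1), (3205, 0), (3205, 2), (3417, 0), (3417, 2), (2249, 1), (2249, 2), (3462, 2), (3245, 2), (3245, 3), (1832, 1), (3458, 0), (1833, 0), (1833, 2), (2979, 0), (2979, 1), (2979, 2), (3206, 1), (3466, 3), (2300, 1), (2300, 2), (3505, 0), (3505, 2), (2203, 2)]

/-- part 9 of a tree -/
def levelsTree2Part9 : List (ℕ × ℕ) := [(1817, 0), (2745, 2), (2267, 0), (2267, 1), (2310, 1), (2310, 2), (3452, 0), (3452, 2), (2205, 2), (2299, 0), (2299, 2), (2647, 0), (2647, 1), (2647, 2), (3472, 1), (3472, 2), (2773, 0), (2204, 0), (2204, 2), (2208, 0), (2208, 1), (2208, 2), (2192, 2), (2192, 3), (2729, 0), (2727, 2), (1144, 1), (2828, 1), (2980, 0), (2980, 2), (2980, 3), (2161, 0), (2161, 1), (3366, 2), (3348,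 2), (2163, 1), (2163, 2), (1797, 1), (1797, 3), (3349, 3), (3363, 0), (3363, 2), (2561, 1), (2561, 2), (2062, 2), (3392, 2), (1691, 0), (1691, 2), (1883, 1), (1883, 2), (1297, 3), (3210, 2), (3210, 3), (3239, 1), (3239, 2), (3203, 0), (3203, 2), (2812, 0), (2812, 1), (2812, 2), (3490, 0), (3490, 2), (3499, 2), (2515, 0), (2515, 1), (2537, 2), (1496, 1), (2456, 2), (2519, 0), (2519, 2), (2963, 0), (2963, 2), (2878, 2), (2878, 3), (1163, 2), (2573, 3), (2999, 2), (2999, 3), (2962, 0), (2962, 1), (3047, 0), (1618, 2), (3364, 3), (3078, 1), (1677, 2), (2913, 0), (2913, 2), (2013, 1), (2013, 3), (976, 1), (976, 2), (2883, 1), (2883, 2), (3069, 0), (3069, 1), (2119, 3), (3081, 2), (3374, 1), (3070, 1), (3070, 2)]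

/-- part 10 of a tree -/
def levelsTree2Part10 : List (ℕ × ℕ) := [(3070, 3), (3355, 0), (2572, 2), (804, 0), (2916, 0), (2916, 2), (1159, 2), (1159, 3), (265, 1), (265, 2), (3059, 1), (3059, 2), (3010, 0), (3010, 1), (661, 0), (661, 1), (661, 2), (486, 1), (486, 2), (776, 0), (776, 2), (3441, 2), (3073, 2), (3083, 0), (3083, 1), (3083, 2), (3084, 1), (3084, 2), (3084, 3), (3324, 0), (3324, 2), (929, 0), (3075, 1), (3076, 2), (3382, 0), (3382, 2), (1678, 2), (3334, 2), (2518, 0), (2518, 2), (2974, 2), (3492, 2), (3492, 3), (3020, 1), (3020, 2), (1323, 1), (2207, 0), (1518, 2), (485, 1), (485, 2), (1746, 0), (1747, 2), (3038, 0), (2988, 1), (2988, 2), (3064, 0), (2638, 1), (2394, 0), (2394, 2), (2541, 1), (2541, 3), (2929, 2), (2929, 3), (3259, 1), (3259, 2), (2583, 2), (3440, 0), (3440, 2),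 (2264, 0), (2891, 0), (2508, 3), (3063, 1), (3338, 1), (3286, 0), (3053, 2), (807, 1), (2933, 1), (2965, 0), (2982, 3), (2698, 0), (2698, 1), (2948, 3), (3288, 1), (3288, 2), (2892, 1), (2892, 2), (2892, 3), (1136, 0), (1136, 1), (1136, 2), (3278, 2), (3278, 3), (2870, 2), (963, 1), (963, 3), (1490, 2), (2400, 0), (2400, 2), (2796, 1), (1126, 2)]

/-- part 11 of a tree -/
def levelsTree2Part11 : List (ℕ × ℕ) := [(1126, 3), (3387, 1), (3497, 0), (2523, 0), (489, 0), (787, 0), (787, 2), (787, 3), (501, 2), (2452, 2), (799, 3), (808, 1), (816, 1), (816, 2), (524, 0), (524, 2), (3326, 1), (3326, 2), (531, 0), (531, 2), (531, 3), (2197, 0), (2114, 2), (327, 3), (2195, 1), (2195, 3), (2671, 1), (2671, 2), (2659, 0), (2659, 2), (2739, 0), (2739, 1), (2739, 2), (2469, 0), (3149, 2), (2808, 0), (2808,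 1), (2808, 2), (2780, 2), (2780, 3), (3246, 0), (3246, 1), (3246, 2), (3159, 1), (3159, 2), (3159, 3), (3249, 0), (3249, 2), (1096, 0), (3143, 2), (3143, 3), (2476, 0), (2476, 2), (1994, 0), (1994, 2), (2082, 1), (2082, 2), (2082, 3), (3071, 1), (2793, 2), (2787, 0), (1108, 0), (3136, 1), (3136, 2), (3136, 3), (3234, 0), (3234, 2), (1481, 2), (3298, 0), (3232, 1), (3232, 2), (1488, 2), (3420, 1), (3442, 0), (2301, 0), (2301, 2), (3154, 2), (3154, 3), (3435, 2), (3435, 3), (971, 0), (971, 2), (1327, 1), (2824, 0), (1101, 0), (1101, 2), (2722, 1), (2722, 2), (2722, 3), (2798, 1), (3501, 0), (3501, 2), (2700, 0), (2700, 2), (2631, 1), (2709, 2), (2317, 2), (2317, 3), (3398, 1), (3398, 3)]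

/-- part 12 of a tree -/
def levelsTree2Part12 : List (ℕ × ℕ) := [(3368, 2), (3185, 2), (3171, 2), (3233, 2), (388, 0), (388, 1), (3168, 2), (3227, 2), (3173, 2), (2302, 0), (2302, 1), (3222, 1), (3222, 2), (2804, 3), (3465, 1), (3240, 2), (3421, 0), (1428, 0), (2797, 0), (2797, 3), (3152, 1), (3152, 3), (2885, 1), (3045, 0), (3014, 1), (3014, 2), (3014, 3), (3050, 2), (1309, 0), (1309, 2), (3297, 1), (3371, 1), (3371, 2), (3384, 2), (2532, 0), (2532, 1), (2532, 2), (3290, 1), (3331, 2), (3331, 3), (928, 0), (2478, 2), (1281, 0), (1281, 2), (1306, 1), (1306, 3), (932, 2), (953, 1), (953, 2), (659, 1), (659, 2), (772, 0), (772, 1), (772, 2), (3300, 2), (3037, 1), (3037, 2), (2555, 1), (2122, 0), (968, 0), (3481, 0), (1340, 0), (3032, 3), (2576, 1), (2581, 0), (2964, 1), (3033, 2), (3061,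 0), (2887, 1), (1160, 0), (1160, 2), (2907, 1), (2458, 1), (2458, 2), (2959, 2), (1330, 0), (1330, 1), (1330, 2), (2560, 1), (2956, 1), (3055, 0), (3055, 2), (2530, 1), (2986, 0), (3027, 0), (3027, 2), (2385, 0), (3258, 1), (791, 2), (2460, 2), (2884, 0), (2884, 2), (1329, 0), (1329, 2), (1120, 2), (1491, 1), (1491, 3), (1100, 2), (387, 0), (387, 1)]

/-- part 13 of a tree -/
def levelsTree2Part13 : List (ℕ × ℕ) := [(387, 2), (649, 0), (672, 0), (672, 1), (977, 1), (2327, 1), (2327, 2), (3463, 2), (2461, 2), (2556, 2), (2556, 3), (3320, 1), (3237, 2), (1896, 1), (1896, 2), (3509, 0), (3509, 2), (1843, 0), (1843, 2), (1314, 1), (2304, 1), (1429, 2), (1429, 3), (2881, 0), (2881, 1), (2967, 1), (2967, 2), (3062, 0), (3062, 2), (3121, 1), (2296, 0), (2296, 2), (3508, 2), (2250, 1), (2250, 2),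 (2186, 3), (2574, 1), (2218, 1), (2218, 2), (2318, 0), (2318, 2), (1344, 2), (2217, 0), (2217, 2), (2333, 1), (2308, 2), (2308, 3), (2664, 1), (2664, 2), (2633, 0), (2216, 3), (1129, 2), (2226, 2), (1285, 0), (1285, 2), (3042, 3), (3358, 0), (2991, 1), (2991, 2), (3373, 3), (2002, 1), (2002, 2), (2003, 0), (2003, 2), (1342, 2), (1689, 1), (3351, 0), (3351, 2), (1619, 0), (3391, 1), (1620, 2), (1620, 3), (2740, 0), (2740, 1), (2731, 2), (3192, 2), (2912, 0), (2912, 1), (2050, 2), (3503, 2), (2078, 1), (2078, 2), (1954, 3), (2554, 0), (2554, 2), (1162, 1), (1162, 2), (3476, 1), (2586, 0), (2586, 1), (2898, 0), (2517, 2), (2485, 0), (2089, 2), (2443, 0), (2443, 1), (2951, 0), (949, 2), (2409, 0), (3215, 0)]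

/-- part 14 of a tree -/
def levelsTree2Part14 : List (ℕ × ℕ) := [(3215, 2), (2024, 1), (2024, 3), (1629, 2), (2412, 2), (2025, 3), (2027, 2), (3456, 0), (3456, 2), (2306, 0), (631, 2), (1889, 2), (1498, 2), (2110, 1), (1916, 2), (1961, 0), (1961, 1), (1961, 2), (3035, 1), (3457, 2), (2297, 0), (1687, 1), (2649, 2), (2822, 2), (2822, 3), (1343, 2), (1119, 2), (533, 0), (533, 1), (533, 2), (2792, 1), (945, 0), (945, 1), (945, 2), (2484, 1), (2484, 2), (2821, 1), (815, 0), (815, 2), (2905, 1), (2849, 2), (2839, 1), (3228, 1), (3228, 2), (2838, 0), (2820, 2), (3221, 1), (3221, 2), (326, 2), (333, 0), (333, 2), (1711, 2), (2767, 1), (3108, 1), (616, 1), (812, 0), (812, 2), (607, 0), (3333, 2), (938, 2), (938, 3), (2117, 1), (2851, 1), (2852, 2), (3250, 2), (3175, 2), (759, 0), (2725, 2), (3436,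 2), (3436, 3), (1115, 2), (1114, 1), (3429, 2), (2540, 1), (2263, 2), (2777, 2), (2816, 1), (606, 0), (606, 2), (2971, 0), (3146, 1), (2642, 1), (2642, 2), (2642, 3), (2996, 0), (2996, 1), (2328, 0), (3332, 0), (3332, 2), (2701, 3), (2814, 3), (3243, 0), (3243, 2), (1485, 1), (1485, 2), (1316, 1), (1316, 2), (3098, 2), (954, 3), (1324, 2)]

/-- part 15 of a tree -/
def levelsTree2Part15 : List (ℕ × ℕ) := [(1682, 1), (519, 2), (2156, 2), (3252, 1), (3252, 2), (3448, 0), (3507, 3), (2202, 2), (1143, 0), (1143, 1), (657, 0), (654, 0), (654, 2), (3158, 1), (409, 3), (3430, 2), (1095, 2), (414, 3), (1898, 0), (1898, 2), (2150, 0), (2150, 1), (2150, 2), (2926, 2), (2490, 0), (2490, 1), (2527, 3), (2314, 3), (2935, 2), (2935, 3), (3048, 2), (1287, 2), (3043, 0), (3318, 1), (2552, 2), (3307, 3),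 (3372, 2), (3372, 3), (1153, 0), (1283, 1), (2721, 2), (2193, 2), (2928, 0), (2928, 2), (2928, 3), (3322, 2), (3322, 3), (1679, 2), (3226, 3), (1674, 2), (482, 1), (3323, 2), (818, 2), (803, 0), (1155, 1), (1155, 2), (919, 2), (483, 1), (2413, 1), (3410, 3), (2004, 2), (3306, 2), (1686, 0), (3169, 3), (1506, 2), (2418, 0), (2781, 0), (2781, 1), (2791, 2), (780, 2), (2736, 2), (982, 0), (982, 2), (248, 2), (1135, 2), (623, 1), (2794, 1), (3411, 3), (981, 2), (981, 3), (1925, 0), (3072, 1), (1520, 1), (1142, 3), (1519, 2), (3356, 0), (614, 1), (423, 0), (423, 2), (312, 0), (312, 2), (305, 2), (2079, 2), (1846, 2), (984, 2), (1886, 2), (1694, 2), (1628, 2), (1494, 0), (2632, 0)]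

/-- part 16 of a tree -/
def levelsTree2Part16 : List (ℕ × ℕ) := [(946, 2), (2724, 1), (2738, 0), (2895, 1), (1337, 2), (947, 2), (2474, 0), (2474, 2), (1161, 2), (1717, 0), (1717, 2), (2566, 1), (1099, 0), (1482, 2), (397, 0), (397, 2), (823, 1), (823, 2), (1781, 2), (2481, 0), (781, 2), (2818, 3), (782, 2), (983, 2), (1533, 0), (1533, 2), (1962, 2), (2275, 3), (2274, 3), (2598, 2), (1130, 2), (3357, 2), (2201, 1), (1745, 2), (1745, 3), (2200, 2), (2164, 1), (1315, 2), (416, 2), (671, 1), (668, 2), (2224, 0), (1595, 2), (421, 2), (421, 3), (2266, 0), (2266, 1), (625, 2), (819, 2), (313, 2), (755, 2), (755, 3), (2735, 0), (1685, 1), (1684, 2), (1492, 2), (529, 0), (529, 2), (961, 3), (390, 2), (1696, 2), (2392, 1), (1923, 2), (2391, 2), (664, 2), (1933, 0), (422, 2), (817, 2), (2155, 0),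 (763, 0), (750, 2), (2465, 1), (538, 2), (794, 2), (505, 2), (396, 2), (599, 2), (673, 2), (406, 1)]

/-- a tree -/
def levelsTree2 : List (ℕ × ℕ) :=
  [levelsTree2Part0, levelsTree2Part1, levelsTree2Part2, levelsTree2Part3, levelsTree2Part4, levelsTree2Part5, levelsTree2Part6, levelsTree2Part7, levelsTree2Part8, levelsTree2Part9, levelsTree2Part10, levelsTree2Part11, levelsTree2Part12, levelsTree2Part13, levelsTree2Part14, levelsTree2Part15, levelsTree2Part16].flatten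

/-- part of a word -/
def levelsWord2w2p0 : List ℕ := [2, 3, 7, 8, 7, 4, 3, 2, 1, 0, 7, 4, 3, 2, 1, 0, 7, 4, 3, 2, 1, 0, 7, 4, 3, 2, 1, 0, 7, 4, 3, 2, 1, 0, 5, 4, 3, 2, 6, 5, 4, 3, 7, 3, 4, 7, 4, 3, 2, 1, 0, 7, 4, 3, 2, 1, 0, 7, 4, 3, 2, 1, 0, 7, 4, 3, 2, 1, 0, 7, 4, 3, 2, 1, 0, 8, 7, 3, 0, 1, 2, 3, 4, 7, 0, 1, 2, 3, 4, 7, 0, 1, 2, 3, 4, 7, 0, 1, 2, 3]

/-- part of a word -/
def levelsWord2w2p1 : List ℕ := [4, 7, 0, 1, 2, 3, 4, 7, 3, 7, 8, 5, 4, 3, 7, 2, 3, 4, 5, 0, 1, 2, 3, 4, 7, 0, 1, 2, 3, 4, 7, 0, 1, 2, 3, 4, 7, 0, 1, 2, 3, 4, 7, 0, 1, 2, 3, 4, 7, 8, 4, 3, 7, 6, 5, 4, 3, 2]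


/-- level 2 -/
def levelsLevel2 : Level := ⟨198, [[5],
    [2, 6, 2],
    ([levelsWord2w2p0, levelsWord2w2p1].flatten),
    [1, 2, 3, 4, 7, 0, 1, 2, 3, 4, 7, 0, 1, 2, 3, 4, 7, 0, 1, 2, 3, 4, 7, 0, 1, 2, 3, 4, 7, 0]], levelsTree2,
    0x3fffffffffffffffffffffffffe07ffffffdfffffffffefffffffffff0403ffffffffffefcffffffffffffc0effffffffeffff06001effffffefffffdffe6f8ffffffffffffffc00e7ffff5fffdfbfc060005f37fffffff9dfffeaffe0df81fffffffffffffe00031fffe9fff7cfe04000c7c5bdffffffff06bffe8ffc13e1067fffafffffdfc0011fff07ffc7c0000ff01cd367fff5d7fb023ffc1ff807c08047ffc3ffbf3f0001fe1fc3c0000ffec0220645ffc3e07f3c00ff0fe01e04000ff0fe3c70007c38300007ffec400004007f87c03e3803e1c03000001f0e0c8006208001fffffc80000000003e1c032018808000003104002001f81ffffffff000000000003101004000000002000001ffff989ffffffffe00000000000080000000000000000fffffd9e6dffffffb800000000000000000000000000ffffdee8fefdfff7bd80000000000000000000007fff7bdb5bffdff7bdb4000000000000000000ff7ef7b6a1feffbdeda8000000000000007eededa83f76f6d40000000000000e76b5039dad4000000000068d203469000000003040182000000100040000000000000000000000000000000000000000000000000⟩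

/-- part 0 of a tree -/
def levelsTree3Part0 : List (ℕ × ℕ) := [(66, 1), (66, 2), (66, 3), (1607, 0), (1607, 1), (1607, 2), (1607, 3), (1177, 0), (1177, 1), (1177, 2), (1177, 3), (1438, 0), (1438, 1), (1438, 2), (1438, 3), (1815, 1), (1815, 2), (1815, 3), (2068, 0), (2068, 1), (2068, 2), (2068, 3), (2694, 0), (2694, 1), (2694, 2), (2694, 3), (1769, 0), (1769, 1), (1769, 2), (1769, 3), (1006, 1), (1006, 2), (1006, 3), (1593, 0), (1593, 2), (1593, 3), (2023, 0), (2023, 1), (2023, 2), (2023, 3), (2087, 0), (2087, 1), (2087, 2), (2087, 3), (1239, 1), (1239, 3), (323, 0), (323, 1), (1951, 0), (1951, 1), (1367, 0), (1367, 1), (1766, 0), (1766, 1), (1766, 3), (650, 0), (650, 1), (650, 2), (2470, 0), (2470, 1), (2470, 2), (2470, 3), (2212, 1), (2212, 2), (156, 0), (156, 2), (156, 3), (2605, 0),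 (2605, 1), (2605, 2), (399, 1), (399, 2), (2436, 2), (2436, 3), (1531, 0), (1531, 1), (1531, 2), (1531, 3), (402, 0), (402, 3), (1838, 1), (1838, 2), (1838, 3), (1645, 1), (1645, 3), (2211, 0), (2211, 1), (2211, 2), (1263, 0), (1263, 1), (1362, 0), (1362, 1), (1362, 3), (1253, 0), (1253, 3), (1572, 0), (1572, 1), (1572, 2), (1572, 3), (1767, 0)]

/-- part 1 of a tree -/
def levelsTree3Part1 : List (ℕ × ℕ) := [(1767, 1), (1767, 2), (1795, 2), (1795, 3), (3080, 0), (3080, 1), (3080, 2), (405, 0), (1796, 1), (1796, 2), (318, 0), (318, 2), (318, 3), (2526, 0), (2526, 3), (2945, 1), (2945, 2), (2945, 3), (2210, 3), (1379, 0), (1379, 1), (1379, 3), (2468, 1), (1274, 3), (2352, 0), (2352, 1), (257, 2), (257, 3), (2370, 0), (2370, 1), (2370, 2), (1814, 3), (1929, 0), (1929, 1), (1929, 3), (1553,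 1), (1553, 2), (2124, 1), (2124, 2), (2124, 3), (1639, 3), (1092, 1), (1092, 2), (1770, 1), (1770, 2), (514, 1), (2335, 2), (2130, 0), (2130, 1), (2130, 2), (2130, 3), (2315, 2), (2315, 3), (1425, 0), (1425, 1), (122, 0), (122, 1), (122, 3), (3164, 1), (3164, 2), (3164, 3), (1928, 1), (1928, 2), (196, 2), (315, 1), (1368, 1), (1368, 3), (2353, 2), (2406, 0), (2406, 1), (2406, 2), (2597, 1), (2597, 2), (2597, 3), (1249, 0), (1926, 0), (1926, 1), (1264, 0), (1264, 2), (1264, 3), (400, 1), (1718, 1), (1718, 3), (1661, 0), (1661, 1), (1181, 1), (1181, 3), (1387, 0), (325, 0), (325, 3), (1544, 0), (1643, 1), (1643, 3), (2846, 0), (2067, 1), (2067, 2), (1386, 0), (1386, 1), (1076, 1), (1076, 3)]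

/-- part 2 of a tree -/
def levelsTree3Part2 : List (ℕ × ℕ) := [(1870, 3), (1545, 3), (250, 0), (250, 1), (250, 2), (1448, 1), (1657, 2), (1969, 0), (1057, 1), (1057, 2), (2696, 2), (1640, 1), (1968, 0), (1874, 3), (401, 2), (401, 3), (2784, 2), (1719, 3), (2524, 1), (2190, 0), (2190, 3), (1567, 1), (1567, 3), (1322, 2), (158, 2), (2595, 2), (2104, 2), (2298, 2), (2131, 2), (2213, 3), (2368, 1), (1554, 3), (1447, 1), (2437, 0), (1855, 2), (1445, 0), (1404, 1), (1573, 1), (155, 1), (314, 2), (1699, 2), (1571, 3)]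

/-- a tree -/
def levelsTree3 : List (ℕ × ℕ) :=
  [levelsTree3Part0, levelsTree3Part1, levelsTree3Part2].flatten

/-- part of a word -/
def levelsWord3w1p0 : List ℕ := [2, 6, 2, 5, 0, 7, 4, 3, 2, 1, 0, 7, 4, 3, 2, 1, 0, 7, 4, 3, 2, 1, 0, 7, 4, 3, 2, 1, 0, 7, 4, 3, 2, 1, 2, 3, 4, 5, 6, 7, 3, 4, 8, 7, 4, 3, 2, 1, 0, 7, 4, 3, 2, 1, 0, 7, 4, 3, 2, 1, 0, 7, 4, 3, 2, 1, 0, 7, 4, 3, 2, 1, 0, 5, 4, 3, 2, 7, 3, 4, 5, 8, 7, 3, 7, 4, 3, 2, 1, 0, 7, 4, 3, 2, 1, 0, 7, 4, 3, 2]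

/-- part of a word -/
def levelsWord3w1p1 : List ℕ := [1, 0, 7, 4, 3, 2, 1, 0, 7, 4, 3, 2, 1, 0, 3, 7, 8, 0, 1, 2, 3, 4, 7, 0, 1, 2, 3, 4, 7, 0, 1, 2, 3, 4, 7, 0, 1, 2, 3, 4, 7, 0, 1, 2, 3, 4, 7, 4, 3, 7, 3, 4, 5, 6, 2, 3, 4, 5, 0, 1, 2, 3, 4, 7, 0, 1, 2, 3, 4, 7, 0, 1, 2, 3, 4, 7, 0, 1, 2, 3, 4, 7, 0, 1, 2, 3, 4, 7, 8, 7, 3, 2, 0, 7, 4, 3, 2, 1, 0, 7]

/-- part of a word -/
def levelsWord3w1p2 : List ℕ := [4, 3, 2, 1, 0, 7, 4, 3, 2, 1, 0, 7, 4, 3, 2, 1, 0, 7, 4, 3, 2, 1, 2, 3, 7, 8, 7, 4, 3, 2, 1, 0, 7, 4, 3, 2, 1, 0, 7, 4, 3, 2, 1, 0, 7, 4, 3, 2, 1, 0, 7, 4, 3, 2, 1, 0, 5, 4, 3, 2, 6, 5, 4, 3, 7, 3, 4, 7, 4, 3, 2, 1, 0, 7, 4, 3, 2, 1, 0, 7, 4, 3, 2, 1, 0, 7, 4, 3, 2, 1, 0, 7, 4, 3, 2, 1, 0, 8, 7, 3]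

/-- part of a word -/
def levelsWord3w1p3 : List ℕ := [0, 1, 2, 3, 4, 7, 0, 1, 2, 3, 4, 7, 0, 1, 2, 3, 4, 7, 0, 1, 2, 3, 4, 7, 0, 1, 2, 3, 4, 7, 3, 7, 8, 5, 4, 3, 7, 2, 3, 4, 5, 0, 1, 2, 3, 4, 7, 0, 1, 2, 3, 4, 7, 0, 1, 2, 3, 4, 7, 0, 1, 2, 3, 4, 7, 0, 1, 2, 3, 4, 7, 8, 4, 3, 7, 6, 5, 4, 7, 8, 7, 4, 3, 2, 1, 0, 7, 4, 3, 2, 1, 0, 7, 4, 3, 2, 1, 0, 7, 4]

/-- part of a word -/
def levelsWord3w1p4 : List ℕ := [3, 2, 1, 0, 7, 4, 3, 2, 1, 0, 5, 4, 3, 2, 6, 5, 4, 3, 7, 3, 4, 7, 4, 3, 2, 1, 0, 7, 4, 3, 2, 1, 0, 7, 4, 3, 2, 1, 0, 7, 4, 3, 2, 1, 0, 7, 4, 3, 2, 1, 0, 8, 7, 3, 0, 1, 2, 3, 4, 7, 0, 1, 2, 3, 4, 7, 0, 1, 2, 3, 4, 7, 0, 1, 2, 3, 4, 7, 0, 1, 2, 3, 4, 7, 3, 7, 8, 5, 4, 3, 7, 2, 3, 4, 5, 0, 1, 2, 3, 4]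

/-- part of a word -/
def levelsWord3w1p5 : List ℕ := [7, 0, 1, 2, 3, 4, 7, 0, 1, 2, 3, 4, 7, 0, 1, 2, 3, 4, 7, 0, 1, 2, 3, 4, 7, 8, 4, 3, 7, 6, 5, 4, 3, 2, 5, 1, 2, 3, 4, 7, 0, 1, 2, 3, 4, 7, 0, 1, 2, 3, 4, 7, 0, 1, 2, 3, 4, 7, 0, 1, 2, 3, 4, 7, 0, 2, 3, 7, 8, 7, 4, 3, 2, 1, 0, 7, 4, 3, 2, 1, 0, 7, 4, 3, 2, 1, 0, 7, 4, 3, 2, 1, 0, 7, 4, 3, 2, 1, 0, 5]

/-- part of a word -/
def levelsWord3w1p6 : List ℕ := [4, 3, 2, 6, 5, 4, 3, 7, 3, 4, 7, 4, 3, 2, 1, 0, 7, 4, 3, 2, 1, 0, 7, 4, 3, 2, 1, 0, 7, 4, 3, 2, 1, 0, 7, 4, 3, 2, 1, 0, 8, 7, 3, 0, 1, 2, 3, 4, 7, 0, 1, 2, 3, 4, 7, 0, 1, 2, 3, 4, 7, 0, 1, 2, 3, 4, 7, 0, 1, 2, 3, 4, 7, 3, 7, 8, 5, 4, 3, 7, 2, 3, 4, 5, 0, 1, 2, 3, 4, 7, 0, 1, 2, 3, 4, 7, 0, 1, 2, 3]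

/-- part of a word -/
def levelsWord3w1p7 : List ℕ := [4, 7, 0, 1, 2, 3, 4, 7, 0, 1, 2, 3, 4, 7, 8, 4, 3, 7, 6, 5, 4, 3, 2, 5, 2, 6, 2]

/-- part of a word -/
def levelsWord3w2p0 : List ℕ := [2, 6, 2, 5, 2, 3, 4, 5, 6, 7, 3, 4, 8, 7, 4, 3, 2, 1, 0, 7, 4, 3, 2, 1, 0, 7, 4, 3, 2, 1, 0, 7, 4, 3, 2, 1, 0, 7, 4, 3, 2, 1, 0, 5, 4, 3, 2, 7, 3, 4, 5, 8, 7, 3, 7, 4, 3, 2, 1, 0, 7, 4, 3, 2, 1, 0, 7, 4, 3, 2, 1, 0, 7, 4, 3, 2, 1, 0, 7, 4, 3, 2, 1, 0, 3, 7, 8, 0, 1, 2, 3, 4, 7, 0, 1, 2, 3, 4, 7, 0]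

/-- part of a word -/
def levelsWord3w2p1 : List ℕ := [1, 2, 3, 4, 7, 0, 1, 2, 3, 4, 7, 0, 1, 2, 3, 4, 7, 4, 3, 7, 3, 4, 5, 6, 2, 3, 4, 5, 0, 1, 2, 3, 4, 7, 0, 1, 2, 3, 4, 7, 0, 1, 2, 3, 4, 7, 0, 1, 2, 3, 4, 7, 0, 1, 2, 3, 4, 7, 8, 7, 4, 5, 6, 7, 3, 4, 8, 7, 4, 3, 2, 1, 0, 7, 4, 3, 2, 1, 0, 7, 4, 3, 2, 1, 0, 7, 4, 3, 2, 1, 0, 7, 4, 3, 2, 1, 0, 5, 4, 3]

/-- part of a word -/
def levelsWord3w2p2 : List ℕ := [2, 7, 3, 4, 5, 8, 7, 3, 7, 4, 3, 2, 1, 0, 7, 4, 3, 2, 1, 0, 7, 4, 3, 2, 1, 0, 7, 4, 3, 2, 1, 0, 7, 4, 3, 2, 1, 0, 3, 7, 8, 0, 1, 2, 3, 4, 7, 0, 1, 2, 3, 4, 7, 0, 1, 2, 3, 4, 7, 0, 1, 2, 3, 4, 7, 0, 1, 2, 3, 4, 7, 4, 3, 7, 3, 4, 5, 6, 2, 3, 4, 5, 0, 1, 2, 3, 4, 7, 0, 1, 2, 3, 4, 7, 0, 1, 2, 3, 4, 7]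

/-- part of a word -/
def levelsWord3w2p3 : List ℕ := [0, 1, 2, 3, 4, 7, 0, 1, 2, 3, 4, 7, 8, 7, 3, 6, 3, 4, 5, 6, 7, 3, 4, 8, 7, 4, 3, 2, 1, 0, 7, 4, 3, 2, 1, 0, 7, 4, 3, 2, 1, 0, 7, 4, 3, 2, 1, 0, 7, 4, 3, 2, 1, 0, 5, 4, 3, 2, 7, 3, 4, 5, 8, 7, 3, 7, 4, 3, 2, 1, 0, 7, 4, 3, 2, 1, 0, 7, 4, 3, 2, 1, 0, 7, 4, 3, 2, 1, 0, 7, 4, 3, 2, 1, 0, 3, 7, 8, 0, 1]

/-- part of a word -/
def levelsWord3w2p4 : List ℕ := [2, 3, 4, 7, 0, 1, 2, 3, 4, 7, 0, 1, 2, 3, 4, 7, 0, 1, 2, 3, 4, 7, 0, 1, 2, 3, 4, 7, 4, 3, 7, 3, 4, 5, 6, 2, 3, 4, 5, 0, 1, 2, 3, 4, 7, 0, 1, 2, 3, 4, 7, 0, 1, 2, 3, 4, 7, 0, 1, 2, 3, 4, 7, 0, 1, 2, 3, 4, 7, 8, 7, 4, 5, 6, 7, 3, 4, 8, 7, 4, 3, 2, 1, 0, 7, 4, 3, 2, 1, 0, 7, 4, 3, 2, 1, 0, 7, 4, 3, 2]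

/-- part of a word -/
def levelsWord3w2p5 : List ℕ := [1, 0, 7, 4, 3, 2, 1, 0, 5, 4, 3, 2, 7, 3, 4, 5, 8, 7, 3, 7, 4, 3, 2, 1, 0, 7, 4, 3, 2, 1, 0, 7, 4, 3, 2, 1, 0, 7, 4, 3, 2, 1, 0, 7, 4, 3, 2, 1, 0, 3, 7, 8, 0, 1, 2, 3, 4, 7, 0, 1, 2, 3, 4, 7, 0, 1, 2, 3, 4, 7, 0, 1, 2, 3, 4, 7, 0, 1, 2, 3, 4, 7, 4, 3, 7, 3, 4, 5, 6, 2, 3, 4, 5, 0, 1, 2, 3, 4, 7, 0]

/-- part of a word -/
def levelsWord3w2p6 : List ℕ := [1, 2, 3, 4, 7, 0, 1, 2, 3, 4, 7, 0, 1, 2, 3, 4, 7, 0, 1, 2, 3, 4, 7, 8, 7, 3, 6, 2, 5, 2, 6, 2, 5, 2, 3, 7, 8, 7, 4, 3, 2, 1, 0, 7, 4, 3, 2, 1, 0, 7, 4, 3, 2, 1, 0, 7, 4, 3, 2, 1, 0, 7, 4, 3, 2, 1, 0, 5, 4, 3, 2, 6, 5, 4, 3, 7, 3, 4, 7, 4, 3, 2, 1, 0, 7, 4, 3, 2, 1, 0, 7, 4, 3, 2, 1, 0, 7, 4, 3, 2]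

/-- part of a word -/
def levelsWord3w2p7 : List ℕ := [1, 0, 7, 4, 3, 2, 1, 0, 8, 7, 3, 0, 1, 2, 3, 4, 7, 0, 1, 2, 3, 4, 7, 0, 1, 2, 3, 4, 7, 0, 1, 2, 3, 4, 7, 0, 1, 2, 3, 4, 7, 3, 7, 8, 5, 4, 3, 7, 2, 3, 4, 5, 0, 1, 2, 3, 4, 7, 0, 1, 2, 3, 4, 7, 0, 1, 2, 3, 4, 7, 0, 1, 2, 3, 4, 7, 0, 1, 2, 3, 4, 7, 8, 4, 3, 7, 6, 5, 4, 7, 8, 7, 4, 3, 2, 1, 0, 7, 4, 3]

/-- part of a word -/
def levelsWord3w2p8 : List ℕ := [2, 1, 0, 7, 4, 3, 2, 1, 0, 7, 4, 3, 2, 1, 0, 7, 4, 3, 2, 1, 0, 5, 4, 3, 2, 6, 5, 4, 3, 7, 3, 4, 7, 4, 3, 2, 1, 0, 7, 4, 3, 2, 1, 0, 7, 4, 3, 2, 1, 0, 7, 4, 3, 2, 1, 0, 7, 4, 3, 2, 1, 0, 8, 7, 3, 0, 1, 2, 3, 4, 7, 0, 1, 2, 3, 4, 7, 0, 1, 2, 3, 4, 7, 0, 1, 2, 3, 4, 7, 0, 1, 2, 3, 4, 7, 3, 7, 8, 5, 4]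

/-- part of a word -/
def levelsWord3w2p9 : List ℕ := [3, 7, 2, 3, 4, 5, 0, 1, 2, 3, 4, 7, 0, 1, 2, 3, 4, 7, 0, 1, 2, 3, 4, 7, 0, 1, 2, 3, 4, 7, 0, 1, 2, 3, 4, 7, 8, 4, 3, 7, 6, 5, 4, 3, 6, 2, 5, 2, 3, 7, 8, 7, 4, 3, 2, 1, 0, 7, 4, 3, 2, 1, 0, 7, 4, 3, 2, 1, 0, 7, 4, 3, 2, 1, 0, 7, 4, 3, 2, 1, 0, 5, 4, 3, 2, 6, 5, 4, 3, 7, 3, 4, 7, 4, 3, 2, 1, 0, 7, 4]

/-- part of a word -/
def levelsWord3w2p10 : List ℕ := [3, 2, 1, 0, 7, 4, 3, 2, 1, 0, 7, 4, 3, 2, 1, 0, 7, 4, 3, 2, 1, 0, 8, 7, 3, 0, 1, 2, 3, 4, 7, 0, 1, 2, 3, 4, 7, 0, 1, 2, 3, 4, 7, 0, 1, 2, 3, 4, 7, 0, 1, 2, 3, 4, 7, 3, 7, 8, 5, 4, 3, 7, 2, 3, 4, 5, 0, 1, 2, 3, 4, 7, 0, 1, 2, 3, 4, 7, 0, 1, 2, 3, 4, 7, 0, 1, 2, 3, 4, 7, 0, 1, 2, 3, 4, 7, 8, 4, 3, 7]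

/-- part of a word -/
def levelsWord3w2p11 : List ℕ := [6, 5, 4, 3, 6, 2]

/-- part of a word -/
def levelsWord3w3p0 : List ℕ := [2, 6, 2, 0, 7, 4, 3, 2, 1, 0, 7, 4, 3, 2, 1, 0, 7, 4, 3, 2, 1, 0, 7, 4, 3, 2, 1, 0, 7, 4, 3, 2, 1, 2, 3, 4, 5, 6, 7, 3, 4, 8, 7, 4, 3, 2, 1, 0, 7, 4, 3, 2, 1, 0, 7, 4, 3, 2, 1, 0, 7, 4, 3, 2, 1, 0, 7, 4, 3, 2, 1, 0, 5, 4, 3, 2, 7, 3, 4, 5, 8, 7, 3, 7, 4, 3, 2, 1, 0, 7, 4, 3, 2, 1, 0, 7, 4, 3, 2, 1]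

/-- part of a word -/
def levelsWord3w3p1 : List ℕ := [0, 7, 4, 3, 2, 1, 0, 7, 4, 3, 2, 1, 0, 3, 7, 8, 0, 1, 2, 3, 4, 7, 0, 1, 2, 3, 4, 7, 0, 1, 2, 3, 4, 7, 0, 1, 2, 3, 4, 7, 0, 1, 2, 3, 4, 7, 4, 3, 7, 3, 4, 5, 6, 2, 3, 4, 5, 0, 1, 2, 3, 4, 7, 0, 1, 2, 3, 4, 7, 0, 1, 2, 3, 4, 7, 0, 1, 2, 3, 4, 7, 0, 1, 2, 3, 4, 7, 8, 7, 3, 2, 0, 7, 4, 3, 2, 1, 0, 7, 4]

/-- part of a word -/
def levelsWord3w3p2 : List ℕ := [3, 2, 1, 0, 7, 4, 3, 2, 1, 0, 7, 4, 3, 2, 1, 0, 7, 4, 3, 2, 1, 2, 3, 4, 5, 6, 7, 3, 4, 8, 7, 4, 3, 2, 1, 0, 7, 4, 3, 2, 1, 0, 7, 4, 3, 2, 1, 0, 7, 4, 3, 2, 1, 0, 7, 4, 3, 2, 1, 0, 5, 4, 3, 2, 7, 3, 4, 5, 8, 7, 3, 7, 4, 3, 2, 1, 0, 7, 4, 3, 2, 1, 0, 7, 4, 3, 2, 1, 0, 7, 4, 3, 2, 1, 0, 7, 4, 3, 2, 1]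

/-- part of a word -/
def levelsWord3w3p3 : List ℕ := [0, 3, 7, 8, 0, 1, 2, 3, 4, 7, 0, 1, 2, 3, 4, 7, 0, 1, 2, 3, 4, 7, 0, 1, 2, 3, 4, 7, 0, 1, 2, 3, 4, 7, 4, 3, 7, 3, 4, 5, 6, 2, 3, 4, 5, 0, 1, 2, 3, 4, 7, 0, 1, 2, 3, 4, 7, 0, 1, 2, 3, 4, 7, 0, 1, 2, 3, 4, 7, 0, 1, 2, 3, 4, 7, 8, 7, 4, 5, 6, 7, 3, 4, 8, 7, 4, 3, 2, 1, 0, 7, 4, 3, 2, 1, 0, 7, 4, 3, 2]

/-- part of a word -/
def levelsWord3w3p4 : List ℕ := [1, 0, 7, 4, 3, 2, 1, 0, 7, 4, 3, 2, 1, 0, 5, 4, 3, 2, 7, 3, 4, 5, 8, 7, 3, 7, 4, 3, 2, 1, 0, 7, 4, 3, 2, 1, 0, 7, 4, 3, 2, 1, 0, 7, 4, 3, 2, 1, 0, 7, 4, 3, 2, 1, 0, 3, 7, 8, 0, 1, 2, 3, 4, 7, 0, 1, 2, 3, 4, 7, 0, 1, 2, 3, 4, 7, 0, 1, 2, 3, 4, 7, 0, 1, 2, 3, 4, 7, 4, 3, 7, 3, 4, 5, 6, 2, 3, 4, 5, 0]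

/-- part of a word -/
def levelsWord3w3p5 : List ℕ := [1, 2, 3, 4, 7, 0, 1, 2, 3, 4, 7, 0, 1, 2, 3, 4, 7, 0, 1, 2, 3, 4, 7, 0, 1, 2, 3, 4, 7, 8, 7, 3, 2, 5, 2, 6, 2, 5, 2, 3, 7, 8, 7, 4, 3, 2, 1, 0, 7, 4, 3, 2, 1, 0, 7, 4, 3, 2, 1, 0, 7, 4, 3, 2, 1, 0, 7, 4, 3, 2, 1, 0, 5, 4, 3, 2, 6, 5, 4, 3, 7, 3, 4, 7, 4, 3, 2, 1, 0, 7, 4, 3, 2, 1, 0, 7, 4, 3, 2, 1]

/-- part of a word -/
def levelsWord3w3p6 : List ℕ := [0, 7, 4, 3, 2, 1, 0, 7, 4, 3, 2, 1, 0, 8, 7, 3, 0, 1, 2, 3, 4, 7, 0, 1, 2, 3, 4, 7, 0, 1, 2, 3, 4, 7, 0, 1, 2, 3, 4, 7, 0, 1, 2, 3, 4, 7, 3, 7, 8, 5, 4, 3, 7, 2, 3, 4, 5, 0, 1, 2, 3, 4, 7, 0, 1, 2, 3, 4, 7, 0, 1, 2, 3, 4, 7, 0, 1, 2, 3, 4, 7, 0, 1, 2, 3, 4, 7, 8, 4, 3, 7, 6, 5, 4, 3, 6, 3, 7, 8, 7]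

/-- part of a word -/
def levelsWord3w3p7 : List ℕ := [4, 3, 2, 1, 0, 7, 4, 3, 2, 1, 0, 7, 4, 3, 2, 1, 0, 7, 4, 3, 2, 1, 0, 7, 4, 3, 2, 1, 0, 5, 4, 3, 2, 6, 5, 4, 3, 7, 3, 4, 7, 4, 3, 2, 1, 0, 7, 4, 3, 2, 1, 0, 7, 4, 3, 2, 1, 0, 7, 4, 3, 2, 1, 0, 7, 4, 3, 2, 1, 0, 8, 7, 3, 0, 1, 2, 3, 4, 7, 0, 1, 2, 3, 4, 7, 0, 1, 2, 3, 4, 7, 0, 1, 2, 3, 4, 7, 0, 1, 2]

/-- part of a word -/
def levelsWord3w3p8 : List ℕ := [3, 4, 7, 3, 7, 8, 5, 4, 3, 7, 2, 3, 4, 5, 0, 1, 2, 3, 4, 7, 0, 1, 2, 3, 4, 7, 0, 1, 2, 3, 4, 7, 0, 1, 2, 3, 4, 7, 0, 1, 2, 3, 4, 7, 8, 4, 3, 7, 6, 5, 4, 7, 8, 7, 4, 3, 2, 1, 0, 7, 4, 3, 2, 1, 0, 7, 4, 3, 2, 1, 0, 7, 4, 3, 2, 1, 0, 7, 4, 3, 2, 1, 0, 5, 4, 3, 2, 6, 5, 4, 3, 7, 3, 4, 7, 4, 3, 2, 1, 0]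

/-- part of a word -/
def levelsWord3w3p9 : List ℕ := [7, 4, 3, 2, 1, 0, 7, 4, 3, 2, 1, 0, 7, 4, 3, 2, 1, 0, 7, 4, 3, 2, 1, 0, 8, 7, 3, 0, 1, 2, 3, 4, 7, 0, 1, 2, 3, 4, 7, 0, 1, 2, 3, 4, 7, 0, 1, 2, 3, 4, 7, 0, 1, 2, 3, 4, 7, 3, 7, 8, 5, 4, 3, 7, 2, 3, 4, 5, 0, 1, 2, 3, 4, 7, 0, 1, 2, 3, 4, 7, 0, 1, 2, 3, 4, 7, 0, 1, 2, 3, 4, 7, 0, 1, 2, 3, 4, 7, 8, 4]

/-- part of a word -/
def levelsWord3w3p10 : List ℕ := [3, 7, 6, 5, 4, 7, 8, 7, 4, 3, 2, 1, 0, 7, 4, 3, 2, 1, 0, 7, 4, 3, 2, 1, 0, 7, 4, 3, 2, 1, 0, 7, 4, 3, 2, 1, 0, 5, 4, 3, 2, 6, 5, 4, 3, 7, 3, 4, 7, 4, 3, 2, 1, 0, 7, 4, 3, 2, 1, 0, 7, 4, 3, 2, 1, 0, 7, 4, 3, 2, 1, 0, 7, 4, 3, 2, 1, 0, 8, 7, 3, 0, 1, 2, 3, 4, 7, 0, 1, 2, 3, 4, 7, 0, 1, 2, 3, 4, 7, 0]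

/-- part of a word -/
def levelsWord3w3p11 : List ℕ := [1, 2, 3, 4, 7, 0, 1, 2, 3, 4, 7, 3, 7, 8, 5, 4, 3, 7, 2, 3, 4, 5, 0, 1, 2, 3, 4, 7, 0, 1, 2, 3, 4, 7, 0, 1, 2, 3, 4, 7, 0, 1, 2, 3, 4, 7, 0, 1, 2, 3, 4, 7, 8, 4, 3, 7, 6, 5, 4, 3, 2, 5, 2, 3, 7, 8, 7, 4, 3, 2, 1, 0, 7, 4, 3, 2, 1, 0, 7, 4, 3, 2, 1, 0, 7, 4, 3, 2, 1, 0, 7, 4, 3, 2, 1, 0, 5, 4, 3, 2]

/-- part of a word -/
def levelsWord3w3p12 : List ℕ := [6, 5, 4, 3, 7, 3, 4, 7, 4, 3, 2, 1, 0, 7, 4, 3, 2, 1, 0, 7, 4, 3, 2, 1, 0, 7, 4, 3, 2, 1, 0, 7, 4, 3, 2, 1, 0, 8, 7, 3, 0, 1, 2, 3, 4, 7, 0, 1, 2, 3, 4, 7, 0, 1, 2, 3, 4, 7, 0, 1, 2, 3, 4, 7, 0, 1, 2, 3, 4, 7, 3, 7, 8, 5, 4, 3, 7, 2, 3, 4, 5, 0, 1, 2, 3, 4, 7, 0, 1, 2, 3, 4, 7, 0, 1, 2, 3, 4, 7, 0]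

/-- part of a word -/
def levelsWord3w3p13 : List ℕ := [1, 2, 3, 4, 7, 0, 1, 2, 3, 4, 7, 8, 4, 3, 7, 6, 5, 4, 3, 2, 5, 2, 6, 2]


/-- level 3 -/
def levelsLevel3 : Level := ⟨66, [[5],
    ([levelsWord3w1p0, levelsWord3w1p1, levelsWord3w1p2, levelsWord3w1p3, levelsWord3w1p4, levelsWord3w1p5, levelsWord3w1p6, levelsWord3w1p7].flatten),
    ([levelsWord3w2p0, levelsWord3w2p1, levelsWord3w2p2, levelsWord3w2p3, levelsWord3w2p4, levelsWord3w2p5, levelsWord3w2p6, levelsWord3w2p7, levelsWord3w2p8, levelsWord3w2p9, levelsWord3w2p10, levelsWord3w2p11].flatten),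
    ([levelsWord3w3p0, levelsWord3w3p1, levelsWord3w3p2, levelsWord3w3p3, levelsWord3w3p4, levelsWord3w3p5, levelsWord3w3p6, levelsWord3w3p7, levelsWord3w3p8, levelsWord3w3p9, levelsWord3w3p10, levelsWord3w3p11, levelsWord3w3p12, levelsWord3w3p13].flatten)], levelsTree3,
    0x10000000000000000000010000000000000000000000000000000003000000000000000000000000c0000000000000010000000000000000000001c000000000000000000080203800000000000000005000000000000050000020300000004000000005000703008000080004000003600000000000003c0000c04000014000000d10002f0c008000180000c00000f000000100000f0003800003400001b000001ec2028000500001c0001e000006c000f0030000c0003c000000407a00298001a000c00300003cc00603200800030000000000807401e0c006004010000d8e018480000000040000000000040180360280200000000718220000000000000000000010001000028000000000044100000000000000000000000000000000000000020000000002000000000000000000000000000000000000049000000000000000000000000000010025500000000000000000000000902f80000000000000000028fc000000000000023e00000000000390000000005800000016000000a00000040000000000000000⟩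

/-- part 0 of a tree -/
def levelsTree4Part0 : List (ℕ × ℕ) := [(4, 0), (4, 1), (4, 2), (4, 3), (18, 1), (18, 2), (18, 3), (2237, 1), (2237, 3), (1275, 1), (3093, 2), (2066, 1), (2066, 3), (1085, 1), (3274, 2)]

/-- a tree -/
def levelsTree4 : List (ℕ × ℕ) :=
  [levelsTree4Part0].flatten

/-- part of a word -/
def levelsWord4w1p0 : List ℕ := [2, 6, 2, 5, 2, 3, 4, 5, 6, 7, 3, 4, 8, 7, 4, 3, 2, 1, 0, 7, 4, 3, 2, 1, 0, 7, 4, 3, 2, 1, 0, 7, 4, 3, 2, 1, 0, 7, 4, 3, 2, 1, 0, 5, 4, 3, 2, 7, 3, 4, 5, 8, 7, 3, 7, 4, 3, 2, 1, 0, 7, 4, 3, 2, 1, 0, 7, 4, 3, 2, 1, 0, 7, 4, 3, 2, 1, 0, 7, 4, 3, 2, 1, 0, 3, 7, 8, 0, 1, 2, 3, 4, 7, 0, 1, 2, 3, 4, 7, 0]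

/-- part of a word -/
def levelsWord4w1p1 : List ℕ := [1, 2, 3, 4, 7, 0, 1, 2, 3, 4, 7, 0, 1, 2, 3, 4, 7, 4, 3, 7, 3, 4, 5, 6, 2, 3, 4, 5, 0, 1, 2, 3, 4, 7, 0, 1, 2, 3, 4, 7, 0, 1, 2, 3, 4, 7, 0, 1, 2, 3, 4, 7, 0, 1, 2, 3, 4, 7, 8, 7, 3, 2, 0, 7, 4, 3, 2, 1, 0, 7, 4, 3, 2, 1, 0, 7, 4, 3, 2, 1, 0, 7, 4, 3, 2, 1, 0, 7, 4, 3, 2, 1, 5, 2, 3, 4, 5, 6, 7, 3]

/-- part of a word -/
def levelsWord4w1p2 : List ℕ := [4, 8, 7, 4, 3, 2, 1, 0, 7, 4, 3, 2, 1, 0, 7, 4, 3, 2, 1, 0, 7, 4, 3, 2, 1, 0, 7, 4, 3, 2, 1, 0, 5, 4, 3, 2, 7, 3, 4, 5, 8, 7, 3, 7, 4, 3, 2, 1, 0, 7, 4, 3, 2, 1, 0, 7, 4, 3, 2, 1, 0, 7, 4, 3, 2, 1, 0, 7, 4, 3, 2, 1, 0, 3, 7, 8, 0, 1, 2, 3, 4, 7, 0, 1, 2, 3, 4, 7, 0, 1, 2, 3, 4, 7, 0, 1, 2, 3, 4, 7]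

/-- part of a word -/
def levelsWord4w1p3 : List ℕ := [0, 1, 2, 3, 4, 7, 4, 3, 7, 3, 4, 5, 6, 2, 3, 4, 5, 0, 1, 2, 3, 4, 7, 0, 1, 2, 3, 4, 7, 0, 1, 2, 3, 4, 7, 0, 1, 2, 3, 4, 7, 0, 1, 2, 3, 4, 7, 8, 7, 4, 5, 6, 7, 3, 4, 8, 7, 4, 3, 2, 1, 0, 7, 4, 3, 2, 1, 0, 7, 4, 3, 2, 1, 0, 7, 4, 3, 2, 1, 0, 7, 4, 3, 2, 1, 0, 5, 4, 3, 2, 7, 3, 4, 5, 8, 7, 3, 7, 4, 3]

/-- part of a word -/
def levelsWord4w1p4 : List ℕ := [2, 1, 0, 7, 4, 3, 2, 1, 0, 7, 4, 3, 2, 1, 0, 7, 4, 3, 2, 1, 0, 7, 4, 3, 2, 1, 0, 3, 7, 8, 0, 1, 2, 3, 4, 7, 0, 1, 2, 3, 4, 7, 0, 1, 2, 3, 4, 7, 0, 1, 2, 3, 4, 7, 0, 1, 2, 3, 4, 7, 4, 3, 7, 3, 4, 5, 6, 2, 3, 4, 5, 0, 1, 2, 3, 4, 7, 0, 1, 2, 3, 4, 7, 0, 1, 2, 3, 4, 7, 0, 1, 2, 3, 4, 7, 0, 1, 2, 3, 4]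

/-- part of a word -/
def levelsWord4w1p5 : List ℕ := [7, 8, 7, 3, 2, 1, 2, 3, 4, 7, 0, 1, 2, 3, 4, 7, 0, 1, 2, 3, 4, 7, 0, 1, 2, 3, 4, 7, 0, 1, 2, 3, 4, 7, 0, 2, 3, 7, 8, 7, 4, 3, 2, 1, 0, 7, 4, 3, 2, 1, 0, 7, 4, 3, 2, 1, 0, 7, 4, 3, 2, 1, 0, 7, 4, 3, 2, 1, 0, 5, 4, 3, 2, 6, 5, 4, 3, 7, 3, 4, 7, 4, 3, 2, 1, 0, 7, 4, 3, 2, 1, 0, 7, 4, 3, 2, 1, 0, 7, 4]

/-- part of a word -/
def levelsWord4w1p6 : List ℕ := [3, 2, 1, 0, 7, 4, 3, 2, 1, 0, 8, 7, 3, 0, 1, 2, 3, 4, 7, 0, 1, 2, 3, 4, 7, 0, 1, 2, 3, 4, 7, 0, 1, 2, 3, 4, 7, 0, 1, 2, 3, 4, 7, 3, 7, 8, 5, 4, 3, 7, 2, 3, 4, 5, 0, 1, 2, 3, 4, 7, 0, 1, 2, 3, 4, 7, 0, 1, 2, 3, 4, 7, 0, 1, 2, 3, 4, 7, 0, 1, 2, 3, 4, 7, 8, 4, 3, 7, 6, 5, 4, 3, 2, 1, 2, 3, 4, 7, 0, 1]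

/-- part of a word -/
def levelsWord4w1p7 : List ℕ := [2, 3, 4, 7, 0, 1, 2, 3, 4, 7, 0, 1, 2, 3, 4, 7, 0, 1, 2, 3, 4, 7, 0, 5, 2, 6, 2, 5, 2, 6, 2, 5, 2, 3, 4, 5, 6, 7, 3, 4, 8, 7, 4, 3, 2, 1, 0, 7, 4, 3, 2, 1, 0, 7, 4, 3, 2, 1, 0, 7, 4, 3, 2, 1, 0, 7, 4, 3, 2, 1, 0, 5, 4, 3, 2, 7, 3, 4, 5, 8, 7, 3, 7, 4, 3, 2, 1, 0, 7, 4, 3, 2, 1, 0, 7, 4, 3, 2, 1, 0]

/-- part of a word -/
def levelsWord4w1p8 : List ℕ := [7, 4, 3, 2, 1, 0, 7, 4, 3, 2, 1, 0, 3, 7, 8, 0, 1, 2, 3, 4, 7, 0, 1, 2, 3, 4, 7, 0, 1, 2, 3, 4, 7, 0, 1, 2, 3, 4, 7, 0, 1, 2, 3, 4, 7, 4, 3, 7, 3, 4, 5, 6, 2, 3, 4, 5, 0, 1, 2, 3, 4, 7, 0, 1, 2, 3, 4, 7, 0, 1, 2, 3, 4, 7, 0, 1, 2, 3, 4, 7, 0, 1, 2, 3, 4, 7, 8, 7, 3, 2, 5, 2, 3, 4, 5, 6, 7, 3, 4, 8]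

/-- part of a word -/
def levelsWord4w1p9 : List ℕ := [7, 4, 3, 2, 1, 0, 7, 4, 3, 2, 1, 0, 7, 4, 3, 2, 1, 0, 7, 4, 3, 2, 1, 0, 7, 4, 3, 2, 1, 0, 5, 4, 3, 2, 7, 3, 4, 5, 8, 7, 3, 7, 4, 3, 2, 1, 0, 7, 4, 3, 2, 1, 0, 7, 4, 3, 2, 1, 0, 7, 4, 3, 2, 1, 0, 7, 4, 3, 2, 1, 0, 3, 7, 8, 0, 1, 2, 3, 4, 7, 0, 1, 2, 3, 4, 7, 0, 1, 2, 3, 4, 7, 0, 1, 2, 3, 4, 7, 0, 1]

/-- part of a word -/
def levelsWord4w1p10 : List ℕ := [2, 3, 4, 7, 4, 3, 7, 3, 4, 5, 6, 2, 3, 4, 5, 0, 1, 2, 3, 4, 7, 0, 1, 2, 3, 4, 7, 0, 1, 2, 3, 4, 7, 0, 1, 2, 3, 4, 7, 0, 1, 2, 3, 4, 7, 8, 7, 4, 5, 6, 7, 3, 4, 8, 7, 4, 3, 2, 1, 0, 7, 4, 3, 2, 1, 0, 7, 4, 3, 2, 1, 0, 7, 4, 3, 2, 1, 0, 7, 4, 3, 2, 1, 0, 5, 4, 3, 2, 7, 3, 4, 5, 8, 7, 3, 7, 4, 3, 2, 1]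

/-- part of a word -/
def levelsWord4w1p11 : List ℕ := [0, 7, 4, 3, 2, 1, 0, 7, 4, 3, 2, 1, 0, 7, 4, 3, 2, 1, 0, 7, 4, 3, 2, 1, 0, 3, 7, 8, 0, 1, 2, 3, 4, 7, 0, 1, 2, 3, 4, 7, 0, 1, 2, 3, 4, 7, 0, 1, 2, 3, 4, 7, 0, 1, 2, 3, 4, 7, 4, 3, 7, 3, 4, 5, 6, 2, 3, 4, 5, 0, 1, 2, 3, 4, 7, 0, 1, 2, 3, 4, 7, 0, 1, 2, 3, 4, 7, 0, 1, 2, 3, 4, 7, 0, 1, 2, 3, 4, 7, 8]

/-- part of a word -/
def levelsWord4w1p12 : List ℕ := [7, 4, 5, 6, 7, 3, 4, 8, 7, 4, 3, 2, 1, 0, 7, 4, 3, 2, 1, 0, 7, 4, 3, 2, 1, 0, 7, 4, 3, 2, 1, 0, 7, 4, 3, 2, 1, 0, 5, 4, 3, 2, 7, 3, 4, 5, 8, 7, 3, 7, 4, 3, 2, 1, 0, 7, 4, 3, 2, 1, 0, 7, 4, 3, 2, 1, 0, 7, 4, 3, 2, 1, 0, 7, 4, 3, 2, 1, 0, 3, 7, 8, 0, 1, 2, 3, 4, 7, 0, 1, 2, 3, 4, 7, 0, 1, 2, 3, 4, 7]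

/-- part of a word -/
def levelsWord4w1p13 : List ℕ := [0, 1, 2, 3, 4, 7, 0, 1, 2, 3, 4, 7, 4, 3, 7, 3, 4, 5, 6, 2, 3, 4, 5, 0, 1, 2, 3, 4, 7, 0, 1, 2, 3, 4, 7, 0, 1, 2, 3, 4, 7, 0, 1, 2, 3, 4, 7, 0, 1, 2, 3, 4, 7, 8, 7, 3, 6, 3, 4, 5, 6, 7, 3, 4, 8, 7, 4, 3, 2, 1, 0, 7, 4, 3, 2, 1, 0, 7, 4, 3, 2, 1, 0, 7, 4, 3, 2, 1, 0, 7, 4, 3, 2, 1, 0, 5, 4, 3, 2, 7]

/-- part of a word -/
def levelsWord4w1p14 : List ℕ := [3, 4, 5, 8, 7, 3, 7, 4, 3, 2, 1, 0, 7, 4, 3, 2, 1, 0, 7, 4, 3, 2, 1, 0, 7, 4, 3, 2, 1, 0, 7, 4, 3, 2, 1, 0, 3, 7, 8, 0, 1, 2, 3, 4, 7, 0, 1, 2, 3, 4, 7, 0, 1, 2, 3, 4, 7, 0, 1, 2, 3, 4, 7, 0, 1, 2, 3, 4, 7, 4, 3, 7, 3, 4, 5, 6, 2, 3, 4, 5, 0, 1, 2, 3, 4, 7, 0, 1, 2, 3, 4, 7, 0, 1, 2, 3, 4, 7, 0, 1]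

/-- part of a word -/
def levelsWord4w1p15 : List ℕ := [2, 3, 4, 7, 0, 1, 2, 3, 4, 7, 8, 7, 3, 2, 5, 2, 6, 2, 5, 2, 3, 7, 8, 7, 4, 3, 2, 1, 0, 7, 4, 3, 2, 1, 0, 7, 4, 3, 2, 1, 0, 7, 4, 3, 2, 1, 0, 7, 4, 3, 2, 1, 0, 5, 4, 3, 2, 6, 5, 4, 3, 7, 3, 4, 7, 4, 3, 2, 1, 0, 7, 4, 3, 2, 1, 0, 7, 4, 3, 2, 1, 0, 7, 4, 3, 2, 1, 0, 7, 4, 3, 2, 1, 0, 8, 7, 3, 0, 1, 2]

/-- part of a word -/
def levelsWord4w1p16 : List ℕ := [3, 4, 7, 0, 1, 2, 3, 4, 7, 0, 1, 2, 3, 4, 7, 0, 1, 2, 3, 4, 7, 0, 1, 2, 3, 4, 7, 3, 7, 8, 5, 4, 3, 7, 2, 3, 4, 5, 0, 1, 2, 3, 4, 7, 0, 1, 2, 3, 4, 7, 0, 1, 2, 3, 4, 7, 0, 1, 2, 3, 4, 7, 0, 1, 2, 3, 4, 7, 8, 4, 3, 7, 6, 5, 4, 7, 8, 7, 4, 3, 2, 1, 0, 7, 4, 3, 2, 1, 0, 7, 4, 3, 2, 1, 0, 7, 4, 3, 2, 1]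

/-- part of a word -/
def levelsWord4w1p17 : List ℕ := [0, 7, 4, 3, 2, 1, 0, 5, 4, 3, 2, 6, 5, 4, 3, 7, 3, 4, 7, 4, 3, 2, 1, 0, 7, 4, 3, 2, 1, 0, 7, 4, 3, 2, 1, 0, 7, 4, 3, 2, 1, 0, 7, 4, 3, 2, 1, 0, 8, 7, 3, 0, 1, 2, 3, 4, 7, 0, 1, 2, 3, 4, 7, 0, 1, 2, 3, 4, 7, 0, 1, 2, 3, 4, 7, 0, 1, 2, 3, 4, 7, 3, 7, 8, 5, 4, 3, 7, 2, 3, 4, 5, 0, 1, 2, 3, 4, 7, 0, 1]

/-- part of a word -/
def levelsWord4w1p18 : List ℕ := [2, 3, 4, 7, 0, 1, 2, 3, 4, 7, 0, 1, 2, 3, 4, 7, 0, 1, 2, 3, 4, 7, 8, 4, 3, 7, 6, 5, 4, 3, 2, 1, 2, 3, 4, 7, 0, 1, 2, 3, 4, 7, 0, 1, 2, 3, 4, 7, 0, 1, 2, 3, 4, 7, 0, 1, 2, 3, 4, 7, 0, 2, 3, 7, 8, 7, 4, 3, 2, 1, 0, 7, 4, 3, 2, 1, 0, 7, 4, 3, 2, 1, 0, 7, 4, 3, 2, 1, 0, 7, 4, 3, 2, 1, 0, 5, 4, 3, 2, 6]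

/-- part of a word -/
def levelsWord4w1p19 : List ℕ := [5, 4, 3, 7, 3, 4, 7, 4, 3, 2, 1, 0, 7, 4, 3, 2, 1, 0, 7, 4, 3, 2, 1, 0, 7, 4, 3, 2, 1, 0, 7, 4, 3, 2, 1, 0, 8, 7, 3, 0, 1, 2, 3, 4, 7, 0, 1, 2, 3, 4, 7, 0, 1, 2, 3, 4, 7, 0, 1, 2, 3, 4, 7, 0, 1, 2, 3, 4, 7, 3, 7, 8, 5, 4, 3, 7, 2, 3, 4, 5, 0, 1, 2, 3, 4, 7, 0, 1, 2, 3, 4, 7, 0, 1, 2, 3, 4, 7, 0, 1]

/-- part of a word -/
def levelsWord4w1p20 : List ℕ := [2, 3, 4, 7, 0, 1, 2, 3, 4, 7, 8, 4, 3, 7, 6, 5, 4, 3, 2, 1, 2, 3, 4, 7, 0, 1, 2, 3, 4, 7, 0, 1, 2, 3, 4, 7, 0, 1, 2, 3, 4, 7, 0, 1, 2, 3, 4, 7, 0, 2, 6, 2, 5, 2, 6, 2, 5, 2, 3, 4, 5, 6, 7, 3, 4, 8, 7, 4, 3, 2, 1, 0, 7, 4, 3, 2, 1, 0, 7, 4, 3, 2, 1, 0, 7, 4, 3, 2, 1, 0, 7, 4, 3, 2, 1, 0, 5, 4, 3, 2]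

/-- part of a word -/
def levelsWord4w1p21 : List ℕ := [7, 3, 4, 5, 8, 7, 3, 7, 4, 3, 2, 1, 0, 7, 4, 3, 2, 1, 0, 7, 4, 3, 2, 1, 0, 7, 4, 3, 2, 1, 0, 7, 4, 3, 2, 1, 0, 3, 7, 8, 0, 1, 2, 3, 4, 7, 0, 1, 2, 3, 4, 7, 0, 1, 2, 3, 4, 7, 0, 1, 2, 3, 4, 7, 0, 1, 2, 3, 4, 7, 4, 3, 7, 3, 4, 5, 6, 2, 3, 4, 5, 0, 1, 2, 3, 4, 7, 0, 1, 2, 3, 4, 7, 0, 1, 2, 3, 4, 7, 0]

/-- part of a word -/
def levelsWord4w1p22 : List ℕ := [1, 2, 3, 4, 7, 0, 1, 2, 3, 4, 7, 8, 7, 4, 5, 6, 7, 3, 4, 8, 7, 4, 3, 2, 1, 0, 7, 4, 3, 2, 1, 0, 7, 4, 3, 2, 1, 0, 7, 4, 3, 2, 1, 0, 7, 4, 3, 2, 1, 0, 5, 4, 3, 2, 7, 3, 4, 5, 8, 7, 3, 7, 4, 3, 2, 1, 0, 7, 4, 3, 2, 1, 0, 7, 4, 3, 2, 1, 0, 7, 4, 3, 2, 1, 0, 7, 4, 3, 2, 1, 0, 3, 7, 8, 0, 1, 2, 3, 4, 7]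

/-- part of a word -/
def levelsWord4w1p23 : List ℕ := [0, 1, 2, 3, 4, 7, 0, 1, 2, 3, 4, 7, 0, 1, 2, 3, 4, 7, 0, 1, 2, 3, 4, 7, 4, 3, 7, 3, 4, 5, 6, 2, 3, 4, 5, 0, 1, 2, 3, 4, 7, 0, 1, 2, 3, 4, 7, 0, 1, 2, 3, 4, 7, 0, 1, 2, 3, 4, 7, 0, 1, 2, 3, 4, 7, 8, 7, 3, 6, 3, 4, 5, 6, 7, 3, 4, 8, 7, 4, 3, 2, 1, 0, 7, 4, 3, 2, 1, 0, 7, 4, 3, 2, 1, 0, 7, 4, 3, 2, 1]

/-- part of a word -/
def levelsWord4w1p24 : List ℕ := [0, 7, 4, 3, 2, 1, 0, 5, 4, 3, 2, 7, 3, 4, 5, 8, 7, 3, 7, 4, 3, 2, 1, 0, 7, 4, 3, 2, 1, 0, 7, 4, 3, 2, 1, 0, 7, 4, 3, 2, 1, 0, 7, 4, 3, 2, 1, 0, 3, 7, 8, 0, 1, 2, 3, 4, 7, 0, 1, 2, 3, 4, 7, 0, 1, 2, 3, 4, 7, 0, 1, 2, 3, 4, 7, 0, 1, 2, 3, 4, 7, 4, 3, 7, 3, 4, 5, 6, 2, 3, 4, 5, 0, 1, 2, 3, 4, 7, 0, 1]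

/-- part of a word -/
def levelsWord4w1p25 : List ℕ := [2, 3, 4, 7, 0, 1, 2, 3, 4, 7, 0, 1, 2, 3, 4, 7, 0, 1, 2, 3, 4, 7, 8, 7, 4, 5, 6, 7, 3, 4, 8, 7, 4, 3, 2, 1, 0, 7, 4, 3, 2, 1, 0, 7, 4, 3, 2, 1, 0, 7, 4, 3, 2, 1, 0, 7, 4, 3, 2, 1, 0, 5, 4, 3, 2, 7, 3, 4, 5, 8, 7, 3, 7, 4, 3, 2, 1, 0, 7, 4, 3, 2, 1, 0, 7, 4, 3, 2, 1, 0, 7, 4, 3, 2, 1, 0, 7, 4, 3, 2]

/-- part of a word -/
def levelsWord4w1p26 : List ℕ := [1, 0, 3, 7, 8, 0, 1, 2, 3, 4, 7, 0, 1, 2, 3, 4, 7, 0, 1, 2, 3, 4, 7, 0, 1, 2, 3, 4, 7, 0, 1, 2, 3, 4, 7, 4, 3, 7, 3, 4, 5, 6, 2, 3, 4, 5, 0, 1, 2, 3, 4, 7, 0, 1, 2, 3, 4, 7, 0, 1, 2, 3, 4, 7, 0, 1, 2, 3, 4, 7, 0, 1, 2, 3, 4, 7, 8, 7, 3, 6, 2, 5, 2, 6, 2, 5, 2, 3, 7, 8, 7, 4, 3, 2, 1, 0, 7, 4, 3, 2]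

/-- part of a word -/
def levelsWord4w1p27 : List ℕ := [1, 0, 7, 4, 3, 2, 1, 0, 7, 4, 3, 2, 1, 0, 7, 4, 3, 2, 1, 0, 5, 4, 3, 2, 6, 5, 4, 3, 7, 3, 4, 7, 4, 3, 2, 1, 0, 7, 4, 3, 2, 1, 0, 7, 4, 3, 2, 1, 0, 7, 4, 3, 2, 1, 0, 7, 4, 3, 2, 1, 0, 8, 7, 3, 0, 1, 2, 3, 4, 7, 0, 1, 2, 3, 4, 7, 0, 1, 2, 3, 4, 7, 0, 1, 2, 3, 4, 7, 0, 1, 2, 3, 4, 7, 3, 7, 8, 5, 4, 3]

/-- part of a word -/
def levelsWord4w1p28 : List ℕ := [7, 2, 3, 4, 5, 0, 1, 2, 3, 4, 7, 0, 1, 2, 3, 4, 7, 0, 1, 2, 3, 4, 7, 0, 1, 2, 3, 4, 7, 0, 1, 2, 3, 4, 7, 8, 4, 3, 7, 6, 5, 4, 7, 8, 7, 4, 3, 2, 1, 0, 7, 4, 3, 2, 1, 0, 7, 4, 3, 2, 1, 0, 7, 4, 3, 2, 1, 0, 7, 4, 3, 2, 1, 0, 5, 4, 3, 2, 6, 5, 4, 3, 7, 3, 4, 7, 4, 3, 2, 1, 0, 7, 4, 3, 2, 1, 0, 7, 4, 3]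

/-- part of a word -/
def levelsWord4w1p29 : List ℕ := [2, 1, 0, 7, 4, 3, 2, 1, 0, 7, 4, 3, 2, 1, 0, 8, 7, 3, 0, 1, 2, 3, 4, 7, 0, 1, 2, 3, 4, 7, 0, 1, 2, 3, 4, 7, 0, 1, 2, 3, 4, 7, 0, 1, 2, 3, 4, 7, 3, 7, 8, 5, 4, 3, 7, 2, 3, 4, 5, 0, 1, 2, 3, 4, 7, 0, 1, 2, 3, 4, 7, 0, 1, 2, 3, 4, 7, 0, 1, 2, 3, 4, 7, 0, 1, 2, 3, 4, 7, 8, 4, 3, 7, 6, 5, 4, 3, 6, 2, 5]

/-- part of a word -/
def levelsWord4w1p30 : List ℕ := [2, 3, 7, 8, 7, 4, 3, 2, 1, 0, 7, 4, 3, 2, 1, 0, 7, 4, 3, 2, 1, 0, 7, 4, 3, 2, 1, 0, 7, 4, 3, 2, 1, 0, 5, 4, 3, 2, 6, 5, 4, 3, 7, 3, 4, 7, 4, 3, 2, 1, 0, 7, 4, 3, 2, 1, 0, 7, 4, 3, 2, 1, 0, 7, 4, 3, 2, 1, 0, 7, 4, 3, 2, 1, 0, 8, 7, 3, 0, 1, 2, 3, 4, 7, 0, 1, 2, 3, 4, 7, 0, 1, 2, 3, 4, 7, 0, 1, 2, 3]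

/-- part of a word -/
def levelsWord4w1p31 : List ℕ := [4, 7, 0, 1, 2, 3, 4, 7, 3, 7, 8, 5, 4, 3, 7, 2, 3, 4, 5, 0, 1, 2, 3, 4, 7, 0, 1, 2, 3, 4, 7, 0, 1, 2, 3, 4, 7, 0, 1, 2, 3, 4, 7, 0, 1, 2, 3, 4, 7, 8, 4, 3, 7, 6, 5, 4, 3, 6, 2, 5, 2, 6, 2, 5, 0, 7, 4, 3, 2, 1, 0, 7, 4, 3, 2, 1, 0, 7, 4, 3, 2, 1, 0, 7, 4, 3, 2, 1, 0, 7, 4, 3, 2, 1, 2, 3, 4, 5, 6, 7]

/-- part of a word -/
def levelsWord4w1p32 : List ℕ := [3, 4, 8, 7, 4, 3, 2, 1, 0, 7, 4, 3, 2, 1, 0, 7, 4, 3, 2, 1, 0, 7, 4, 3, 2, 1, 0, 7, 4, 3, 2, 1, 0, 5, 4, 3, 2, 7, 3, 4, 5, 8, 7, 3, 7, 4, 3, 2, 1, 0, 7, 4, 3, 2, 1, 0, 7, 4, 3, 2, 1, 0, 7, 4, 3, 2, 1, 0, 7, 4, 3, 2, 1, 0, 3, 7, 8, 0, 1, 2, 3, 4, 7, 0, 1, 2, 3, 4, 7, 0, 1, 2, 3, 4, 7, 0, 1, 2, 3, 4]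

/-- part of a word -/
def levelsWord4w1p33 : List ℕ := [7, 0, 1, 2, 3, 4, 7, 4, 3, 7, 3, 4, 5, 6, 2, 3, 4, 5, 0, 1, 2, 3, 4, 7, 0, 1, 2, 3, 4, 7, 0, 1, 2, 3, 4, 7, 0, 1, 2, 3, 4, 7, 0, 1, 2, 3, 4, 7, 8, 7, 3, 2, 0, 7, 4, 3, 2, 1, 0, 7, 4, 3, 2, 1, 0, 7, 4, 3, 2, 1, 0, 7, 4, 3, 2, 1, 0, 7, 4, 3, 2, 1, 2, 3, 7, 8, 7, 4, 3, 2, 1, 0, 7, 4, 3, 2, 1, 0, 7, 4]

/-- part of a word -/
def levelsWord4w1p34 : List ℕ := [3, 2, 1, 0, 7, 4, 3, 2, 1, 0, 7, 4, 3, 2, 1, 0, 5, 4, 3, 2, 6, 5, 4, 3, 7, 3, 4, 7, 4, 3, 2, 1, 0, 7, 4, 3, 2, 1, 0, 7, 4, 3, 2, 1, 0, 7, 4, 3, 2, 1, 0, 7, 4, 3, 2, 1, 0, 8, 7, 3, 0, 1, 2, 3, 4, 7, 0, 1, 2, 3, 4, 7, 0, 1, 2, 3, 4, 7, 0, 1, 2, 3, 4, 7, 0, 1, 2, 3, 4, 7, 3, 7, 8, 5, 4, 3, 7, 2, 3, 4]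

/-- part of a word -/
def levelsWord4w1p35 : List ℕ := [5, 0, 1, 2, 3, 4, 7, 0, 1, 2, 3, 4, 7, 0, 1, 2, 3, 4, 7, 0, 1, 2, 3, 4, 7, 0, 1, 2, 3, 4, 7, 8, 4, 3, 7, 6, 5, 4, 7, 8, 7, 4, 3, 2, 1, 0, 7, 4, 3, 2, 1, 0, 7, 4, 3, 2, 1, 0, 7, 4, 3, 2, 1, 0, 7, 4, 3, 2, 1, 0, 5, 4, 3, 2, 6, 5, 4, 3, 7, 3, 4, 7, 4, 3, 2, 1, 0, 7, 4, 3, 2, 1, 0, 7, 4, 3, 2, 1, 0, 7]

/-- part of a word -/
def levelsWord4w1p36 : List ℕ := [4, 3, 2, 1, 0, 7, 4, 3, 2, 1, 0, 8, 7, 3, 0, 1, 2, 3, 4, 7, 0, 1, 2, 3, 4, 7, 0, 1, 2, 3, 4, 7, 0, 1, 2, 3, 4, 7, 0, 1, 2, 3, 4, 7, 3, 7, 8, 5, 4, 3, 7, 2, 3, 4, 5, 0, 1, 2, 3, 4, 7, 0, 1, 2, 3, 4, 7, 0, 1, 2, 3, 4, 7, 0, 1, 2, 3, 4, 7, 0, 1, 2, 3, 4, 7, 8, 4, 3, 7, 6, 5, 4, 3, 2, 5, 1, 2, 3, 4, 7]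

/-- part of a word -/
def levelsWord4w1p37 : List ℕ := [0, 1, 2, 3, 4, 7, 0, 1, 2, 3, 4, 7, 0, 1, 2, 3, 4, 7, 0, 1, 2, 3, 4, 7, 0, 2, 3, 7, 8, 7, 4, 3, 2, 1, 0, 7, 4, 3, 2, 1, 0, 7, 4, 3, 2, 1, 0, 7, 4, 3, 2, 1, 0, 7, 4, 3, 2, 1, 0, 5, 4, 3, 2, 6, 5, 4, 3, 7, 3, 4, 7, 4, 3, 2, 1, 0, 7, 4, 3, 2, 1, 0, 7, 4, 3, 2, 1, 0, 7, 4, 3, 2, 1, 0, 7, 4, 3, 2, 1, 0]

/-- part of a word -/
def levelsWord4w1p38 : List ℕ := [8, 7, 3, 0, 1, 2, 3, 4, 7, 0, 1, 2, 3, 4, 7, 0, 1, 2, 3, 4, 7, 0, 1, 2, 3, 4, 7, 0, 1, 2, 3, 4, 7, 3, 7, 8, 5, 4, 3, 7, 2, 3, 4, 5, 0, 1, 2, 3, 4, 7, 0, 1, 2, 3, 4, 7, 0, 1, 2, 3, 4, 7, 0, 1, 2, 3, 4, 7, 0, 1, 2, 3, 4, 7, 8, 4, 3, 7, 6, 5, 4, 3, 2, 5, 2, 6, 2, 5, 2, 6, 2, 5, 0, 7, 4, 3, 2, 1, 0, 7]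

/-- part of a word -/
def levelsWord4w1p39 : List ℕ := [4, 3, 2, 1, 0, 7, 4, 3, 2, 1, 0, 7, 4, 3, 2, 1, 0, 7, 4, 3, 2, 1, 2, 3, 4, 5, 6, 7, 3, 4, 8, 7, 4, 3, 2, 1, 0, 7, 4, 3, 2, 1, 0, 7, 4, 3, 2, 1, 0, 7, 4, 3, 2, 1, 0, 7, 4, 3, 2, 1, 0, 5, 4, 3, 2, 7, 3, 4, 5, 8, 7, 3, 7, 4, 3, 2, 1, 0, 7, 4, 3, 2, 1, 0, 7, 4, 3, 2, 1, 0, 7, 4, 3, 2, 1, 0, 7, 4, 3, 2]

/-- part of a word -/
def levelsWord4w1p40 : List ℕ := [1, 0, 3, 7, 8, 0, 1, 2, 3, 4, 7, 0, 1, 2, 3, 4, 7, 0, 1, 2, 3, 4, 7, 0, 1, 2, 3, 4, 7, 0, 1, 2, 3, 4, 7, 4, 3, 7, 3, 4, 5, 6, 2, 3, 4, 5, 0, 1, 2, 3, 4, 7, 0, 1, 2, 3, 4, 7, 0, 1, 2, 3, 4, 7, 0, 1, 2, 3, 4, 7, 0, 1, 2, 3, 4, 7, 8, 7, 3, 2, 0, 7, 4, 3, 2, 1, 0, 7, 4, 3, 2, 1, 0, 7, 4, 3, 2, 1, 0, 7]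

/-- part of a word -/
def levelsWord4w1p41 : List ℕ := [4, 3, 2, 1, 0, 7, 4, 3, 2, 1, 2, 3, 7, 8, 7, 4, 3, 2, 1, 0, 7, 4, 3, 2, 1, 0, 7, 4, 3, 2, 1, 0, 7, 4, 3, 2, 1, 0, 7, 4, 3, 2, 1, 0, 5, 4, 3, 2, 6, 5, 4, 3, 7, 3, 4, 7, 4, 3, 2, 1, 0, 7, 4, 3, 2, 1, 0, 7, 4, 3, 2, 1, 0, 7, 4, 3, 2, 1, 0, 7, 4, 3, 2, 1, 0, 8, 7, 3, 0, 1, 2, 3, 4, 7, 0, 1, 2, 3, 4, 7]

/-- part of a word -/
def levelsWord4w1p42 : List ℕ := [0, 1, 2, 3, 4, 7, 0, 1, 2, 3, 4, 7, 0, 1, 2, 3, 4, 7, 3, 7, 8, 5, 4, 3, 7, 2, 3, 4, 5, 0, 1, 2, 3, 4, 7, 0, 1, 2, 3, 4, 7, 0, 1, 2, 3, 4, 7, 0, 1, 2, 3, 4, 7, 0, 1, 2, 3, 4, 7, 8, 4, 3, 7, 6, 5, 4, 7, 8, 7, 4, 3, 2, 1, 0, 7, 4, 3, 2, 1, 0, 7, 4, 3, 2, 1, 0, 7, 4, 3, 2, 1, 0, 7, 4, 3, 2, 1, 0, 5, 4]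

/-- part of a word -/
def levelsWord4w1p43 : List ℕ := [3, 2, 6, 5, 4, 3, 7, 3, 4, 7, 4, 3, 2, 1, 0, 7, 4, 3, 2, 1, 0, 7, 4, 3, 2, 1, 0, 7, 4, 3, 2, 1, 0, 7, 4, 3, 2, 1, 0, 8, 7, 3, 0, 1, 2, 3, 4, 7, 0, 1, 2, 3, 4, 7, 0, 1, 2, 3, 4, 7, 0, 1, 2, 3, 4, 7, 0, 1, 2, 3, 4, 7, 3, 7, 8, 5, 4, 3, 7, 2, 3, 4, 5, 0, 1, 2, 3, 4, 7, 0, 1, 2, 3, 4, 7, 0, 1, 2, 3, 4]

/-- part of a word -/
def levelsWord4w1p44 : List ℕ := [7, 0, 1, 2, 3, 4, 7, 0, 1, 2, 3, 4, 7, 8, 4, 3, 7, 6, 5, 4, 3, 2, 5, 1, 2, 3, 4, 7, 0, 1, 2, 3, 4, 7, 0, 1, 2, 3, 4, 7, 0, 1, 2, 3, 4, 7, 0, 1, 2, 3, 4, 7, 0, 2, 3, 7, 8, 7, 4, 3, 2, 1, 0, 7, 4, 3, 2, 1, 0, 7, 4, 3, 2, 1, 0, 7, 4, 3, 2, 1, 0, 7, 4, 3, 2, 1, 0, 5, 4, 3, 2, 6, 5, 4, 3, 7, 3, 4, 7, 4]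

/-- part of a word -/
def levelsWord4w1p45 : List ℕ := [3, 2, 1, 0, 7, 4, 3, 2, 1, 0, 7, 4, 3, 2, 1, 0, 7, 4, 3, 2, 1, 0, 7, 4, 3, 2, 1, 0, 8, 7, 3, 0, 1, 2, 3, 4, 7, 0, 1, 2, 3, 4, 7, 0, 1, 2, 3, 4, 7, 0, 1, 2, 3, 4, 7, 0, 1, 2, 3, 4, 7, 3, 7, 8, 5, 4, 3, 7, 2, 3, 4, 5, 0, 1, 2, 3, 4, 7, 0, 1, 2, 3, 4, 7, 0, 1, 2, 3, 4, 7, 0, 1, 2, 3, 4, 7, 0, 1, 2, 3]

/-- part of a word -/
def levelsWord4w1p46 : List ℕ := [4, 7, 8, 4, 3, 7, 6, 5, 4, 3, 2, 5, 2, 6, 2]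

/-- part of a word -/
def levelsWord4w2p0 : List ℕ := [2, 6, 3, 4, 5, 6, 7, 3, 4, 8, 7, 4, 3, 2, 1, 0, 7, 4, 3, 2, 1, 0, 7, 4, 3, 2, 1, 0, 7, 4, 3, 2, 1, 0, 7, 4, 3, 2, 1, 0, 5, 4, 3, 2, 7, 3, 4, 5, 8, 7, 3, 7, 4, 3, 2, 1, 0, 7, 4, 3, 2, 1, 0, 7, 4, 3, 2, 1, 0, 7, 4, 3, 2, 1, 0, 7, 4, 3, 2, 1, 0, 3, 7, 8, 0, 1, 2, 3, 4, 7, 0, 1, 2, 3, 4, 7, 0, 1, 2, 3]

/-- part of a word -/
def levelsWord4w2p1 : List ℕ := [4, 7, 0, 1, 2, 3, 4, 7, 0, 1, 2, 3, 4, 7, 4, 3, 7, 3, 4, 5, 6, 2, 3, 4, 5, 0, 1, 2, 3, 4, 7, 0, 1, 2, 3, 4, 7, 0, 1, 2, 3, 4, 7, 0, 1, 2, 3, 4, 7, 0, 1, 2, 3, 4, 7, 8, 7, 3, 2, 5, 2, 6, 3, 4, 5, 6, 7, 3, 4, 8, 7, 4, 3, 2, 1, 0, 7, 4, 3, 2, 1, 0, 7, 4, 3, 2, 1, 0, 7, 4, 3, 2, 1, 0, 7, 4, 3, 2, 1, 0]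

/-- part of a word -/
def levelsWord4w2p2 : List ℕ := [5, 4, 3, 2, 7, 3, 4, 5, 8, 7, 3, 7, 4, 3, 2, 1, 0, 7, 4, 3, 2, 1, 0, 7, 4, 3, 2, 1, 0, 7, 4, 3, 2, 1, 0, 7, 4, 3, 2, 1, 0, 3, 7, 8, 0, 1, 2, 3, 4, 7, 0, 1, 2, 3, 4, 7, 0, 1, 2, 3, 4, 7, 0, 1, 2, 3, 4, 7, 0, 1, 2, 3, 4, 7, 4, 3, 7, 3, 4, 5, 6, 2, 3, 4, 5, 0, 1, 2, 3, 4, 7, 0, 1, 2, 3, 4, 7, 0, 1, 2]

/-- part of a word -/
def levelsWord4w2p3 : List ℕ := [3, 4, 7, 0, 1, 2, 3, 4, 7, 0, 1, 2, 3, 4, 7, 8, 7, 4, 5, 6, 7, 3, 4, 8, 7, 4, 3, 2, 1, 0, 7, 4, 3, 2, 1, 0, 7, 4, 3, 2, 1, 0, 7, 4, 3, 2, 1, 0, 7, 4, 3, 2, 1, 0, 5, 4, 3, 2, 7, 3, 4, 5, 8, 7, 3, 7, 4, 3, 2, 1, 0, 7, 4, 3, 2, 1, 0, 7, 4, 3, 2, 1, 0, 7, 4, 3, 2, 1, 0, 7, 4, 3, 2, 1, 0, 3, 7, 8, 0, 1]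

/-- part of a word -/
def levelsWord4w2p4 : List ℕ := [2, 3, 4, 7, 0, 1, 2, 3, 4, 7, 0, 1, 2, 3, 4, 7, 0, 1, 2, 3, 4, 7, 0, 1, 2, 3, 4, 7, 4, 3, 7, 3, 4, 5, 6, 2, 3, 4, 5, 0, 1, 2, 3, 4, 7, 0, 1, 2, 3, 4, 7, 0, 1, 2, 3, 4, 7, 0, 1, 2, 3, 4, 7, 0, 1, 2, 3, 4, 7, 8, 7, 3, 2, 5, 2, 6, 2, 5, 2, 6, 3, 7, 8, 7, 4, 3, 2, 1, 0, 7, 4, 3, 2, 1, 0, 7, 4, 3, 2, 1]

/-- part of a word -/
def levelsWord4w2p5 : List ℕ := [0, 7, 4, 3, 2, 1, 0, 7, 4, 3, 2, 1, 0, 5, 4, 3, 2, 6, 5, 4, 3, 7, 3, 4, 7, 4, 3, 2, 1, 0, 7, 4, 3, 2, 1, 0, 7, 4, 3, 2, 1, 0, 7, 4, 3, 2, 1, 0, 7, 4, 3, 2, 1, 0, 8, 7, 3, 0, 1, 2, 3, 4, 7, 0, 1, 2, 3, 4, 7, 0, 1, 2, 3, 4, 7, 0, 1, 2, 3, 4, 7, 0, 1, 2, 3, 4, 7, 3, 7, 8, 5, 4, 3, 7, 2, 3, 4, 5, 0, 1]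

/-- part of a word -/
def levelsWord4w2p6 : List ℕ := [2, 3, 4, 7, 0, 1, 2, 3, 4, 7, 0, 1, 2, 3, 4, 7, 0, 1, 2, 3, 4, 7, 0, 1, 2, 3, 4, 7, 8, 4, 3, 7, 6, 5, 4, 7, 8, 7, 4, 3, 2, 1, 0, 7, 4, 3, 2, 1, 0, 7, 4, 3, 2, 1, 0, 7, 4, 3, 2, 1, 0, 7, 4, 3, 2, 1, 0, 5, 4, 3, 2, 6, 5, 4, 3, 7, 3, 4, 7, 4, 3, 2, 1, 0, 7, 4, 3, 2, 1, 0, 7, 4, 3, 2, 1, 0, 7, 4, 3, 2]

/-- part of a word -/
def levelsWord4w2p7 : List ℕ := [1, 0, 7, 4, 3, 2, 1, 0, 8, 7, 3, 0, 1, 2, 3, 4, 7, 0, 1, 2, 3, 4, 7, 0, 1, 2, 3, 4, 7, 0, 1, 2, 3, 4, 7, 0, 1, 2, 3, 4, 7, 3, 7, 8, 5, 4, 3, 7, 2, 3, 4, 5, 0, 1, 2, 3, 4, 7, 0, 1, 2, 3, 4, 7, 0, 1, 2, 3, 4, 7, 0, 1, 2, 3, 4, 7, 0, 1, 2, 3, 4, 7, 8, 4, 3, 7, 6, 5, 4, 3, 6, 3, 7, 8, 7, 4, 3, 2, 1, 0]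

/-- part of a word -/
def levelsWord4w2p8 : List ℕ := [7, 4, 3, 2, 1, 0, 7, 4, 3, 2, 1, 0, 7, 4, 3, 2, 1, 0, 7, 4, 3, 2, 1, 0, 5, 4, 3, 2, 6, 5, 4, 3, 7, 3, 4, 7, 4, 3, 2, 1, 0, 7, 4, 3, 2, 1, 0, 7, 4, 3, 2, 1, 0, 7, 4, 3, 2, 1, 0, 7, 4, 3, 2, 1, 0, 8, 7, 3, 0, 1, 2, 3, 4, 7, 0, 1, 2, 3, 4, 7, 0, 1, 2, 3, 4, 7, 0, 1, 2, 3, 4, 7, 0, 1, 2, 3, 4, 7, 3, 7]

/-- part of a word -/
def levelsWord4w2p9 : List ℕ := [8, 5, 4, 3, 7, 2, 3, 4, 5, 0, 1, 2, 3, 4, 7, 0, 1, 2, 3, 4, 7, 0, 1, 2, 3, 4, 7, 0, 1, 2, 3, 4, 7, 0, 1, 2, 3, 4, 7, 8, 4, 3, 7, 6, 5, 4, 7, 8, 7, 4, 3, 2, 1, 0, 7, 4, 3, 2, 1, 0, 7, 4, 3, 2, 1, 0, 7, 4, 3, 2, 1, 0, 7, 4, 3, 2, 1, 0, 5, 4, 3, 2, 6, 5, 4, 3, 7, 3, 4, 7, 4, 3, 2, 1, 0, 7, 4, 3, 2, 1]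

/-- part of a word -/
def levelsWord4w2p10 : List ℕ := [0, 7, 4, 3, 2, 1, 0, 7, 4, 3, 2, 1, 0, 7, 4, 3, 2, 1, 0, 8, 7, 3, 0, 1, 2, 3, 4, 7, 0, 1, 2, 3, 4, 7, 0, 1, 2, 3, 4, 7, 0, 1, 2, 3, 4, 7, 0, 1, 2, 3, 4, 7, 3, 7, 8, 5, 4, 3, 7, 2, 3, 4, 5, 0, 1, 2, 3, 4, 7, 0, 1, 2, 3, 4, 7, 0, 1, 2, 3, 4, 7, 0, 1, 2, 3, 4, 7, 0, 1, 2, 3, 4, 7, 8, 4, 3, 7, 6, 5, 4]

/-- part of a word -/
def levelsWord4w2p11 : List ℕ := [3, 2, 5, 2, 3, 4, 5, 6, 7, 3, 4, 8, 7, 4, 3, 2, 1, 0, 7, 4, 3, 2, 1, 0, 7, 4, 3, 2, 1, 0, 7, 4, 3, 2, 1, 0, 7, 4, 3, 2, 1, 0, 5, 4, 3, 2, 7, 3, 4, 5, 8, 7, 3, 7, 4, 3, 2, 1, 0, 7, 4, 3, 2, 1, 0, 7, 4, 3, 2, 1, 0, 7, 4, 3, 2, 1, 0, 7, 4, 3, 2, 1, 0, 3, 7, 8, 0, 1, 2, 3, 4, 7, 0, 1, 2, 3, 4, 7, 0, 1]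

/-- part of a word -/
def levelsWord4w2p12 : List ℕ := [2, 3, 4, 7, 0, 1, 2, 3, 4, 7, 0, 1, 2, 3, 4, 7, 4, 3, 7, 3, 4, 5, 6, 2, 3, 4, 5, 0, 1, 2, 3, 4, 7, 0, 1, 2, 3, 4, 7, 0, 1, 2, 3, 4, 7, 0, 1, 2, 3, 4, 7, 0, 1, 2, 3, 4, 7, 8, 7, 3, 2, 5, 2, 6, 3, 4, 5, 6, 7, 3, 4, 8, 7, 4, 3, 2, 1, 0, 7, 4, 3, 2, 1, 0, 7, 4, 3, 2, 1, 0, 7, 4, 3, 2, 1, 0, 7, 4, 3, 2]

/-- part of a word -/
def levelsWord4w2p13 : List ℕ := [1, 0, 5, 4, 3, 2, 7, 3, 4, 5, 8, 7, 3, 7, 4, 3, 2, 1, 0, 7, 4, 3, 2, 1, 0, 7, 4, 3, 2, 1, 0, 7, 4, 3, 2, 1, 0, 7, 4, 3, 2, 1, 0, 3, 7, 8, 0, 1, 2, 3, 4, 7, 0, 1, 2, 3, 4, 7, 0, 1, 2, 3, 4, 7, 0, 1, 2, 3, 4, 7, 0, 1, 2, 3, 4, 7, 4, 3, 7, 3, 4, 5, 6, 2, 3, 4, 5, 0, 1, 2, 3, 4, 7, 0, 1, 2, 3, 4, 7, 0]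

/-- part of a word -/
def levelsWord4w2p14 : List ℕ := [1, 2, 3, 4, 7, 0, 1, 2, 3, 4, 7, 0, 1, 2, 3, 4, 7, 8, 7, 4, 5, 6, 7, 3, 4, 8, 7, 4, 3, 2, 1, 0, 7, 4, 3, 2, 1, 0, 7, 4, 3, 2, 1, 0, 7, 4, 3, 2, 1, 0, 7, 4, 3, 2, 1, 0, 5, 4, 3, 2, 7, 3, 4, 5, 8, 7, 3, 7, 4, 3, 2, 1, 0, 7, 4, 3, 2, 1, 0, 7, 4, 3, 2, 1, 0, 7, 4, 3, 2, 1, 0, 7, 4, 3, 2, 1, 0, 3, 7, 8]

/-- part of a word -/
def levelsWord4w2p15 : List ℕ := [0, 1, 2, 3, 4, 7, 0, 1, 2, 3, 4, 7, 0, 1, 2, 3, 4, 7, 0, 1, 2, 3, 4, 7, 0, 1, 2, 3, 4, 7, 4, 3, 7, 3, 4, 5, 6, 2, 3, 4, 5, 0, 1, 2, 3, 4, 7, 0, 1, 2, 3, 4, 7, 0, 1, 2, 3, 4, 7, 0, 1, 2, 3, 4, 7, 0, 1, 2, 3, 4, 7, 8, 7, 3, 2, 5, 2, 6, 2, 5, 2, 6, 3, 7, 8, 7, 4, 3, 2, 1, 0, 7, 4, 3, 2, 1, 0, 7, 4, 3]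

/-- part of a word -/
def levelsWord4w2p16 : List ℕ := [2, 1, 0, 7, 4, 3, 2, 1, 0, 7, 4, 3, 2, 1, 0, 5, 4, 3, 2, 6, 5, 4, 3, 7, 3, 4, 7, 4, 3, 2, 1, 0, 7, 4, 3, 2, 1, 0, 7, 4, 3, 2, 1, 0, 7, 4, 3, 2, 1, 0, 7, 4, 3, 2, 1, 0, 8, 7, 3, 0, 1, 2, 3, 4, 7, 0, 1, 2, 3, 4, 7, 0, 1, 2, 3, 4, 7, 0, 1, 2, 3, 4, 7, 0, 1, 2, 3, 4, 7, 3, 7, 8, 5, 4, 3, 7, 2, 3, 4, 5]

/-- part of a word -/
def levelsWord4w2p17 : List ℕ := [0, 1, 2, 3, 4, 7, 0, 1, 2, 3, 4, 7, 0, 1, 2, 3, 4, 7, 0, 1, 2, 3, 4, 7, 0, 1, 2, 3, 4, 7, 8, 4, 3, 7, 6, 5, 4, 7, 8, 7, 4, 3, 2, 1, 0, 7, 4, 3, 2, 1, 0, 7, 4, 3, 2, 1, 0, 7, 4, 3, 2, 1, 0, 7, 4, 3, 2, 1, 0, 5, 4, 3, 2, 6, 5, 4, 3, 7, 3, 4, 7, 4, 3, 2, 1, 0, 7, 4, 3, 2, 1, 0, 7, 4, 3, 2, 1, 0, 7, 4]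

/-- part of a word -/
def levelsWord4w2p18 : List ℕ := [3, 2, 1, 0, 7, 4, 3, 2, 1, 0, 8, 7, 3, 0, 1, 2, 3, 4, 7, 0, 1, 2, 3, 4, 7, 0, 1, 2, 3, 4, 7, 0, 1, 2, 3, 4, 7, 0, 1, 2, 3, 4, 7, 3, 7, 8, 5, 4, 3, 7, 2, 3, 4, 5, 0, 1, 2, 3, 4, 7, 0, 1, 2, 3, 4, 7, 0, 1, 2, 3, 4, 7, 0, 1, 2, 3, 4, 7, 0, 1, 2, 3, 4, 7, 8, 4, 3, 7, 6, 5, 4, 3, 6, 3, 7, 8, 7, 4, 3, 2]

/-- part of a word -/
def levelsWord4w2p19 : List ℕ := [1, 0, 7, 4, 3, 2, 1, 0, 7, 4, 3, 2, 1, 0, 7, 4, 3, 2, 1, 0, 7, 4, 3, 2, 1, 0, 5, 4, 3, 2, 6, 5, 4, 3, 7, 3, 4, 7, 4, 3, 2, 1, 0, 7, 4, 3, 2, 1, 0, 7, 4, 3, 2, 1, 0, 7, 4, 3, 2, 1, 0, 7, 4, 3, 2, 1, 0, 8, 7, 3, 0, 1, 2, 3, 4, 7, 0, 1, 2, 3, 4, 7, 0, 1, 2, 3, 4, 7, 0, 1, 2, 3, 4, 7, 0, 1, 2, 3, 4, 7]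

/-- part of a word -/
def levelsWord4w2p20 : List ℕ := [3, 7, 8, 5, 4, 3, 7, 2, 3, 4, 5, 0, 1, 2, 3, 4, 7, 0, 1, 2, 3, 4, 7, 0, 1, 2, 3, 4, 7, 0, 1, 2, 3, 4, 7, 0, 1, 2, 3, 4, 7, 8, 4, 3, 7, 6, 5, 4, 7, 8, 7, 4, 3, 2, 1, 0, 7, 4, 3, 2, 1, 0, 7, 4, 3, 2, 1, 0, 7, 4, 3, 2, 1, 0, 7, 4, 3, 2, 1, 0, 5, 4, 3, 2, 6, 5, 4, 3, 7, 3, 4, 7, 4, 3, 2, 1, 0, 7, 4, 3]

/-- part of a word -/
def levelsWord4w2p21 : List ℕ := [2, 1, 0, 7, 4, 3, 2, 1, 0, 7, 4, 3, 2, 1, 0, 7, 4, 3, 2, 1, 0, 8, 7, 3, 0, 1, 2, 3, 4, 7, 0, 1, 2, 3, 4, 7, 0, 1, 2, 3, 4, 7, 0, 1, 2, 3, 4, 7, 0, 1, 2, 3, 4, 7, 3, 7, 8, 5, 4, 3, 7, 2, 3, 4, 5, 0, 1, 2, 3, 4, 7, 0, 1, 2, 3, 4, 7, 0, 1, 2, 3, 4, 7, 0, 1, 2, 3, 4, 7, 0, 1, 2, 3, 4, 7, 8, 4, 3, 7, 6]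

/-- part of a word -/
def levelsWord4w2p22 : List ℕ := [5, 4, 3, 2, 5, 2, 6, 2, 5, 2, 6, 2, 5, 2, 3, 4, 5, 6, 7, 3, 4, 8, 7, 4, 3, 2, 1, 0, 7, 4, 3, 2, 1, 0, 7, 4, 3, 2, 1, 0, 7, 4, 3, 2, 1, 0, 7, 4, 3, 2, 1, 0, 5, 4, 3, 2, 7, 3, 4, 5, 8, 7, 3, 7, 4, 3, 2, 1, 0, 7, 4, 3, 2, 1, 0, 7, 4, 3, 2, 1, 0, 7, 4, 3, 2, 1, 0, 7, 4, 3, 2, 1, 0, 3, 7, 8, 0, 1, 2, 3]

/-- part of a word -/
def levelsWord4w2p23 : List ℕ := [4, 7, 0, 1, 2, 3, 4, 7, 0, 1, 2, 3, 4, 7, 0, 1, 2, 3, 4, 7, 0, 1, 2, 3, 4, 7, 4, 3, 7, 3, 4, 5, 6, 2, 3, 4, 5, 0, 1, 2, 3, 4, 7, 0, 1, 2, 3, 4, 7, 0, 1, 2, 3, 4, 7, 0, 1, 2, 3, 4, 7, 0, 1, 2, 3, 4, 7, 8, 7, 3, 2, 0, 7, 4, 3, 2, 1, 0, 7, 4, 3, 2, 1, 0, 7, 4, 3, 2, 1, 0, 7, 4, 3, 2, 1, 0, 7, 4, 3, 2]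

/-- part of a word -/
def levelsWord4w2p24 : List ℕ := [1, 5, 2, 3, 4, 5, 6, 7, 3, 4, 8, 7, 4, 3, 2, 1, 0, 7, 4, 3, 2, 1, 0, 7, 4, 3, 2, 1, 0, 7, 4, 3, 2, 1, 0, 7, 4, 3, 2, 1, 0, 5, 4, 3, 2, 7, 3, 4, 5, 8, 7, 3, 7, 4, 3, 2, 1, 0, 7, 4, 3, 2, 1, 0, 7, 4, 3, 2, 1, 0, 7, 4, 3, 2, 1, 0, 7, 4, 3, 2, 1, 0, 3, 7, 8, 0, 1, 2, 3, 4, 7, 0, 1, 2, 3, 4, 7, 0, 1, 2]

/-- part of a word -/
def levelsWord4w2p25 : List ℕ := [3, 4, 7, 0, 1, 2, 3, 4, 7, 0, 1, 2, 3, 4, 7, 4, 3, 7, 3, 4, 5, 6, 2, 3, 4, 5, 0, 1, 2, 3, 4, 7, 0, 1, 2, 3, 4, 7, 0, 1, 2, 3, 4, 7, 0, 1, 2, 3, 4, 7, 0, 1, 2, 3, 4, 7, 8, 7, 4, 5, 6, 7, 3, 4, 8, 7, 4, 3, 2, 1, 0, 7, 4, 3, 2, 1, 0, 7, 4, 3, 2, 1, 0, 7, 4, 3, 2, 1, 0, 7, 4, 3, 2, 1, 0, 5, 4, 3, 2, 7]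

/-- part of a word -/
def levelsWord4w2p26 : List ℕ := [3, 4, 5, 8, 7, 3, 7, 4, 3, 2, 1, 0, 7, 4, 3, 2, 1, 0, 7, 4, 3, 2, 1, 0, 7, 4, 3, 2, 1, 0, 7, 4, 3, 2, 1, 0, 3, 7, 8, 0, 1, 2, 3, 4, 7, 0, 1, 2, 3, 4, 7, 0, 1, 2, 3, 4, 7, 0, 1, 2, 3, 4, 7, 0, 1, 2, 3, 4, 7, 4, 3, 7, 3, 4, 5, 6, 2, 3, 4, 5, 0, 1, 2, 3, 4, 7, 0, 1, 2, 3, 4, 7, 0, 1, 2, 3, 4, 7, 0, 1]

/-- part of a word -/
def levelsWord4w2p27 : List ℕ := [2, 3, 4, 7, 0, 1, 2, 3, 4, 7, 8, 7, 3, 2, 1, 2, 3, 4, 7, 0, 1, 2, 3, 4, 7, 0, 1, 2, 3, 4, 7, 0, 1, 2, 3, 4, 7, 0, 1, 2, 3, 4, 7, 0, 2, 3, 7, 8, 7, 4, 3, 2, 1, 0, 7, 4, 3, 2, 1, 0, 7, 4, 3, 2, 1, 0, 7, 4, 3, 2, 1, 0, 7, 4, 3, 2, 1, 0, 5, 4, 3, 2, 6, 5, 4, 3, 7, 3, 4, 7, 4, 3, 2, 1, 0, 7, 4, 3, 2, 1]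

/-- part of a word -/
def levelsWord4w2p28 : List ℕ := [0, 7, 4, 3, 2, 1, 0, 7, 4, 3, 2, 1, 0, 7, 4, 3, 2, 1, 0, 8, 7, 3, 0, 1, 2, 3, 4, 7, 0, 1, 2, 3, 4, 7, 0, 1, 2, 3, 4, 7, 0, 1, 2, 3, 4, 7, 0, 1, 2, 3, 4, 7, 3, 7, 8, 5, 4, 3, 7, 2, 3, 4, 5, 0, 1, 2, 3, 4, 7, 0, 1, 2, 3, 4, 7, 0, 1, 2, 3, 4, 7, 0, 1, 2, 3, 4, 7, 0, 1, 2, 3, 4, 7, 8, 4, 3, 7, 6, 5, 4]

/-- part of a word -/
def levelsWord4w2p29 : List ℕ := [3, 2, 1, 2, 3, 4, 7, 0, 1, 2, 3, 4, 7, 0, 1, 2, 3, 4, 7, 0, 1, 2, 3, 4, 7, 0, 1, 2, 3, 4, 7, 0, 2, 3, 4, 5, 6, 7, 3, 4, 8, 7, 4, 3, 2, 1, 0, 7, 4, 3, 2, 1, 0, 7, 4, 3, 2, 1, 0, 7, 4, 3, 2, 1, 0, 7, 4, 3, 2, 1, 0, 5, 4, 3, 2, 7, 3, 4, 5, 8, 7, 3, 7, 4, 3, 2, 1, 0, 7, 4, 3, 2, 1, 0, 7, 4, 3, 2, 1, 0]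

/-- part of a word -/
def levelsWord4w2p30 : List ℕ := [7, 4, 3, 2, 1, 0, 7, 4, 3, 2, 1, 0, 3, 7, 8, 0, 1, 2, 3, 4, 7, 0, 1, 2, 3, 4, 7, 0, 1, 2, 3, 4, 7, 0, 1, 2, 3, 4, 7, 0, 1, 2, 3, 4, 7, 4, 3, 7, 3, 4, 5, 6, 2, 3, 4, 5, 0, 1, 2, 3, 4, 7, 0, 1, 2, 3, 4, 7, 0, 1, 2, 3, 4, 7, 0, 1, 2, 3, 4, 7, 0, 1, 2, 3, 4, 7, 8, 7, 3, 2, 5, 2, 3, 4, 5, 6, 7, 3, 4, 8]

/-- part of a word -/
def levelsWord4w2p31 : List ℕ := [7, 4, 3, 2, 1, 0, 7, 4, 3, 2, 1, 0, 7, 4, 3, 2, 1, 0, 7, 4, 3, 2, 1, 0, 7, 4, 3, 2, 1, 0, 5, 4, 3, 2, 7, 3, 4, 5, 8, 7, 3, 7, 4, 3, 2, 1, 0, 7, 4, 3, 2, 1, 0, 7, 4, 3, 2, 1, 0, 7, 4, 3, 2, 1, 0, 7, 4, 3, 2, 1, 0, 3, 7, 8, 0, 1, 2, 3, 4, 7, 0, 1, 2, 3, 4, 7, 0, 1, 2, 3, 4, 7, 0, 1, 2, 3, 4, 7, 0, 1]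

/-- part of a word -/
def levelsWord4w2p32 : List ℕ := [2, 3, 4, 7, 4, 3, 7, 3, 4, 5, 6, 2, 3, 4, 5, 0, 1, 2, 3, 4, 7, 0, 1, 2, 3, 4, 7, 0, 1, 2, 3, 4, 7, 0, 1, 2, 3, 4, 7, 0, 1, 2, 3, 4, 7, 8, 7, 4, 5, 6, 7, 3, 4, 8, 7, 4, 3, 2, 1, 0, 7, 4, 3, 2, 1, 0, 7, 4, 3, 2, 1, 0, 7, 4, 3, 2, 1, 0, 7, 4, 3, 2, 1, 0, 5, 4, 3, 2, 7, 3, 4, 5, 8, 7, 3, 7, 4, 3, 2, 1]

/-- part of a word -/
def levelsWord4w2p33 : List ℕ := [0, 7, 4, 3, 2, 1, 0, 7, 4, 3, 2, 1, 0, 7, 4, 3, 2, 1, 0, 7, 4, 3, 2, 1, 0, 3, 7, 8, 0, 1, 2, 3, 4, 7, 0, 1, 2, 3, 4, 7, 0, 1, 2, 3, 4, 7, 0, 1, 2, 3, 4, 7, 0, 1, 2, 3, 4, 7, 4, 3, 7, 3, 4, 5, 6, 2, 3, 4, 5, 0, 1, 2, 3, 4, 7, 0, 1, 2, 3, 4, 7, 0, 1, 2, 3, 4, 7, 0, 1, 2, 3, 4, 7, 0, 1, 2, 3, 4, 7, 8]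

/-- part of a word -/
def levelsWord4w2p34 : List ℕ := [7, 4, 5, 6, 7, 3, 4, 8, 7, 4, 3, 2, 1, 0, 7, 4, 3, 2, 1, 0, 7, 4, 3, 2, 1, 0, 7, 4, 3, 2, 1, 0, 7, 4, 3, 2, 1, 0, 5, 4, 3, 2, 7, 3, 4, 5, 8, 7, 3, 7, 4, 3, 2, 1, 0, 7, 4, 3, 2, 1, 0, 7, 4, 3, 2, 1, 0, 7, 4, 3, 2, 1, 0, 7, 4, 3, 2, 1, 0, 3, 7, 8, 0, 1, 2, 3, 4, 7, 0, 1, 2, 3, 4, 7, 0, 1, 2, 3, 4, 7]

/-- part of a word -/
def levelsWord4w2p35 : List ℕ := [0, 1, 2, 3, 4, 7, 0, 1, 2, 3, 4, 7, 4, 3, 7, 3, 4, 5, 6, 2, 3, 4, 5, 0, 1, 2, 3, 4, 7, 0, 1, 2, 3, 4, 7, 0, 1, 2, 3, 4, 7, 0, 1, 2, 3, 4, 7, 0, 1, 2, 3, 4, 7, 8, 7, 3, 6, 3, 4, 5, 6, 7, 3, 4, 8, 7, 4, 3, 2, 1, 0, 7, 4, 3, 2, 1, 0, 7, 4, 3, 2, 1, 0, 7, 4, 3, 2, 1, 0, 7, 4, 3, 2, 1, 0, 5, 4, 3, 2, 7]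

/-- part of a word -/
def levelsWord4w2p36 : List ℕ := [3, 4, 5, 8, 7, 3, 7, 4, 3, 2, 1, 0, 7, 4, 3, 2, 1, 0, 7, 4, 3, 2, 1, 0, 7, 4, 3, 2, 1, 0, 7, 4, 3, 2, 1, 0, 3, 7, 8, 0, 1, 2, 3, 4, 7, 0, 1, 2, 3, 4, 7, 0, 1, 2, 3, 4, 7, 0, 1, 2, 3, 4, 7, 0, 1, 2, 3, 4, 7, 4, 3, 7, 3, 4, 5, 6, 2, 3, 4, 5, 0, 1, 2, 3, 4, 7, 0, 1, 2, 3, 4, 7, 0, 1, 2, 3, 4, 7, 0, 1]

/-- part of a word -/
def levelsWord4w2p37 : List ℕ := [2, 3, 4, 7, 0, 1, 2, 3, 4, 7, 8, 7, 3, 2, 5, 2, 6, 2, 5, 2, 3, 7, 8, 7, 4, 3, 2, 1, 0, 7, 4, 3, 2, 1, 0, 7, 4, 3, 2, 1, 0, 7, 4, 3, 2, 1, 0, 7, 4, 3, 2, 1, 0, 5, 4, 3, 2, 6, 5, 4, 3, 7, 3, 4, 7, 4, 3, 2, 1, 0, 7, 4, 3, 2, 1, 0, 7, 4, 3, 2, 1, 0, 7, 4, 3, 2, 1, 0, 7, 4, 3, 2, 1, 0, 8, 7, 3, 0, 1, 2]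

/-- part of a word -/
def levelsWord4w2p38 : List ℕ := [3, 4, 7, 0, 1, 2, 3, 4, 7, 0, 1, 2, 3, 4, 7, 0, 1, 2, 3, 4, 7, 0, 1, 2, 3, 4, 7, 3, 7, 8, 5, 4, 3, 7, 2, 3, 4, 5, 0, 1, 2, 3, 4, 7, 0, 1, 2, 3, 4, 7, 0, 1, 2, 3, 4, 7, 0, 1, 2, 3, 4, 7, 0, 1, 2, 3, 4, 7, 8, 4, 3, 7, 6, 5, 4, 7, 8, 7, 4, 3, 2, 1, 0, 7, 4, 3, 2, 1, 0, 7, 4, 3, 2, 1, 0, 7, 4, 3, 2, 1]

/-- part of a word -/
def levelsWord4w2p39 : List ℕ := [0, 7, 4, 3, 2, 1, 0, 5, 4, 3, 2, 6, 5, 4, 3, 7, 3, 4, 7, 4, 3, 2, 1, 0, 7, 4, 3, 2, 1, 0, 7, 4, 3, 2, 1, 0, 7, 4, 3, 2, 1, 0, 7, 4, 3, 2, 1, 0, 8, 7, 3, 0, 1, 2, 3, 4, 7, 0, 1, 2, 3, 4, 7, 0, 1, 2, 3, 4, 7, 0, 1, 2, 3, 4, 7, 0, 1, 2, 3, 4, 7, 3, 7, 8, 5, 4, 3, 7, 2, 3, 4, 5, 0, 1, 2, 3, 4, 7, 0, 1]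

/-- part of a word -/
def levelsWord4w2p40 : List ℕ := [2, 3, 4, 7, 0, 1, 2, 3, 4, 7, 0, 1, 2, 3, 4, 7, 0, 1, 2, 3, 4, 7, 8, 4, 3, 7, 6, 5, 4, 3, 2, 1, 2, 3, 4, 7, 0, 1, 2, 3, 4, 7, 0, 1, 2, 3, 4, 7, 0, 1, 2, 3, 4, 7, 0, 1, 2, 3, 4, 7, 0, 2, 3, 7, 8, 7, 4, 3, 2, 1, 0, 7, 4, 3, 2, 1, 0, 7, 4, 3, 2, 1, 0, 7, 4, 3, 2, 1, 0, 7, 4, 3, 2, 1, 0, 5, 4, 3, 2, 6]

/-- part of a word -/
def levelsWord4w2p41 : List ℕ := [5, 4, 3, 7, 3, 4, 7, 4, 3, 2, 1, 0, 7, 4, 3, 2, 1, 0, 7, 4, 3, 2, 1, 0, 7, 4, 3, 2, 1, 0, 7, 4, 3, 2, 1, 0, 8, 7, 3, 0, 1, 2, 3, 4, 7, 0, 1, 2, 3, 4, 7, 0, 1, 2, 3, 4, 7, 0, 1, 2, 3, 4, 7, 0, 1, 2, 3, 4, 7, 3, 7, 8, 5, 4, 3, 7, 2, 3, 4, 5, 0, 1, 2, 3, 4, 7, 0, 1, 2, 3, 4, 7, 0, 1, 2, 3, 4, 7, 0, 1]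

/-- part of a word -/
def levelsWord4w2p42 : List ℕ := [2, 3, 4, 7, 0, 1, 2, 3, 4, 7, 8, 4, 3, 7, 6, 5, 4, 3, 2, 1, 2, 3, 4, 7, 0, 1, 2, 3, 4, 7, 0, 1, 2, 3, 4, 7, 0, 1, 2, 3, 4, 7, 0, 1, 2, 3, 4, 7, 0, 5, 2, 3, 4, 5, 6, 7, 3, 4, 8, 7, 4, 3, 2, 1, 0, 7, 4, 3, 2, 1, 0, 7, 4, 3, 2, 1, 0, 7, 4, 3, 2, 1, 0, 7, 4, 3, 2, 1, 0, 5, 4, 3, 2, 7, 3, 4, 5, 8, 7, 3]

/-- part of a word -/
def levelsWord4w2p43 : List ℕ := [7, 4, 3, 2, 1, 0, 7, 4, 3, 2, 1, 0, 7, 4, 3, 2, 1, 0, 7, 4, 3, 2, 1, 0, 7, 4, 3, 2, 1, 0, 3, 7, 8, 0, 1, 2, 3, 4, 7, 0, 1, 2, 3, 4, 7, 0, 1, 2, 3, 4, 7, 0, 1, 2, 3, 4, 7, 0, 1, 2, 3, 4, 7, 4, 3, 7, 3, 4, 5, 6, 2, 3, 4, 5, 0, 1, 2, 3, 4, 7, 0, 1, 2, 3, 4, 7, 0, 1, 2, 3, 4, 7, 0, 1, 2, 3, 4, 7, 0, 1]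

/-- part of a word -/
def levelsWord4w2p44 : List ℕ := [2, 3, 4, 7, 8, 7, 4, 5, 6, 7, 3, 4, 8, 7, 4, 3, 2, 1, 0, 7, 4, 3, 2, 1, 0, 7, 4, 3, 2, 1, 0, 7, 4, 3, 2, 1, 0, 7, 4, 3, 2, 1, 0, 5, 4, 3, 2, 7, 3, 4, 5, 8, 7, 3, 7, 4, 3, 2, 1, 0, 7, 4, 3, 2, 1, 0, 7, 4, 3, 2, 1, 0, 7, 4, 3, 2, 1, 0, 7, 4, 3, 2, 1, 0, 3, 7, 8, 0, 1, 2, 3, 4, 7, 0, 1, 2, 3, 4, 7, 0]

/-- part of a word -/
def levelsWord4w2p45 : List ℕ := [1, 2, 3, 4, 7, 0, 1, 2, 3, 4, 7, 0, 1, 2, 3, 4, 7, 4, 3, 7, 3, 4, 5, 6, 2, 3, 4, 5, 0, 1, 2, 3, 4, 7, 0, 1, 2, 3, 4, 7, 0, 1, 2, 3, 4, 7, 0, 1, 2, 3, 4, 7, 0, 1, 2, 3, 4, 7, 8, 7, 3, 6, 3, 4, 5, 6, 7, 3, 4, 8, 7, 4, 3, 2, 1, 0, 7, 4, 3, 2, 1, 0, 7, 4, 3, 2, 1, 0, 7, 4, 3, 2, 1, 0, 7, 4, 3, 2, 1, 0]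

/-- part of a word -/
def levelsWord4w2p46 : List ℕ := [5, 4, 3, 2, 7, 3, 4, 5, 8, 7, 3, 7, 4, 3, 2, 1, 0, 7, 4, 3, 2, 1, 0, 7, 4, 3, 2, 1, 0, 7, 4, 3, 2, 1, 0, 7, 4, 3, 2, 1, 0, 3, 7, 8, 0, 1, 2, 3, 4, 7, 0, 1, 2, 3, 4, 7, 0, 1, 2, 3, 4, 7, 0, 1, 2, 3, 4, 7, 0, 1, 2, 3, 4, 7, 4, 3, 7, 3, 4, 5, 6, 2, 3, 4, 5, 0, 1, 2, 3, 4, 7, 0, 1, 2, 3, 4, 7, 0, 1, 2]

/-- part of a word -/
def levelsWord4w2p47 : List ℕ := [3, 4, 7, 0, 1, 2, 3, 4, 7, 0, 1, 2, 3, 4, 7, 8, 7, 4, 5, 6, 7, 3, 4, 8, 7, 4, 3, 2, 1, 0, 7, 4, 3, 2, 1, 0, 7, 4, 3, 2, 1, 0, 7, 4, 3, 2, 1, 0, 7, 4, 3, 2, 1, 0, 5, 4, 3, 2, 7, 3, 4, 5, 8, 7, 3, 7, 4, 3, 2, 1, 0, 7, 4, 3, 2, 1, 0, 7, 4, 3, 2, 1, 0, 7, 4, 3, 2, 1, 0, 7, 4, 3, 2, 1, 0, 3, 7, 8, 0, 1]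

/-- part of a word -/
def levelsWord4w2p48 : List ℕ := [2, 3, 4, 7, 0, 1, 2, 3, 4, 7, 0, 1, 2, 3, 4, 7, 0, 1, 2, 3, 4, 7, 0, 1, 2, 3, 4, 7, 4, 3, 7, 3, 4, 5, 6, 2, 3, 4, 5, 0, 1, 2, 3, 4, 7, 0, 1, 2, 3, 4, 7, 0, 1, 2, 3, 4, 7, 0, 1, 2, 3, 4, 7, 0, 1, 2, 3, 4, 7, 8, 7, 3, 6, 2, 5, 2, 6, 2, 5, 2, 3, 7, 8, 7, 4, 3, 2, 1, 0, 7, 4, 3, 2, 1, 0, 7, 4, 3, 2, 1]

/-- part of a word -/
def levelsWord4w2p49 : List ℕ := [0, 7, 4, 3, 2, 1, 0, 7, 4, 3, 2, 1, 0, 5, 4, 3, 2, 6, 5, 4, 3, 7, 3, 4, 7, 4, 3, 2, 1, 0, 7, 4, 3, 2, 1, 0, 7, 4, 3, 2, 1, 0, 7, 4, 3, 2, 1, 0, 7, 4, 3, 2, 1, 0, 8, 7, 3, 0, 1, 2, 3, 4, 7, 0, 1, 2, 3, 4, 7, 0, 1, 2, 3, 4, 7, 0, 1, 2, 3, 4, 7, 0, 1, 2, 3, 4, 7, 3, 7, 8, 5, 4, 3, 7, 2, 3, 4, 5, 0, 1]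

/-- part of a word -/
def levelsWord4w2p50 : List ℕ := [2, 3, 4, 7, 0, 1, 2, 3, 4, 7, 0, 1, 2, 3, 4, 7, 0, 1, 2, 3, 4, 7, 0, 1, 2, 3, 4, 7, 8, 4, 3, 7, 6, 5, 4, 7, 8, 7, 4, 3, 2, 1, 0, 7, 4, 3, 2, 1, 0, 7, 4, 3, 2, 1, 0, 7, 4, 3, 2, 1, 0, 7, 4, 3, 2, 1, 0, 5, 4, 3, 2, 6, 5, 4, 3, 7, 3, 4, 7, 4, 3, 2, 1, 0, 7, 4, 3, 2, 1, 0, 7, 4, 3, 2, 1, 0, 7, 4, 3, 2]

/-- part of a word -/
def levelsWord4w2p51 : List ℕ := [1, 0, 7, 4, 3, 2, 1, 0, 8, 7, 3, 0, 1, 2, 3, 4, 7, 0, 1, 2, 3, 4, 7, 0, 1, 2, 3, 4, 7, 0, 1, 2, 3, 4, 7, 0, 1, 2, 3, 4, 7, 3, 7, 8, 5, 4, 3, 7, 2, 3, 4, 5, 0, 1, 2, 3, 4, 7, 0, 1, 2, 3, 4, 7, 0, 1, 2, 3, 4, 7, 0, 1, 2, 3, 4, 7, 0, 1, 2, 3, 4, 7, 8, 4, 3, 7, 6, 5, 4, 3, 6, 2, 5, 2, 3, 7, 8, 7, 4, 3]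

/-- part of a word -/
def levelsWord4w2p52 : List ℕ := [2, 1, 0, 7, 4, 3, 2, 1, 0, 7, 4, 3, 2, 1, 0, 7, 4, 3, 2, 1, 0, 7, 4, 3, 2, 1, 0, 5, 4, 3, 2, 6, 5, 4, 3, 7, 3, 4, 7, 4, 3, 2, 1, 0, 7, 4, 3, 2, 1, 0, 7, 4, 3, 2, 1, 0, 7, 4, 3, 2, 1, 0, 7, 4, 3, 2, 1, 0, 8, 7, 3, 0, 1, 2, 3, 4, 7, 0, 1, 2, 3, 4, 7, 0, 1, 2, 3, 4, 7, 0, 1, 2, 3, 4, 7, 0, 1, 2, 3, 4]

/-- part of a word -/
def levelsWord4w2p53 : List ℕ := [7, 3, 7, 8, 5, 4, 3, 7, 2, 3, 4, 5, 0, 1, 2, 3, 4, 7, 0, 1, 2, 3, 4, 7, 0, 1, 2, 3, 4, 7, 0, 1, 2, 3, 4, 7, 0, 1, 2, 3, 4, 7, 8, 4, 3, 7, 6, 5, 4, 3, 2, 5, 0, 7, 4, 3, 2, 1, 0, 7, 4, 3, 2, 1, 0, 7, 4, 3, 2, 1, 0, 7, 4, 3, 2, 1, 0, 7, 4, 3, 2, 1, 2, 3, 4, 5, 6, 7, 3, 4, 8, 7, 4, 3, 2, 1, 0, 7, 4, 3]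

/-- part of a word -/
def levelsWord4w2p54 : List ℕ := [2, 1, 0, 7, 4, 3, 2, 1, 0, 7, 4, 3, 2, 1, 0, 7, 4, 3, 2, 1, 0, 5, 4, 3, 2, 7, 3, 4, 5, 8, 7, 3, 7, 4, 3, 2, 1, 0, 7, 4, 3, 2, 1, 0, 7, 4, 3, 2, 1, 0, 7, 4, 3, 2, 1, 0, 7, 4, 3, 2, 1, 0, 3, 7, 8, 0, 1, 2, 3, 4, 7, 0, 1, 2, 3, 4, 7, 0, 1, 2, 3, 4, 7, 0, 1, 2, 3, 4, 7, 0, 1, 2, 3, 4, 7, 4, 3, 7, 3, 4]

/-- part of a word -/
def levelsWord4w2p55 : List ℕ := [5, 6, 2, 3, 4, 5, 0, 1, 2, 3, 4, 7, 0, 1, 2, 3, 4, 7, 0, 1, 2, 3, 4, 7, 0, 1, 2, 3, 4, 7, 0, 1, 2, 3, 4, 7, 8, 7, 3, 2, 0, 7, 4, 3, 2, 1, 0, 7, 4, 3, 2, 1, 0, 7, 4, 3, 2, 1, 0, 7, 4, 3, 2, 1, 0, 7, 4, 3, 2, 1, 2, 3, 7, 8, 7, 4, 3, 2, 1, 0, 7, 4, 3, 2, 1, 0, 7, 4, 3, 2, 1, 0, 7, 4, 3, 2, 1, 0, 7, 4]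

/-- part of a word -/
def levelsWord4w2p56 : List ℕ := [3, 2, 1, 0, 5, 4, 3, 2, 6, 5, 4, 3, 7, 3, 4, 7, 4, 3, 2, 1, 0, 7, 4, 3, 2, 1, 0, 7, 4, 3, 2, 1, 0, 7, 4, 3, 2, 1, 0, 7, 4, 3, 2, 1, 0, 8, 7, 3, 0, 1, 2, 3, 4, 7, 0, 1, 2, 3, 4, 7, 0, 1, 2, 3, 4, 7, 0, 1, 2, 3, 4, 7, 0, 1, 2, 3, 4, 7, 3, 7, 8, 5, 4, 3, 7, 2, 3, 4, 5, 0, 1, 2, 3, 4, 7, 0, 1, 2, 3, 4]

/-- part of a word -/
def levelsWord4w2p57 : List ℕ := [7, 0, 1, 2, 3, 4, 7, 0, 1, 2, 3, 4, 7, 0, 1, 2, 3, 4, 7, 8, 4, 3, 7, 6, 5, 4, 7, 8, 7, 4, 3, 2, 1, 0, 7, 4, 3, 2, 1, 0, 7, 4, 3, 2, 1, 0, 7, 4, 3, 2, 1, 0, 7, 4, 3, 2, 1, 0, 5, 4, 3, 2, 6, 5, 4, 3, 7, 3, 4, 7, 4, 3, 2, 1, 0, 7, 4, 3, 2, 1, 0, 7, 4, 3, 2, 1, 0, 7, 4, 3, 2, 1, 0, 7, 4, 3, 2, 1, 0, 8]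

/-- part of a word -/
def levelsWord4w2p58 : List ℕ := [7, 3, 0, 1, 2, 3, 4, 7, 0, 1, 2, 3, 4, 7, 0, 1, 2, 3, 4, 7, 0, 1, 2, 3, 4, 7, 0, 1, 2, 3, 4, 7, 3, 7, 8, 5, 4, 3, 7, 2, 3, 4, 5, 0, 1, 2, 3, 4, 7, 0, 1, 2, 3, 4, 7, 0, 1, 2, 3, 4, 7, 0, 1, 2, 3, 4, 7, 0, 1, 2, 3, 4, 7, 8, 4, 3, 7, 6, 5, 4, 3, 2, 5, 1, 2, 3, 4, 7, 0, 1, 2, 3, 4, 7, 0, 1, 2, 3, 4, 7]

/-- part of a word -/
def levelsWord4w2p59 : List ℕ := [0, 1, 2, 3, 4, 7, 0, 1, 2, 3, 4, 7, 0, 2, 3, 7, 8, 7, 4, 3, 2, 1, 0, 7, 4, 3, 2, 1, 0, 7, 4, 3, 2, 1, 0, 7, 4, 3, 2, 1, 0, 7, 4, 3, 2, 1, 0, 5, 4, 3, 2, 6, 5, 4, 3, 7, 3, 4, 7, 4, 3, 2, 1, 0, 7, 4, 3, 2, 1, 0, 7, 4, 3, 2, 1, 0, 7, 4, 3, 2, 1, 0, 7, 4, 3, 2, 1, 0, 8, 7, 3, 0, 1, 2, 3, 4, 7, 0, 1, 2]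

/-- part of a word -/
def levelsWord4w2p60 : List ℕ := [3, 4, 7, 0, 1, 2, 3, 4, 7, 0, 1, 2, 3, 4, 7, 0, 1, 2, 3, 4, 7, 3, 7, 8, 5, 4, 3, 7, 2, 3, 4, 5, 0, 1, 2, 3, 4, 7, 0, 1, 2, 3, 4, 7, 0, 1, 2, 3, 4, 7, 0, 1, 2, 3, 4, 7, 0, 1, 2, 3, 4, 7, 8, 4, 3, 7, 6, 5, 4, 3, 2, 0, 7, 4, 3, 2, 1, 0, 7, 4, 3, 2, 1, 0, 7, 4, 3, 2, 1, 0, 7, 4, 3, 2, 1, 0, 7, 4, 3, 2]

/-- part of a word -/
def levelsWord4w2p61 : List ℕ := [1, 2, 3, 4, 5, 6, 7, 3, 4, 8, 7, 4, 3, 2, 1, 0, 7, 4, 3, 2, 1, 0, 7, 4, 3, 2, 1, 0, 7, 4, 3, 2, 1, 0, 7, 4, 3, 2, 1, 0, 5, 4, 3, 2, 7, 3, 4, 5, 8, 7, 3, 7, 4, 3, 2, 1, 0, 7, 4, 3, 2, 1, 0, 7, 4, 3, 2, 1, 0, 7, 4, 3, 2, 1, 0, 7, 4, 3, 2, 1, 0, 3, 7, 8, 0, 1, 2, 3, 4, 7, 0, 1, 2, 3, 4, 7, 0, 1, 2, 3]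

/-- part of a word -/
def levelsWord4w2p62 : List ℕ := [4, 7, 0, 1, 2, 3, 4, 7, 0, 1, 2, 3, 4, 7, 4, 3, 7, 3, 4, 5, 6, 2, 3, 4, 5, 0, 1, 2, 3, 4, 7, 0, 1, 2, 3, 4, 7, 0, 1, 2, 3, 4, 7, 0, 1, 2, 3, 4, 7, 0, 1, 2, 3, 4, 7, 8, 7, 3, 2, 0, 7, 4, 3, 2, 1, 0, 7, 4, 3, 2, 1, 0, 7, 4, 3, 2, 1, 0, 7, 4, 3, 2, 1, 0, 7, 4, 3, 2, 1, 2, 3, 7, 8, 7, 4, 3, 2, 1, 0, 7]

/-- part of a word -/
def levelsWord4w2p63 : List ℕ := [4, 3, 2, 1, 0, 7, 4, 3, 2, 1, 0, 7, 4, 3, 2, 1, 0, 7, 4, 3, 2, 1, 0, 5, 4, 3, 2, 6, 5, 4, 3, 7, 3, 4, 7, 4, 3, 2, 1, 0, 7, 4, 3, 2, 1, 0, 7, 4, 3, 2, 1, 0, 7, 4, 3, 2, 1, 0, 7, 4, 3, 2, 1, 0, 8, 7, 3, 0, 1, 2, 3, 4, 7, 0, 1, 2, 3, 4, 7, 0, 1, 2, 3, 4, 7, 0, 1, 2, 3, 4, 7, 0, 1, 2, 3, 4, 7, 3, 7, 8]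

/-- part of a word -/
def levelsWord4w2p64 : List ℕ := [5, 4, 3, 7, 2, 3, 4, 5, 0, 1, 2, 3, 4, 7, 0, 1, 2, 3, 4, 7, 0, 1, 2, 3, 4, 7, 0, 1, 2, 3, 4, 7, 0, 1, 2, 3, 4, 7, 8, 4, 3, 7, 6, 5, 4, 7, 8, 7, 4, 3, 2, 1, 0, 7, 4, 3, 2, 1, 0, 7, 4, 3, 2, 1, 0, 7, 4, 3, 2, 1, 0, 7, 4, 3, 2, 1, 0, 5, 4, 3, 2, 6, 5, 4, 3, 7, 3, 4, 7, 4, 3, 2, 1, 0, 7, 4, 3, 2, 1, 0]

/-- part of a word -/
def levelsWord4w2p65 : List ℕ := [7, 4, 3, 2, 1, 0, 7, 4, 3, 2, 1, 0, 7, 4, 3, 2, 1, 0, 8, 7, 3, 0, 1, 2, 3, 4, 7, 0, 1, 2, 3, 4, 7, 0, 1, 2, 3, 4, 7, 0, 1, 2, 3, 4, 7, 0, 1, 2, 3, 4, 7, 3, 7, 8, 5, 4, 3, 7, 2, 3, 4, 5, 0, 1, 2, 3, 4, 7, 0, 1, 2, 3, 4, 7, 0, 1, 2, 3, 4, 7, 0, 1, 2, 3, 4, 7, 0, 1, 2, 3, 4, 7, 8, 4, 3, 7, 6, 5, 4, 3]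

/-- part of a word -/
def levelsWord4w2p66 : List ℕ := [2, 5, 1, 2, 3, 4, 7, 0, 1, 2, 3, 4, 7, 0, 1, 2, 3, 4, 7, 0, 1, 2, 3, 4, 7, 0, 1, 2, 3, 4, 7, 0, 2, 3, 4, 5, 6, 7, 3, 4, 8, 7, 4, 3, 2, 1, 0, 7, 4, 3, 2, 1, 0, 7, 4, 3, 2, 1, 0, 7, 4, 3, 2, 1, 0, 7, 4, 3, 2, 1, 0, 5, 4, 3, 2, 7, 3, 4, 5, 8, 7, 3, 7, 4, 3, 2, 1, 0, 7, 4, 3, 2, 1, 0, 7, 4, 3, 2, 1, 0]

/-- part of a word -/
def levelsWord4w2p67 : List ℕ := [7, 4, 3, 2, 1, 0, 7, 4, 3, 2, 1, 0, 3, 7, 8, 0, 1, 2, 3, 4, 7, 0, 1, 2, 3, 4, 7, 0, 1, 2, 3, 4, 7, 0, 1, 2, 3, 4, 7, 0, 1, 2, 3, 4, 7, 4, 3, 7, 3, 4, 5, 6, 2, 3, 4, 5, 0, 1, 2, 3, 4, 7, 0, 1, 2, 3, 4, 7, 0, 1, 2, 3, 4, 7, 0, 1, 2, 3, 4, 7, 0, 1, 2, 3, 4, 7, 8, 7, 3, 6, 3, 4, 5, 6, 7, 3, 4, 8, 7, 4]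

/-- part of a word -/
def levelsWord4w2p68 : List ℕ := [3, 2, 1, 0, 7, 4, 3, 2, 1, 0, 7, 4, 3, 2, 1, 0, 7, 4, 3, 2, 1, 0, 7, 4, 3, 2, 1, 0, 5, 4, 3, 2, 7, 3, 4, 5, 8, 7, 3, 7, 4, 3, 2, 1, 0, 7, 4, 3, 2, 1, 0, 7, 4, 3, 2, 1, 0, 7, 4, 3, 2, 1, 0, 7, 4, 3, 2, 1, 0, 3, 7, 8, 0, 1, 2, 3, 4, 7, 0, 1, 2, 3, 4, 7, 0, 1, 2, 3, 4, 7, 0, 1, 2, 3, 4, 7, 0, 1, 2, 3]

/-- part of a word -/
def levelsWord4w2p69 : List ℕ := [4, 7, 4, 3, 7, 3, 4, 5, 6, 2, 3, 4, 5, 0, 1, 2, 3, 4, 7, 0, 1, 2, 3, 4, 7, 0, 1, 2, 3, 4, 7, 0, 1, 2, 3, 4, 7, 0, 1, 2, 3, 4, 7, 8, 7, 4, 5, 6, 7, 3, 4, 8, 7, 4, 3, 2, 1, 0, 7, 4, 3, 2, 1, 0, 7, 4, 3, 2, 1, 0, 7, 4, 3, 2, 1, 0, 7, 4, 3, 2, 1, 0, 5, 4, 3, 2, 7, 3, 4, 5, 8, 7, 3, 7, 4, 3, 2, 1, 0, 7]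

/-- part of a word -/
def levelsWord4w2p70 : List ℕ := [4, 3, 2, 1, 0, 7, 4, 3, 2, 1, 0, 7, 4, 3, 2, 1, 0, 7, 4, 3, 2, 1, 0, 3, 7, 8, 0, 1, 2, 3, 4, 7, 0, 1, 2, 3, 4, 7, 0, 1, 2, 3, 4, 7, 0, 1, 2, 3, 4, 7, 0, 1, 2, 3, 4, 7, 4, 3, 7, 3, 4, 5, 6, 2, 3, 4, 5, 0, 1, 2, 3, 4, 7, 0, 1, 2, 3, 4, 7, 0, 1, 2, 3, 4, 7, 0, 1, 2, 3, 4, 7, 0, 1, 2, 3, 4, 7, 8, 7, 3]

/-- part of a word -/
def levelsWord4w2p71 : List ℕ := [6, 2, 5, 2, 6, 2, 5, 2, 3, 7, 8, 7, 4, 3, 2, 1, 0, 7, 4, 3, 2, 1, 0, 7, 4, 3, 2, 1, 0, 7, 4, 3, 2, 1, 0, 7, 4, 3, 2, 1, 0, 5, 4, 3, 2, 6, 5, 4, 3, 7, 3, 4, 7, 4, 3, 2, 1, 0, 7, 4, 3, 2, 1, 0, 7, 4, 3, 2, 1, 0, 7, 4, 3, 2, 1, 0, 7, 4, 3, 2, 1, 0, 8, 7, 3, 0, 1, 2, 3, 4, 7, 0, 1, 2, 3, 4, 7, 0, 1, 2]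

/-- part of a word -/
def levelsWord4w2p72 : List ℕ := [3, 4, 7, 0, 1, 2, 3, 4, 7, 0, 1, 2, 3, 4, 7, 3, 7, 8, 5, 4, 3, 7, 2, 3, 4, 5, 0, 1, 2, 3, 4, 7, 0, 1, 2, 3, 4, 7, 0, 1, 2, 3, 4, 7, 0, 1, 2, 3, 4, 7, 0, 1, 2, 3, 4, 7, 8, 4, 3, 7, 6, 5, 4, 7, 8, 7, 4, 3, 2, 1, 0, 7, 4, 3, 2, 1, 0, 7, 4, 3, 2, 1, 0, 7, 4, 3, 2, 1, 0, 7, 4, 3, 2, 1, 0, 5, 4, 3, 2, 6]

/-- part of a word -/
def levelsWord4w2p73 : List ℕ := [5, 4, 3, 7, 3, 4, 7, 4, 3, 2, 1, 0, 7, 4, 3, 2, 1, 0, 7, 4, 3, 2, 1, 0, 7, 4, 3, 2, 1, 0, 7, 4, 3, 2, 1, 0, 8, 7, 3, 0, 1, 2, 3, 4, 7, 0, 1, 2, 3, 4, 7, 0, 1, 2, 3, 4, 7, 0, 1, 2, 3, 4, 7, 0, 1, 2, 3, 4, 7, 3, 7, 8, 5, 4, 3, 7, 2, 3, 4, 5, 0, 1, 2, 3, 4, 7, 0, 1, 2, 3, 4, 7, 0, 1, 2, 3, 4, 7, 0, 1]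

/-- part of a word -/
def levelsWord4w2p74 : List ℕ := [2, 3, 4, 7, 0, 1, 2, 3, 4, 7, 8, 4, 3, 7, 6, 5, 4, 3, 6, 2, 5, 2, 3, 7, 8, 7, 4, 3, 2, 1, 0, 7, 4, 3, 2, 1, 0, 7, 4, 3, 2, 1, 0, 7, 4, 3, 2, 1, 0, 7, 4, 3, 2, 1, 0, 5, 4, 3, 2, 6, 5, 4, 3, 7, 3, 4, 7, 4, 3, 2, 1, 0, 7, 4, 3, 2, 1, 0, 7, 4, 3, 2, 1, 0, 7, 4, 3, 2, 1, 0, 7, 4, 3, 2, 1, 0, 8, 7, 3, 0]

/-- part of a word -/
def levelsWord4w2p75 : List ℕ := [1, 2, 3, 4, 7, 0, 1, 2, 3, 4, 7, 0, 1, 2, 3, 4, 7, 0, 1, 2, 3, 4, 7, 0, 1, 2, 3, 4, 7, 3, 7, 8, 5, 4, 3, 7, 2, 3, 4, 5, 0, 1, 2, 3, 4, 7, 0, 1, 2, 3, 4, 7, 0, 1, 2, 3, 4, 7, 0, 1, 2, 3, 4, 7, 0, 1, 2, 3, 4, 7, 8, 4, 3, 7, 6, 5, 4, 3, 2, 0, 7, 4, 3, 2, 1, 0, 7, 4, 3, 2, 1, 0, 7, 4, 3, 2, 1, 0, 7, 4]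

/-- part of a word -/
def levelsWord4w2p76 : List ℕ := [3, 2, 1, 0, 7, 4, 3, 2, 1, 2, 3, 4, 5, 6, 7, 3, 4, 8, 7, 4, 3, 2, 1, 0, 7, 4, 3, 2, 1, 0, 7, 4, 3, 2, 1, 0, 7, 4, 3, 2, 1, 0, 7, 4, 3, 2, 1, 0, 5, 4, 3, 2, 7, 3, 4, 5, 8, 7, 3, 7, 4, 3, 2, 1, 0, 7, 4, 3, 2, 1, 0, 7, 4, 3, 2, 1, 0, 7, 4, 3, 2, 1, 0, 7, 4, 3, 2, 1, 0, 3, 7, 8, 0, 1, 2, 3, 4, 7, 0, 1]

/-- part of a word -/
def levelsWord4w2p77 : List ℕ := [2, 3, 4, 7, 0, 1, 2, 3, 4, 7, 0, 1, 2, 3, 4, 7, 0, 1, 2, 3, 4, 7, 4, 3, 7, 3, 4, 5, 6, 2, 3, 4, 5, 0, 1, 2, 3, 4, 7, 0, 1, 2, 3, 4, 7, 0, 1, 2, 3, 4, 7, 0, 1, 2, 3, 4, 7, 0, 1, 2, 3, 4, 7, 8, 7, 3, 2, 0, 7, 4, 3, 2, 1, 0, 7, 4, 3, 2, 1, 0, 7, 4, 3, 2, 1, 0, 7, 4, 3, 2, 1, 0, 7, 4, 3, 2, 1, 2, 3, 4]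

/-- part of a word -/
def levelsWord4w2p78 : List ℕ := [5, 6, 7, 3, 4, 8, 7, 4, 3, 2, 1, 0, 7, 4, 3, 2, 1, 0, 7, 4, 3, 2, 1, 0, 7, 4, 3, 2, 1, 0, 7, 4, 3, 2, 1, 0, 5, 4, 3, 2, 7, 3, 4, 5, 8, 7, 3, 7, 4, 3, 2, 1, 0, 7, 4, 3, 2, 1, 0, 7, 4, 3, 2, 1, 0, 7, 4, 3, 2, 1, 0, 7, 4, 3, 2, 1, 0, 3, 7, 8, 0, 1, 2, 3, 4, 7, 0, 1, 2, 3, 4, 7, 0, 1, 2, 3, 4, 7, 0, 1]

/-- part of a word -/
def levelsWord4w2p79 : List ℕ := [2, 3, 4, 7, 0, 1, 2, 3, 4, 7, 4, 3, 7, 3, 4, 5, 6, 2, 3, 4, 5, 0, 1, 2, 3, 4, 7, 0, 1, 2, 3, 4, 7, 0, 1, 2, 3, 4, 7, 0, 1, 2, 3, 4, 7, 0, 1, 2, 3, 4, 7, 8, 7, 4, 5, 6, 7, 3, 4, 8, 7, 4, 3, 2, 1, 0, 7, 4, 3, 2, 1, 0, 7, 4, 3, 2, 1, 0, 7, 4, 3, 2, 1, 0, 7, 4, 3, 2, 1, 0, 5, 4, 3, 2, 7, 3, 4, 5, 8, 7]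

/-- part of a word -/
def levelsWord4w2p80 : List ℕ := [3, 7, 4, 3, 2, 1, 0, 7, 4, 3, 2, 1, 0, 7, 4, 3, 2, 1, 0, 7, 4, 3, 2, 1, 0, 7, 4, 3, 2, 1, 0, 3, 7, 8, 0, 1, 2, 3, 4, 7, 0, 1, 2, 3, 4, 7, 0, 1, 2, 3, 4, 7, 0, 1, 2, 3, 4, 7, 0, 1, 2, 3, 4, 7, 4, 3, 7, 3, 4, 5, 6, 2, 3, 4, 5, 0, 1, 2, 3, 4, 7, 0, 1, 2, 3, 4, 7, 0, 1, 2, 3, 4, 7, 0, 1, 2, 3, 4, 7, 0]

/-- part of a word -/
def levelsWord4w2p81 : List ℕ := [1, 2, 3, 4, 7, 8, 7, 3, 2, 5, 2, 6, 2, 5, 2, 3, 7, 8, 7, 4, 3, 2, 1, 0, 7, 4, 3, 2, 1, 0, 7, 4, 3, 2, 1, 0, 7, 4, 3, 2, 1, 0, 7, 4, 3, 2, 1, 0, 5, 4, 3, 2, 6, 5, 4, 3, 7, 3, 4, 7, 4, 3, 2, 1, 0, 7, 4, 3, 2, 1, 0, 7, 4, 3, 2, 1, 0, 7, 4, 3, 2, 1, 0, 7, 4, 3, 2, 1, 0, 8, 7, 3, 0, 1, 2, 3, 4, 7, 0, 1]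

/-- part of a word -/
def levelsWord4w2p82 : List ℕ := [2, 3, 4, 7, 0, 1, 2, 3, 4, 7, 0, 1, 2, 3, 4, 7, 0, 1, 2, 3, 4, 7, 3, 7, 8, 5, 4, 3, 7, 2, 3, 4, 5, 0, 1, 2, 3, 4, 7, 0, 1, 2, 3, 4, 7, 0, 1, 2, 3, 4, 7, 0, 1, 2, 3, 4, 7, 0, 1, 2, 3, 4, 7, 8, 4, 3, 7, 6, 5, 4, 3, 6, 3, 7, 8, 7, 4, 3, 2, 1, 0, 7, 4, 3, 2, 1, 0, 7, 4, 3, 2, 1, 0, 7, 4, 3, 2, 1, 0, 7]

/-- part of a word -/
def levelsWord4w2p83 : List ℕ := [4, 3, 2, 1, 0, 5, 4, 3, 2, 6, 5, 4, 3, 7, 3, 4, 7, 4, 3, 2, 1, 0, 7, 4, 3, 2, 1, 0, 7, 4, 3, 2, 1, 0, 7, 4, 3, 2, 1, 0, 7, 4, 3, 2, 1, 0, 8, 7, 3, 0, 1, 2, 3, 4, 7, 0, 1, 2, 3, 4, 7, 0, 1, 2, 3, 4, 7, 0, 1, 2, 3, 4, 7, 0, 1, 2, 3, 4, 7, 3, 7, 8, 5, 4, 3, 7, 2, 3, 4, 5, 0, 1, 2, 3, 4, 7, 0, 1, 2, 3]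

/-- part of a word -/
def levelsWord4w2p84 : List ℕ := [4, 7, 0, 1, 2, 3, 4, 7, 0, 1, 2, 3, 4, 7, 0, 1, 2, 3, 4, 7, 8, 4, 3, 7, 6, 5, 4, 7, 8, 7, 4, 3, 2, 1, 0, 7, 4, 3, 2, 1, 0, 7, 4, 3, 2, 1, 0, 7, 4, 3, 2, 1, 0, 7, 4, 3, 2, 1, 0, 5, 4, 3, 2, 6, 5, 4, 3, 7, 3, 4, 7, 4, 3, 2, 1, 0, 7, 4, 3, 2, 1, 0, 7, 4, 3, 2, 1, 0, 7, 4, 3, 2, 1, 0, 7, 4, 3, 2, 1, 0]

/-- part of a word -/
def levelsWord4w2p85 : List ℕ := [8, 7, 3, 0, 1, 2, 3, 4, 7, 0, 1, 2, 3, 4, 7, 0, 1, 2, 3, 4, 7, 0, 1, 2, 3, 4, 7, 0, 1, 2, 3, 4, 7, 3, 7, 8, 5, 4, 3, 7, 2, 3, 4, 5, 0, 1, 2, 3, 4, 7, 0, 1, 2, 3, 4, 7, 0, 1, 2, 3, 4, 7, 0, 1, 2, 3, 4, 7, 0, 1, 2, 3, 4, 7, 8, 4, 3, 7, 6, 5, 4, 7, 8, 7, 4, 3, 2, 1, 0, 7, 4, 3, 2, 1, 0, 7, 4, 3, 2, 1]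

/-- part of a word -/
def levelsWord4w2p86 : List ℕ := [0, 7, 4, 3, 2, 1, 0, 7, 4, 3, 2, 1, 0, 5, 4, 3, 2, 6, 5, 4, 3, 7, 3, 4, 7, 4, 3, 2, 1, 0, 7, 4, 3, 2, 1, 0, 7, 4, 3, 2, 1, 0, 7, 4, 3, 2, 1, 0, 7, 4, 3, 2, 1, 0, 8, 7, 3, 0, 1, 2, 3, 4, 7, 0, 1, 2, 3, 4, 7, 0, 1, 2, 3, 4, 7, 0, 1, 2, 3, 4, 7, 0, 1, 2, 3, 4, 7, 3, 7, 8, 5, 4, 3, 7, 2, 3, 4, 5, 0, 1]

/-- part of a word -/
def levelsWord4w2p87 : List ℕ := [2, 3, 4, 7, 0, 1, 2, 3, 4, 7, 0, 1, 2, 3, 4, 7, 0, 1, 2, 3, 4, 7, 0, 1, 2, 3, 4, 7, 8, 4, 3, 7, 6, 5, 4, 3, 2, 5, 2, 3, 7, 8, 7, 4, 3, 2, 1, 0, 7, 4, 3, 2, 1, 0, 7, 4, 3, 2, 1, 0, 7, 4, 3, 2, 1, 0, 7, 4, 3, 2, 1, 0, 5, 4, 3, 2, 6, 5, 4, 3, 7, 3, 4, 7, 4, 3, 2, 1, 0, 7, 4, 3, 2, 1, 0, 7, 4, 3, 2, 1]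

/-- part of a word -/
def levelsWord4w2p88 : List ℕ := [0, 7, 4, 3, 2, 1, 0, 7, 4, 3, 2, 1, 0, 8, 7, 3, 0, 1, 2, 3, 4, 7, 0, 1, 2, 3, 4, 7, 0, 1, 2, 3, 4, 7, 0, 1, 2, 3, 4, 7, 0, 1, 2, 3, 4, 7, 3, 7, 8, 5, 4, 3, 7, 2, 3, 4, 5, 0, 1, 2, 3, 4, 7, 0, 1, 2, 3, 4, 7, 0, 1, 2, 3, 4, 7, 0, 1, 2, 3, 4, 7, 0, 1, 2, 3, 4, 7, 8, 4, 3, 7, 6, 5, 4, 3, 2, 5, 2, 6, 2]

/-- part of a word -/
def levelsWord4w3p0 : List ℕ := [2, 6, 2, 5, 2, 3, 4, 5, 6, 7, 3, 4, 8, 7, 4, 3, 2, 1, 0, 7, 4, 3, 2, 1, 0, 7, 4, 3, 2, 1, 0, 7, 4, 3, 2, 1, 0, 7, 4, 3, 2, 1, 0, 5, 4, 3, 2, 7, 3, 4, 5, 8, 7, 3, 7, 4, 3, 2, 1, 0, 7, 4, 3, 2, 1, 0, 7, 4, 3, 2, 1, 0, 7, 4, 3, 2, 1, 0, 7, 4, 3, 2, 1, 0, 3, 7, 8, 0, 1, 2, 3, 4, 7, 0, 1, 2, 3, 4, 7, 0]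

/-- part of a word -/
def levelsWord4w3p1 : List ℕ := [1, 2, 3, 4, 7, 0, 1, 2, 3, 4, 7, 0, 1, 2, 3, 4, 7, 4, 3, 7, 3, 4, 5, 6, 2, 3, 4, 5, 0, 1, 2, 3, 4, 7, 0, 1, 2, 3, 4, 7, 0, 1, 2, 3, 4, 7, 0, 1, 2, 3, 4, 7, 0, 1, 2, 3, 4, 7, 8, 7, 3, 2, 0, 7, 4, 3, 2, 1, 0, 7, 4, 3, 2, 1, 0, 7, 4, 3, 2, 1, 0, 7, 4, 3, 2, 1, 0, 7, 4, 3, 2, 1, 5, 2, 3, 4, 5, 6, 7, 3]

/-- part of a word -/
def levelsWord4w3p2 : List ℕ := [4, 8, 7, 4, 3, 2, 1, 0, 7, 4, 3, 2, 1, 0, 7, 4, 3, 2, 1, 0, 7, 4, 3, 2, 1, 0, 7, 4, 3, 2, 1, 0, 5, 4, 3, 2, 7, 3, 4, 5, 8, 7, 3, 7, 4, 3, 2, 1, 0, 7, 4, 3, 2, 1, 0, 7, 4, 3, 2, 1, 0, 7, 4, 3, 2, 1, 0, 7, 4, 3, 2, 1, 0, 3, 7, 8, 0, 1, 2, 3, 4, 7, 0, 1, 2, 3, 4, 7, 0, 1, 2, 3, 4, 7, 0, 1, 2, 3, 4, 7]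

/-- part of a word -/
def levelsWord4w3p3 : List ℕ := [0, 1, 2, 3, 4, 7, 4, 3, 7, 3, 4, 5, 6, 2, 3, 4, 5, 0, 1, 2, 3, 4, 7, 0, 1, 2, 3, 4, 7, 0, 1, 2, 3, 4, 7, 0, 1, 2, 3, 4, 7, 0, 1, 2, 3, 4, 7, 8, 7, 4, 5, 6, 7, 3, 4, 8, 7, 4, 3, 2, 1, 0, 7, 4, 3, 2, 1, 0, 7, 4, 3, 2, 1, 0, 7, 4, 3, 2, 1, 0, 7, 4, 3, 2, 1, 0, 5, 4, 3, 2, 7, 3, 4, 5, 8, 7, 3, 7, 4, 3]

/-- part of a word -/
def levelsWord4w3p4 : List ℕ := [2, 1, 0, 7, 4, 3, 2, 1, 0, 7, 4, 3, 2, 1, 0, 7, 4, 3, 2, 1, 0, 7, 4, 3, 2, 1, 0, 3, 7, 8, 0, 1, 2, 3, 4, 7, 0, 1, 2, 3, 4, 7, 0, 1, 2, 3, 4, 7, 0, 1, 2, 3, 4, 7, 0, 1, 2, 3, 4, 7, 4, 3, 7, 3, 4, 5, 6, 2, 3, 4, 5, 0, 1, 2, 3, 4, 7, 0, 1, 2, 3, 4, 7, 0, 1, 2, 3, 4, 7, 0, 1, 2, 3, 4, 7, 0, 1, 2, 3, 4]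

/-- part of a word -/
def levelsWord4w3p5 : List ℕ := [7, 8, 7, 3, 2, 1, 2, 3, 4, 7, 0, 1, 2, 3, 4, 7, 0, 1, 2, 3, 4, 7, 0, 1, 2, 3, 4, 7, 0, 1, 2, 3, 4, 7, 0, 2, 3, 7, 8, 7, 4, 3, 2, 1, 0, 7, 4, 3, 2, 1, 0, 7, 4, 3, 2, 1, 0, 7, 4, 3, 2, 1, 0, 7, 4, 3, 2, 1, 0, 5, 4, 3, 2, 6, 5, 4, 3, 7, 3, 4, 7, 4, 3, 2, 1, 0, 7, 4, 3, 2, 1, 0, 7, 4, 3, 2, 1, 0, 7, 4]

/-- part of a word -/
def levelsWord4w3p6 : List ℕ := [3, 2, 1, 0, 7, 4, 3, 2, 1, 0, 8, 7, 3, 0, 1, 2, 3, 4, 7, 0, 1, 2, 3, 4, 7, 0, 1, 2, 3, 4, 7, 0, 1, 2, 3, 4, 7, 0, 1, 2, 3, 4, 7, 3, 7, 8, 5, 4, 3, 7, 2, 3, 4, 5, 0, 1, 2, 3, 4, 7, 0, 1, 2, 3, 4, 7, 0, 1, 2, 3, 4, 7, 0, 1, 2, 3, 4, 7, 0, 1, 2, 3, 4, 7, 8, 4, 3, 7, 6, 5, 4, 3, 2, 1, 2, 3, 4, 7, 0, 1]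

/-- part of a word -/
def levelsWord4w3p7 : List ℕ := [2, 3, 4, 7, 0, 1, 2, 3, 4, 7, 0, 1, 2, 3, 4, 7, 0, 1, 2, 3, 4, 7, 0, 2, 3, 4, 5, 6, 7, 3, 4, 8, 7, 4, 3, 2, 1, 0, 7, 4, 3, 2, 1, 0, 7, 4, 3, 2, 1, 0, 7, 4, 3, 2, 1, 0, 7, 4, 3, 2, 1, 0, 5, 4, 3, 2, 7, 3, 4, 5, 8, 7, 3, 7, 4, 3, 2, 1, 0, 7, 4, 3, 2, 1, 0, 7, 4, 3, 2, 1, 0, 7, 4, 3, 2, 1, 0, 7, 4, 3]

/-- part of a word -/
def levelsWord4w3p8 : List ℕ := [2, 1, 0, 3, 7, 8, 0, 1, 2, 3, 4, 7, 0, 1, 2, 3, 4, 7, 0, 1, 2, 3, 4, 7, 0, 1, 2, 3, 4, 7, 0, 1, 2, 3, 4, 7, 4, 3, 7, 3, 4, 5, 6, 2, 3, 4, 5, 0, 1, 2, 3, 4, 7, 0, 1, 2, 3, 4, 7, 0, 1, 2, 3, 4, 7, 0, 1, 2, 3, 4, 7, 0, 1, 2, 3, 4, 7, 8, 7, 3, 2, 5, 2, 3, 4, 5, 6, 7, 3, 4, 8, 7, 4, 3, 2, 1, 0, 7, 4, 3]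

/-- part of a word -/
def levelsWord4w3p9 : List ℕ := [2, 1, 0, 7, 4, 3, 2, 1, 0, 7, 4, 3, 2, 1, 0, 7, 4, 3, 2, 1, 0, 5, 4, 3, 2, 7, 3, 4, 5, 8, 7, 3, 7, 4, 3, 2, 1, 0, 7, 4, 3, 2, 1, 0, 7, 4, 3, 2, 1, 0, 7, 4, 3, 2, 1, 0, 7, 4, 3, 2, 1, 0, 3, 7, 8, 0, 1, 2, 3, 4, 7, 0, 1, 2, 3, 4, 7, 0, 1, 2, 3, 4, 7, 0, 1, 2, 3, 4, 7, 0, 1, 2, 3, 4, 7, 4, 3, 7, 3, 4]

/-- part of a word -/
def levelsWord4w3p10 : List ℕ := [5, 6, 2, 3, 4, 5, 0, 1, 2, 3, 4, 7, 0, 1, 2, 3, 4, 7, 0, 1, 2, 3, 4, 7, 0, 1, 2, 3, 4, 7, 0, 1, 2, 3, 4, 7, 8, 7, 4, 5, 6, 7, 3, 4, 8, 7, 4, 3, 2, 1, 0, 7, 4, 3, 2, 1, 0, 7, 4, 3, 2, 1, 0, 7, 4, 3, 2, 1, 0, 7, 4, 3, 2, 1, 0, 5, 4, 3, 2, 7, 3, 4, 5, 8, 7, 3, 7, 4, 3, 2, 1, 0, 7, 4, 3, 2, 1, 0, 7, 4]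

/-- part of a word -/
def levelsWord4w3p11 : List ℕ := [3, 2, 1, 0, 7, 4, 3, 2, 1, 0, 7, 4, 3, 2, 1, 0, 3, 7, 8, 0, 1, 2, 3, 4, 7, 0, 1, 2, 3, 4, 7, 0, 1, 2, 3, 4, 7, 0, 1, 2, 3, 4, 7, 0, 1, 2, 3, 4, 7, 4, 3, 7, 3, 4, 5, 6, 2, 3, 4, 5, 0, 1, 2, 3, 4, 7, 0, 1, 2, 3, 4, 7, 0, 1, 2, 3, 4, 7, 0, 1, 2, 3, 4, 7, 0, 1, 2, 3, 4, 7, 8, 7, 4, 5, 6, 7, 3, 4, 8, 7]

/-- part of a word -/
def levelsWord4w3p12 : List ℕ := [4, 3, 2, 1, 0, 7, 4, 3, 2, 1, 0, 7, 4, 3, 2, 1, 0, 7, 4, 3, 2, 1, 0, 7, 4, 3, 2, 1, 0, 5, 4, 3, 2, 7, 3, 4, 5, 8, 7, 3, 7, 4, 3, 2, 1, 0, 7, 4, 3, 2, 1, 0, 7, 4, 3, 2, 1, 0, 7, 4, 3, 2, 1, 0, 7, 4, 3, 2, 1, 0, 3, 7, 8, 0, 1, 2, 3, 4, 7, 0, 1, 2, 3, 4, 7, 0, 1, 2, 3, 4, 7, 0, 1, 2, 3, 4, 7, 0, 1, 2]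

/-- part of a word -/
def levelsWord4w3p13 : List ℕ := [3, 4, 7, 4, 3, 7, 3, 4, 5, 6, 2, 3, 4, 5, 0, 1, 2, 3, 4, 7, 0, 1, 2, 3, 4, 7, 0, 1, 2, 3, 4, 7, 0, 1, 2, 3, 4, 7, 0, 1, 2, 3, 4, 7, 8, 7, 3, 6, 3, 4, 5, 6, 7, 3, 4, 8, 7, 4, 3, 2, 1, 0, 7, 4, 3, 2, 1, 0, 7, 4, 3, 2, 1, 0, 7, 4, 3, 2, 1, 0, 7, 4, 3, 2, 1, 0, 5, 4, 3, 2, 7, 3, 4, 5, 8, 7, 3, 7, 4, 3]

/-- part of a word -/
def levelsWord4w3p14 : List ℕ := [2, 1, 0, 7, 4, 3, 2, 1, 0, 7, 4, 3, 2, 1, 0, 7, 4, 3, 2, 1, 0, 7, 4, 3, 2, 1, 0, 3, 7, 8, 0, 1, 2, 3, 4, 7, 0, 1, 2, 3, 4, 7, 0, 1, 2, 3, 4, 7, 0, 1, 2, 3, 4, 7, 0, 1, 2, 3, 4, 7, 4, 3, 7, 3, 4, 5, 6, 2, 3, 4, 5, 0, 1, 2, 3, 4, 7, 0, 1, 2, 3, 4, 7, 0, 1, 2, 3, 4, 7, 0, 1, 2, 3, 4, 7, 0, 1, 2, 3, 4]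

/-- part of a word -/
def levelsWord4w3p15 : List ℕ := [7, 8, 7, 3, 2, 5, 2, 6, 2, 5, 2, 3, 7, 8, 7, 4, 3, 2, 1, 0, 7, 4, 3, 2, 1, 0, 7, 4, 3, 2, 1, 0, 7, 4, 3, 2, 1, 0, 7, 4, 3, 2, 1, 0, 5, 4, 3, 2, 6, 5, 4, 3, 7, 3, 4, 7, 4, 3, 2, 1, 0, 7, 4, 3, 2, 1, 0, 7, 4, 3, 2, 1, 0, 7, 4, 3, 2, 1, 0, 7, 4, 3, 2, 1, 0, 8, 7, 3, 0, 1, 2, 3, 4, 7, 0, 1, 2, 3, 4, 7]

/-- part of a word -/
def levelsWord4w3p16 : List ℕ := [0, 1, 2, 3, 4, 7, 0, 1, 2, 3, 4, 7, 0, 1, 2, 3, 4, 7, 3, 7, 8, 5, 4, 3, 7, 2, 3, 4, 5, 0, 1, 2, 3, 4, 7, 0, 1, 2, 3, 4, 7, 0, 1, 2, 3, 4, 7, 0, 1, 2, 3, 4, 7, 0, 1, 2, 3, 4, 7, 8, 4, 3, 7, 6, 5, 4, 7, 8, 7, 4, 3, 2, 1, 0, 7, 4, 3, 2, 1, 0, 7, 4, 3, 2, 1, 0, 7, 4, 3, 2, 1, 0, 7, 4, 3, 2, 1, 0, 5, 4]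

/-- part of a word -/
def levelsWord4w3p17 : List ℕ := [3, 2, 6, 5, 4, 3, 7, 3, 4, 7, 4, 3, 2, 1, 0, 7, 4, 3, 2, 1, 0, 7, 4, 3, 2, 1, 0, 7, 4, 3, 2, 1, 0, 7, 4, 3, 2, 1, 0, 8, 7, 3, 0, 1, 2, 3, 4, 7, 0, 1, 2, 3, 4, 7, 0, 1, 2, 3, 4, 7, 0, 1, 2, 3, 4, 7, 0, 1, 2, 3, 4, 7, 3, 7, 8, 5, 4, 3, 7, 2, 3, 4, 5, 0, 1, 2, 3, 4, 7, 0, 1, 2, 3, 4, 7, 0, 1, 2, 3, 4]

/-- part of a word -/
def levelsWord4w3p18 : List ℕ := [7, 0, 1, 2, 3, 4, 7, 0, 1, 2, 3, 4, 7, 8, 4, 3, 7, 6, 5, 4, 3, 2, 1, 2, 3, 4, 7, 0, 1, 2, 3, 4, 7, 0, 1, 2, 3, 4, 7, 0, 1, 2, 3, 4, 7, 0, 1, 2, 3, 4, 7, 0, 2, 3, 7, 8, 7, 4, 3, 2, 1, 0, 7, 4, 3, 2, 1, 0, 7, 4, 3, 2, 1, 0, 7, 4, 3, 2, 1, 0, 7, 4, 3, 2, 1, 0, 5, 4, 3, 2, 6, 5, 4, 3, 7, 3, 4, 7, 4, 3]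

/-- part of a word -/
def levelsWord4w3p19 : List ℕ := [2, 1, 0, 7, 4, 3, 2, 1, 0, 7, 4, 3, 2, 1, 0, 7, 4, 3, 2, 1, 0, 7, 4, 3, 2, 1, 0, 8, 7, 3, 0, 1, 2, 3, 4, 7, 0, 1, 2, 3, 4, 7, 0, 1, 2, 3, 4, 7, 0, 1, 2, 3, 4, 7, 0, 1, 2, 3, 4, 7, 3, 7, 8, 5, 4, 3, 7, 2, 3, 4, 5, 0, 1, 2, 3, 4, 7, 0, 1, 2, 3, 4, 7, 0, 1, 2, 3, 4, 7, 0, 1, 2, 3, 4, 7, 0, 1, 2, 3, 4]

/-- part of a word -/
def levelsWord4w3p20 : List ℕ := [7, 8, 4, 3, 7, 6, 5, 4, 3, 2, 1, 2, 3, 4, 7, 0, 1, 2, 3, 4, 7, 0, 1, 2, 3, 4, 7, 0, 1, 2, 3, 4, 7, 0, 1, 2, 3, 4, 7, 0, 2, 3, 4, 5, 6, 7, 3, 4, 8, 7, 4, 3, 2, 1, 0, 7, 4, 3, 2, 1, 0, 7, 4, 3, 2, 1, 0, 7, 4, 3, 2, 1, 0, 7, 4, 3, 2, 1, 0, 5, 4, 3, 2, 7, 3, 4, 5, 8, 7, 3, 7, 4, 3, 2, 1, 0, 7, 4, 3, 2]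

/-- part of a word -/
def levelsWord4w3p21 : List ℕ := [1, 0, 7, 4, 3, 2, 1, 0, 7, 4, 3, 2, 1, 0, 7, 4, 3, 2, 1, 0, 3, 7, 8, 0, 1, 2, 3, 4, 7, 0, 1, 2, 3, 4, 7, 0, 1, 2, 3, 4, 7, 0, 1, 2, 3, 4, 7, 0, 1, 2, 3, 4, 7, 4, 3, 7, 3, 4, 5, 6, 2, 3, 4, 5, 0, 1, 2, 3, 4, 7, 0, 1, 2, 3, 4, 7, 0, 1, 2, 3, 4, 7, 0, 1, 2, 3, 4, 7, 0, 1, 2, 3, 4, 7, 8, 7, 3, 2, 5, 2]

/-- part of a word -/
def levelsWord4w3p22 : List ℕ := [6, 3, 4, 5, 6, 7, 3, 4, 8, 7, 4, 3, 2, 1, 0, 7, 4, 3, 2, 1, 0, 7, 4, 3, 2, 1, 0, 7, 4, 3, 2, 1, 0, 7, 4, 3, 2, 1, 0, 5, 4, 3, 2, 7, 3, 4, 5, 8, 7, 3, 7, 4, 3, 2, 1, 0, 7, 4, 3, 2, 1, 0, 7, 4, 3, 2, 1, 0, 7, 4, 3, 2, 1, 0, 7, 4, 3, 2, 1, 0, 3, 7, 8, 0, 1, 2, 3, 4, 7, 0, 1, 2, 3, 4, 7, 0, 1, 2, 3, 4]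

/-- part of a word -/
def levelsWord4w3p23 : List ℕ := [7, 0, 1, 2, 3, 4, 7, 0, 1, 2, 3, 4, 7, 4, 3, 7, 3, 4, 5, 6, 2, 3, 4, 5, 0, 1, 2, 3, 4, 7, 0, 1, 2, 3, 4, 7, 0, 1, 2, 3, 4, 7, 0, 1, 2, 3, 4, 7, 0, 1, 2, 3, 4, 7, 8, 7, 4, 5, 6, 7, 3, 4, 8, 7, 4, 3, 2, 1, 0, 7, 4, 3, 2, 1, 0, 7, 4, 3, 2, 1, 0, 7, 4, 3, 2, 1, 0, 7, 4, 3, 2, 1, 0, 5, 4, 3, 2, 7, 3, 4]

/-- part of a word -/
def levelsWord4w3p24 : List ℕ := [5, 8, 7, 3, 7, 4, 3, 2, 1, 0, 7, 4, 3, 2, 1, 0, 7, 4, 3, 2, 1, 0, 7, 4, 3, 2, 1, 0, 7, 4, 3, 2, 1, 0, 3, 7, 8, 0, 1, 2, 3, 4, 7, 0, 1, 2, 3, 4, 7, 0, 1, 2, 3, 4, 7, 0, 1, 2, 3, 4, 7, 0, 1, 2, 3, 4, 7, 4, 3, 7, 3, 4, 5, 6, 2, 3, 4, 5, 0, 1, 2, 3, 4, 7, 0, 1, 2, 3, 4, 7, 0, 1, 2, 3, 4, 7, 0, 1, 2, 3]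

/-- part of a word -/
def levelsWord4w3p25 : List ℕ := [4, 7, 0, 1, 2, 3, 4, 7, 8, 7, 3, 2, 5, 2, 6, 2, 5, 2, 6, 3, 7, 8, 7, 4, 3, 2, 1, 0, 7, 4, 3, 2, 1, 0, 7, 4, 3, 2, 1, 0, 7, 4, 3, 2, 1, 0, 7, 4, 3, 2, 1, 0, 5, 4, 3, 2, 6, 5, 4, 3, 7, 3, 4, 7, 4, 3, 2, 1, 0, 7, 4, 3, 2, 1, 0, 7, 4, 3, 2, 1, 0, 7, 4, 3, 2, 1, 0, 7, 4, 3, 2, 1, 0, 8, 7, 3, 0, 1, 2, 3]

/-- part of a word -/
def levelsWord4w3p26 : List ℕ := [4, 7, 0, 1, 2, 3, 4, 7, 0, 1, 2, 3, 4, 7, 0, 1, 2, 3, 4, 7, 0, 1, 2, 3, 4, 7, 3, 7, 8, 5, 4, 3, 7, 2, 3, 4, 5, 0, 1, 2, 3, 4, 7, 0, 1, 2, 3, 4, 7, 0, 1, 2, 3, 4, 7, 0, 1, 2, 3, 4, 7, 0, 1, 2, 3, 4, 7, 8, 4, 3, 7, 6, 5, 4, 7, 8, 7, 4, 3, 2, 1, 0, 7, 4, 3, 2, 1, 0, 7, 4, 3, 2, 1, 0, 7, 4, 3, 2, 1, 0]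

/-- part of a word -/
def levelsWord4w3p27 : List ℕ := [7, 4, 3, 2, 1, 0, 5, 4, 3, 2, 6, 5, 4, 3, 7, 3, 4, 7, 4, 3, 2, 1, 0, 7, 4, 3, 2, 1, 0, 7, 4, 3, 2, 1, 0, 7, 4, 3, 2, 1, 0, 7, 4, 3, 2, 1, 0, 8, 7, 3, 0, 1, 2, 3, 4, 7, 0, 1, 2, 3, 4, 7, 0, 1, 2, 3, 4, 7, 0, 1, 2, 3, 4, 7, 0, 1, 2, 3, 4, 7, 3, 7, 8, 5, 4, 3, 7, 2, 3, 4, 5, 0, 1, 2, 3, 4, 7, 0, 1, 2]

/-- part of a word -/
def levelsWord4w3p28 : List ℕ := [3, 4, 7, 0, 1, 2, 3, 4, 7, 0, 1, 2, 3, 4, 7, 0, 1, 2, 3, 4, 7, 8, 4, 3, 7, 6, 5, 4, 3, 6, 3, 7, 8, 7, 4, 3, 2, 1, 0, 7, 4, 3, 2, 1, 0, 7, 4, 3, 2, 1, 0, 7, 4, 3, 2, 1, 0, 7, 4, 3, 2, 1, 0, 5, 4, 3, 2, 6, 5, 4, 3, 7, 3, 4, 7, 4, 3, 2, 1, 0, 7, 4, 3, 2, 1, 0, 7, 4, 3, 2, 1, 0, 7, 4, 3, 2, 1, 0, 7, 4]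

/-- part of a word -/
def levelsWord4w3p29 : List ℕ := [3, 2, 1, 0, 8, 7, 3, 0, 1, 2, 3, 4, 7, 0, 1, 2, 3, 4, 7, 0, 1, 2, 3, 4, 7, 0, 1, 2, 3, 4, 7, 0, 1, 2, 3, 4, 7, 3, 7, 8, 5, 4, 3, 7, 2, 3, 4, 5, 0, 1, 2, 3, 4, 7, 0, 1, 2, 3, 4, 7, 0, 1, 2, 3, 4, 7, 0, 1, 2, 3, 4, 7, 0, 1, 2, 3, 4, 7, 8, 4, 3, 7, 6, 5, 4, 7, 8, 7, 4, 3, 2, 1, 0, 7, 4, 3, 2, 1, 0, 7]

/-- part of a word -/
def levelsWord4w3p30 : List ℕ := [4, 3, 2, 1, 0, 7, 4, 3, 2, 1, 0, 7, 4, 3, 2, 1, 0, 5, 4, 3, 2, 6, 5, 4, 3, 7, 3, 4, 7, 4, 3, 2, 1, 0, 7, 4, 3, 2, 1, 0, 7, 4, 3, 2, 1, 0, 7, 4, 3, 2, 1, 0, 7, 4, 3, 2, 1, 0, 8, 7, 3, 0, 1, 2, 3, 4, 7, 0, 1, 2, 3, 4, 7, 0, 1, 2, 3, 4, 7, 0, 1, 2, 3, 4, 7, 0, 1, 2, 3, 4, 7, 3, 7, 8, 5, 4, 3, 7, 2, 3]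

/-- part of a word -/
def levelsWord4w3p31 : List ℕ := [4, 5, 0, 1, 2, 3, 4, 7, 0, 1, 2, 3, 4, 7, 0, 1, 2, 3, 4, 7, 0, 1, 2, 3, 4, 7, 0, 1, 2, 3, 4, 7, 8, 4, 3, 7, 6, 5, 4, 3, 2, 5, 2, 6, 2, 5, 2, 6, 2, 5, 0, 7, 4, 3, 2, 1, 0, 7, 4, 3, 2, 1, 0, 7, 4, 3, 2, 1, 0, 7, 4, 3, 2, 1, 0, 7, 4, 3, 2, 1, 2, 3, 4, 5, 6, 7, 3, 4, 8, 7, 4, 3, 2, 1, 0, 7, 4, 3, 2, 1]

/-- part of a word -/
def levelsWord4w3p32 : List ℕ := [0, 7, 4, 3, 2, 1, 0, 7, 4, 3, 2, 1, 0, 7, 4, 3, 2, 1, 0, 5, 4, 3, 2, 7, 3, 4, 5, 8, 7, 3, 7, 4, 3, 2, 1, 0, 7, 4, 3, 2, 1, 0, 7, 4, 3, 2, 1, 0, 7, 4, 3, 2, 1, 0, 7, 4, 3, 2, 1, 0, 3, 7, 8, 0, 1, 2, 3, 4, 7, 0, 1, 2, 3, 4, 7, 0, 1, 2, 3, 4, 7, 0, 1, 2, 3, 4, 7, 0, 1, 2, 3, 4, 7, 4, 3, 7, 3, 4, 5, 6]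

/-- part of a word -/
def levelsWord4w3p33 : List ℕ := [2, 3, 4, 5, 0, 1, 2, 3, 4, 7, 0, 1, 2, 3, 4, 7, 0, 1, 2, 3, 4, 7, 0, 1, 2, 3, 4, 7, 0, 1, 2, 3, 4, 7, 8, 7, 3, 2, 0, 7, 4, 3, 2, 1, 0, 7, 4, 3, 2, 1, 0, 7, 4, 3, 2, 1, 0, 7, 4, 3, 2, 1, 0, 7, 4, 3, 2, 1, 2, 3, 7, 8, 7, 4, 3, 2, 1, 0, 7, 4, 3, 2, 1, 0, 7, 4, 3, 2, 1, 0, 7, 4, 3, 2, 1, 0, 7, 4, 3, 2]

/-- part of a word -/
def levelsWord4w3p34 : List ℕ := [1, 0, 5, 4, 3, 2, 6, 5, 4, 3, 7, 3, 4, 7, 4, 3, 2, 1, 0, 7, 4, 3, 2, 1, 0, 7, 4, 3, 2, 1, 0, 7, 4, 3, 2, 1, 0, 7, 4, 3, 2, 1, 0, 8, 7, 3, 0, 1, 2, 3, 4, 7, 0, 1, 2, 3, 4, 7, 0, 1, 2, 3, 4, 7, 0, 1, 2, 3, 4, 7, 0, 1, 2, 3, 4, 7, 3, 7, 8, 5, 4, 3, 7, 2, 3, 4, 5, 0, 1, 2, 3, 4, 7, 0, 1, 2, 3, 4, 7, 0]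

/-- part of a word -/
def levelsWord4w3p35 : List ℕ := [1, 2, 3, 4, 7, 0, 1, 2, 3, 4, 7, 0, 1, 2, 3, 4, 7, 8, 4, 3, 7, 6, 5, 4, 7, 8, 7, 4, 3, 2, 1, 0, 7, 4, 3, 2, 1, 0, 7, 4, 3, 2, 1, 0, 7, 4, 3, 2, 1, 0, 7, 4, 3, 2, 1, 0, 5, 4, 3, 2, 6, 5, 4, 3, 7, 3, 4, 7, 4, 3, 2, 1, 0, 7, 4, 3, 2, 1, 0, 7, 4, 3, 2, 1, 0, 7, 4, 3, 2, 1, 0, 7, 4, 3, 2, 1, 0, 8, 7, 3]

/-- part of a word -/
def levelsWord4w3p36 : List ℕ := [0, 1, 2, 3, 4, 7, 0, 1, 2, 3, 4, 7, 0, 1, 2, 3, 4, 7, 0, 1, 2, 3, 4, 7, 0, 1, 2, 3, 4, 7, 3, 7, 8, 5, 4, 3, 7, 2, 3, 4, 5, 0, 1, 2, 3, 4, 7, 0, 1, 2, 3, 4, 7, 0, 1, 2, 3, 4, 7, 0, 1, 2, 3, 4, 7, 0, 1, 2, 3, 4, 7, 8, 4, 3, 7, 6, 5, 4, 3, 2, 5, 1, 2, 3, 4, 7, 0, 1, 2, 3, 4, 7, 0, 1, 2, 3, 4, 7, 0, 1]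

/-- part of a word -/
def levelsWord4w3p37 : List ℕ := [2, 3, 4, 7, 0, 1, 2, 3, 4, 7, 0, 2, 3, 7, 8, 7, 4, 3, 2, 1, 0, 7, 4, 3, 2, 1, 0, 7, 4, 3, 2, 1, 0, 7, 4, 3, 2, 1, 0, 7, 4, 3, 2, 1, 0, 5, 4, 3, 2, 6, 5, 4, 3, 7, 3, 4, 7, 4, 3, 2, 1, 0, 7, 4, 3, 2, 1, 0, 7, 4, 3, 2, 1, 0, 7, 4, 3, 2, 1, 0, 7, 4, 3, 2, 1, 0, 8, 7, 3, 0, 1, 2, 3, 4, 7, 0, 1, 2, 3, 4]

/-- part of a word -/
def levelsWord4w3p38 : List ℕ := [7, 0, 1, 2, 3, 4, 7, 0, 1, 2, 3, 4, 7, 0, 1, 2, 3, 4, 7, 3, 7, 8, 5, 4, 3, 7, 2, 3, 4, 5, 0, 1, 2, 3, 4, 7, 0, 1, 2, 3, 4, 7, 0, 1, 2, 3, 4, 7, 0, 1, 2, 3, 4, 7, 0, 1, 2, 3, 4, 7, 8, 4, 3, 7, 6, 5, 4, 3, 2, 5, 2, 6, 2, 5, 2, 6, 2, 5, 0, 7, 4, 3, 2, 1, 0, 7, 4, 3, 2, 1, 0, 7, 4, 3, 2, 1, 0, 7, 4, 3]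

/-- part of a word -/
def levelsWord4w3p39 : List ℕ := [2, 1, 0, 7, 4, 3, 2, 1, 2, 3, 4, 5, 6, 7, 3, 4, 8, 7, 4, 3, 2, 1, 0, 7, 4, 3, 2, 1, 0, 7, 4, 3, 2, 1, 0, 7, 4, 3, 2, 1, 0, 7, 4, 3, 2, 1, 0, 5, 4, 3, 2, 7, 3, 4, 5, 8, 7, 3, 7, 4, 3, 2, 1, 0, 7, 4, 3, 2, 1, 0, 7, 4, 3, 2, 1, 0, 7, 4, 3, 2, 1, 0, 7, 4, 3, 2, 1, 0, 3, 7, 8, 0, 1, 2, 3, 4, 7, 0, 1, 2]

/-- part of a word -/
def levelsWord4w3p40 : List ℕ := [3, 4, 7, 0, 1, 2, 3, 4, 7, 0, 1, 2, 3, 4, 7, 0, 1, 2, 3, 4, 7, 4, 3, 7, 3, 4, 5, 6, 2, 3, 4, 5, 0, 1, 2, 3, 4, 7, 0, 1, 2, 3, 4, 7, 0, 1, 2, 3, 4, 7, 0, 1, 2, 3, 4, 7, 0, 1, 2, 3, 4, 7, 8, 7, 3, 2, 0, 7, 4, 3, 2, 1, 0, 7, 4, 3, 2, 1, 0, 7, 4, 3, 2, 1, 0, 7, 4, 3, 2, 1, 0, 7, 4, 3, 2, 1, 2, 3, 7, 8]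

/-- part of a word -/
def levelsWord4w3p41 : List ℕ := [7, 4, 3, 2, 1, 0, 7, 4, 3, 2, 1, 0, 7, 4, 3, 2, 1, 0, 7, 4, 3, 2, 1, 0, 7, 4, 3, 2, 1, 0, 5, 4, 3, 2, 6, 5, 4, 3, 7, 3, 4, 7, 4, 3, 2, 1, 0, 7, 4, 3, 2, 1, 0, 7, 4, 3, 2, 1, 0, 7, 4, 3, 2, 1, 0, 7, 4, 3, 2, 1, 0, 8, 7, 3, 0, 1, 2, 3, 4, 7, 0, 1, 2, 3, 4, 7, 0, 1, 2, 3, 4, 7, 0, 1, 2, 3, 4, 7, 0, 1]

/-- part of a word -/
def levelsWord4w3p42 : List ℕ := [2, 3, 4, 7, 3, 7, 8, 5, 4, 3, 7, 2, 3, 4, 5, 0, 1, 2, 3, 4, 7, 0, 1, 2, 3, 4, 7, 0, 1, 2, 3, 4, 7, 0, 1, 2, 3, 4, 7, 0, 1, 2, 3, 4, 7, 8, 4, 3, 7, 6, 5, 4, 7, 8, 7, 4, 3, 2, 1, 0, 7, 4, 3, 2, 1, 0, 7, 4, 3, 2, 1, 0, 7, 4, 3, 2, 1, 0, 7, 4, 3, 2, 1, 0, 5, 4, 3, 2, 6, 5, 4, 3, 7, 3, 4, 7, 4, 3, 2, 1]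

/-- part of a word -/
def levelsWord4w3p43 : List ℕ := [0, 7, 4, 3, 2, 1, 0, 7, 4, 3, 2, 1, 0, 7, 4, 3, 2, 1, 0, 7, 4, 3, 2, 1, 0, 8, 7, 3, 0, 1, 2, 3, 4, 7, 0, 1, 2, 3, 4, 7, 0, 1, 2, 3, 4, 7, 0, 1, 2, 3, 4, 7, 0, 1, 2, 3, 4, 7, 3, 7, 8, 5, 4, 3, 7, 2, 3, 4, 5, 0, 1, 2, 3, 4, 7, 0, 1, 2, 3, 4, 7, 0, 1, 2, 3, 4, 7, 0, 1, 2, 3, 4, 7, 0, 1, 2, 3, 4, 7, 8]

/-- part of a word -/
def levelsWord4w3p44 : List ℕ := [4, 3, 7, 6, 5, 4, 3, 2, 5, 1, 2, 3, 4, 7, 0, 1, 2, 3, 4, 7, 0, 1, 2, 3, 4, 7, 0, 1, 2, 3, 4, 7, 0, 1, 2, 3, 4, 7, 0, 2, 3, 7, 8, 7, 4, 3, 2, 1, 0, 7, 4, 3, 2, 1, 0, 7, 4, 3, 2, 1, 0, 7, 4, 3, 2, 1, 0, 7, 4, 3, 2, 1, 0, 5, 4, 3, 2, 6, 5, 4, 3, 7, 3, 4, 7, 4, 3, 2, 1, 0, 7, 4, 3, 2, 1, 0, 7, 4, 3, 2]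

/-- part of a word -/
def levelsWord4w3p45 : List ℕ := [1, 0, 7, 4, 3, 2, 1, 0, 7, 4, 3, 2, 1, 0, 8, 7, 3, 0, 1, 2, 3, 4, 7, 0, 1, 2, 3, 4, 7, 0, 1, 2, 3, 4, 7, 0, 1, 2, 3, 4, 7, 0, 1, 2, 3, 4, 7, 3, 7, 8, 5, 4, 3, 7, 2, 3, 4, 5, 0, 1, 2, 3, 4, 7, 0, 1, 2, 3, 4, 7, 0, 1, 2, 3, 4, 7, 0, 1, 2, 3, 4, 7, 0, 1, 2, 3, 4, 7, 8, 4, 3, 7, 6, 5, 4, 3, 2, 5, 2, 6]

/-- part of a word -/
def levelsWord4w3p46 : List ℕ := [2, 5, 2, 6, 2, 5, 0, 7, 4, 3, 2, 1, 0, 7, 4, 3, 2, 1, 0, 7, 4, 3, 2, 1, 0, 7, 4, 3, 2, 1, 0, 7, 4, 3, 2, 1, 2, 3, 4, 5, 6, 7, 3, 4, 8, 7, 4, 3, 2, 1, 0, 7, 4, 3, 2, 1, 0, 7, 4, 3, 2, 1, 0, 7, 4, 3, 2, 1, 0, 7, 4, 3, 2, 1, 0, 5, 4, 3, 2, 7, 3, 4, 5, 8, 7, 3, 7, 4, 3, 2, 1, 0, 7, 4, 3, 2, 1, 0, 7, 4]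

/-- part of a word -/
def levelsWord4w3p47 : List ℕ := [3, 2, 1, 0, 7, 4, 3, 2, 1, 0, 7, 4, 3, 2, 1, 0, 3, 7, 8, 0, 1, 2, 3, 4, 7, 0, 1, 2, 3, 4, 7, 0, 1, 2, 3, 4, 7, 0, 1, 2, 3, 4, 7, 0, 1, 2, 3, 4, 7, 4, 3, 7, 3, 4, 5, 6, 2, 3, 4, 5, 0, 1, 2, 3, 4, 7, 0, 1, 2, 3, 4, 7, 0, 1, 2, 3, 4, 7, 0, 1, 2, 3, 4, 7, 0, 1, 2, 3, 4, 7, 8, 7, 3, 2, 0, 7, 4, 3, 2, 1]

/-- part of a word -/
def levelsWord4w3p48 : List ℕ := [0, 7, 4, 3, 2, 1, 0, 7, 4, 3, 2, 1, 0, 7, 4, 3, 2, 1, 0, 7, 4, 3, 2, 1, 2, 3, 7, 8, 7, 4, 3, 2, 1, 0, 7, 4, 3, 2, 1, 0, 7, 4, 3, 2, 1, 0, 7, 4, 3, 2, 1, 0, 7, 4, 3, 2, 1, 0, 5, 4, 3, 2, 6, 5, 4, 3, 7, 3, 4, 7, 4, 3, 2, 1, 0, 7, 4, 3, 2, 1, 0, 7, 4, 3, 2, 1, 0, 7, 4, 3, 2, 1, 0, 7, 4, 3, 2, 1, 0, 8]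

/-- part of a word -/
def levelsWord4w3p49 : List ℕ := [7, 3, 0, 1, 2, 3, 4, 7, 0, 1, 2, 3, 4, 7, 0, 1, 2, 3, 4, 7, 0, 1, 2, 3, 4, 7, 0, 1, 2, 3, 4, 7, 3, 7, 8, 5, 4, 3, 7, 2, 3, 4, 5, 0, 1, 2, 3, 4, 7, 0, 1, 2, 3, 4, 7, 0, 1, 2, 3, 4, 7, 0, 1, 2, 3, 4, 7, 0, 1, 2, 3, 4, 7, 8, 4, 3, 7, 6, 5, 4, 7, 8, 7, 4, 3, 2, 1, 0, 7, 4, 3, 2, 1, 0, 7, 4, 3, 2, 1, 0]

/-- part of a word -/
def levelsWord4w3p50 : List ℕ := [7, 4, 3, 2, 1, 0, 7, 4, 3, 2, 1, 0, 5, 4, 3, 2, 6, 5, 4, 3, 7, 3, 4, 7, 4, 3, 2, 1, 0, 7, 4, 3, 2, 1, 0, 7, 4, 3, 2, 1, 0, 7, 4, 3, 2, 1, 0, 7, 4, 3, 2, 1, 0, 8, 7, 3, 0, 1, 2, 3, 4, 7, 0, 1, 2, 3, 4, 7, 0, 1, 2, 3, 4, 7, 0, 1, 2, 3, 4, 7, 0, 1, 2, 3, 4, 7, 3, 7, 8, 5, 4, 3, 7, 2, 3, 4, 5, 0, 1, 2]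

/-- part of a word -/
def levelsWord4w3p51 : List ℕ := [3, 4, 7, 0, 1, 2, 3, 4, 7, 0, 1, 2, 3, 4, 7, 0, 1, 2, 3, 4, 7, 0, 1, 2, 3, 4, 7, 8, 4, 3, 7, 6, 5, 4, 3, 2, 5, 1, 2, 3, 4, 7, 0, 1, 2, 3, 4, 7, 0, 1, 2, 3, 4, 7, 0, 1, 2, 3, 4, 7, 0, 1, 2, 3, 4, 7, 0, 2, 3, 7, 8, 7, 4, 3, 2, 1, 0, 7, 4, 3, 2, 1, 0, 7, 4, 3, 2, 1, 0, 7, 4, 3, 2, 1, 0, 7, 4, 3, 2, 1]

/-- part of a word -/
def levelsWord4w3p52 : List ℕ := [0, 5, 4, 3, 2, 6, 5, 4, 3, 7, 3, 4, 7, 4, 3, 2, 1, 0, 7, 4, 3, 2, 1, 0, 7, 4, 3, 2, 1, 0, 7, 4, 3, 2, 1, 0, 7, 4, 3, 2, 1, 0, 8, 7, 3, 0, 1, 2, 3, 4, 7, 0, 1, 2, 3, 4, 7, 0, 1, 2, 3, 4, 7, 0, 1, 2, 3, 4, 7, 0, 1, 2, 3, 4, 7, 3, 7, 8, 5, 4, 3, 7, 2, 3, 4, 5, 0, 1, 2, 3, 4, 7, 0, 1, 2, 3, 4, 7, 0, 1]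

/-- part of a word -/
def levelsWord4w3p53 : List ℕ := [2, 3, 4, 7, 0, 1, 2, 3, 4, 7, 0, 1, 2, 3, 4, 7, 8, 4, 3, 7, 6, 5, 4, 3, 2, 5, 2, 6, 2]


/-- level 4 -/
def levelsLevel4 : Level := ⟨4, [[5],
    ([levelsWord4w1p0, levelsWord4w1p1, levelsWord4w1p2, levelsWord4w1p3, levelsWord4w1p4, levelsWord4w1p5, levelsWord4w1p6, levelsWord4w1p7, levelsWord4w1p8, levelsWord4w1p9, levelsWord4w1p10, levelsWord4w1p11, levelsWord4w1p12, levelsWord4w1p13, levelsWord4w1p14, levelsWord4w1p15, levelsWord4w1p16, levelsWord4w1p17, levelsWord4w1p18, levelsWord4w1p19, levelsWord4w1p20, levelsWord4w1p21, levelsWord4w1p22, levelsWord4w1p23, levelsWord4w1p24, levelsWord4w1p25, levelsWord4w1p26, levelsWord4w1p27, levelsWord4w1p28, levelsWord4w1p29, levelsWord4w1p30, levelsWord4w1p31, levelsWord4w1p32, levelsWord4w1p33,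 levelsWord4w1p34, levelsWord4w1p35, levelsWord4w1p36, levelsWord4w1p37, levelsWord4w1p38, levelsWord4w1p39, levelsWord4w1p40, levelsWord4w1p41, levelsWord4w1p42, levelsWord4w1p43, levelsWord4w1p44, levelsWord4w1p45, levelsWord4w1p46].flatten),
    ([levelsWord4w2p0, levelsWord4w2p1, levelsWord4w2p2, levelsWord4w2p3, levelsWord4w2p4, levelsWord4w2p5, levelsWord4w2p6, levelsWord4w2p7, levelsWord4w2p8, levelsWord4w2p9, levelsWord4w2p10, levelsWord4w2p11, levelsWord4w2p12, levelsWord4w2p13, levelsWord4w2p14, levelsWord4w2p15, levelsWord4w2p16, levelsWord4w2p17, levelsWord4w2p18, levelsWord4w2p19, levelsWord4w2p20, levelsWord4w2p21, levelsWord4w2p22, levelsWord4w2p23, levelsWord4w2p24, levelsWord4w2p25, levelsWord4w2p26, levelsWord4w2p27, levelsWord4w2p28, levelsWord4w2p29, levelsWord4w2p30, levelsWord4w2p31,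 levelsWord4w2p32, levelsWord4w2p33, levelsWord4w2p34, levelsWord4w2p35, levelsWord4w2p36, levelsWord4w2p37, levelsWord4w2p38, levelsWord4w2p39, levelsWord4w2p40, levelsWord4w2p41, levelsWord4w2p42, levelsWord4w2p43, levelsWord4w2p44, levelsWord4w2p45, levelsWord4w2p46, levelsWord4w2p47, levelsWord4w2p48, levelsWord4w2p49].flatten ++ [levelsWord4w2p50, levelsWord4w2p51, levelsWord4w2p52, levelsWord4w2p53, levelsWord4w2p54, levelsWord4w2p55, levelsWord4w2p56, levelsWord4w2p57, levelsWord4w2p58, levelsWord4w2p59, levelsWord4w2p60, levelsWord4w2p61, levelsWord4w2p62, levelsWord4w2p63, levelsWord4w2p64, levelsWord4w2p65, levelsWord4w2p66, levelsWord4w2p67, levelsWord4w2p68, levelsWord4w2p69, levelsWord4w2p70, levelsWord4w2p71, levelsWord4w2p72, levelsWord4w2p73, levelsWord4w2p74, levelsWord4w2p75,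 levelsWord4w2p76, levelsWord4w2p77, levelsWord4w2p78, levelsWord4w2p79, levelsWord4w2p80, levelsWord4w2p81, levelsWord4w2p82, levelsWord4w2p83, levelsWord4w2p84, levelsWord4w2p85, levelsWord4w2p86, levelsWord4w2p87, levelsWord4w2p88].flatten),
    ([levelsWord4w3p0, levelsWord4w3p1, levelsWord4w3p2, levelsWord4w3p3, levelsWord4w3p4, levelsWord4w3p5, levelsWord4w3p6, levelsWord4w3p7, levelsWord4w3p8, levelsWord4w3p9, levelsWord4w3p10, levelsWord4w3p11, levelsWord4w3p12, levelsWord4w3p13, levelsWord4w3p14, levelsWord4w3p15, levelsWord4w3p16, levelsWord4w3p17, levelsWord4w3p18, levelsWord4w3p19, levelsWord4w3p20, levelsWord4w3p21, levelsWord4w3p22, levelsWord4w3p23, levelsWord4w3p24, levelsWord4w3p25, levelsWord4w3p26, levelsWord4w3p27, levelsWord4w3p28, levelsWord4w3p29, levelsWord4w3p30, levelsWord4w3p31,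 levelsWord4w3p32, levelsWord4w3p33, levelsWord4w3p34, levelsWord4w3p35, levelsWord4w3p36, levelsWord4w3p37, levelsWord4w3p38, levelsWord4w3p39, levelsWord4w3p40, levelsWord4w3p41, levelsWord4w3p42, levelsWord4w3p43, levelsWord4w3p44, levelsWord4w3p45, levelsWord4w3p46, levelsWord4w3p47, levelsWord4w3p48, levelsWord4w3p49].flatten ++ [levelsWord4w3p50, levelsWord4w3p51, levelsWord4w3p52, levelsWord4w3p53].flatten)], levelsTree4,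
    0x400000000000000000000000000000000000000000000300000000000000000000000000000000000000000000000000000000100000000000000000000000000000000000000000000000000000000000000000000000000000000000000000000000000000000000000000000000000000000000000000000000000000000000020000000000000000000000000000000000000000004000000000000000000400000000000000000000000000000000000000800000000000000000000000000000000000000000000000000000000000000000000000000000000000000000000000000000000000000000000000000000000000000000008000000000000000000000000000000000000000000000030000000000000000000000000000000000000000000001000000000000000000000000000000000000000000000000000000000000000000000000000000000000000000000000000000000000000000000000000000000000000000000000000000000000000000000000000000000000000000000000000000000000000000000000000140030⟩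

/-- the levels -/
def levels : List Level := [levelsLevel0, levelsLevel1, levelsLevel2, levelsLevel3, levelsLevel4]

end CfsgLib.Fi22Pres
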