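import Cfsg.Prelude.Def_Spor_Fi22
import Cfsg.Prelude.Def_Sporadic
import Cfsg.Agent.Lib.CosetEnum.Words
import Cfsg.Agent.Lib.Fi22Pres.SuborbitA
import Cfsg.Agent.Lib.Fi22Pres.DataChain
import Cfsg.Agent.Lib.Fi22Pres.CheckB
import Cfsg.Agent.Lib.Fi22Pres.CheckC
import Cfsg.Agent.Lib.Fi22Pres.CheckH
import Cfsg.Agent.Lib.Fi22Pres.CheckS1
import Cfsg.Agent.Lib.Fi22Pres.CheckS2
import Cfsg.Agent.Lib.Fi22Pres.CheckS3
import Cfsg.Agent.Lib.Fi22Pres.CheckS4
import Cfsg.Agent.Lib.Fi22Pres.CheckS5
import Cfsg.Agent.Lib.Fi22Pres.CheckS6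
import Cfsg.Agent.Lib.Fi22Pres.CheckX

/-!
The presented Fischer group Fi22: indices 3510 and 14080, order, simplicity.
-/

set_option autoImplicit false

namespace CfsgLib.Fi22Pres

open CfsgLib.CosetEnum Cfsg.Spor

/-- the generators in order -/
def letters : List Fi22.Gen := [.a, .b, .c, .d, .e, .f, .g, .h, .i]

/-- the further relators as words -/
def extraW : List (List ℕ) := [
  powWord [3, 2, 1, 3, 4, 5, 3, 7, 8] 10,
  powWord [0, 1, 2, 3, 4, 5, 7] 9,
  powWord [1, 2, 3, 4, 5, 6, 7] 9]

theorem extraWords : ExtraWords letters Fi22.extra extraW := by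
  unfold ExtraWords Fi22.extra extraW
  refine .cons ?_ (.cons ?_ (.cons ?_ .nil))
  all_goals
    intro P _ f _
    rw [map_pow, prodW_powWord]
    simp [prodW, genOf, letters, Fi22.a, Fi22.b, Fi22.c, Fi22.d, Fi22.e, Fi22.f, Fi22.g, Fi22.h,
      Fi22.i, mul_assoc]

theorem mem_letters : ∀ x, x ∈ letters := by intro x; cases x <;> decide

theorem nodes : ∀ x, x ∈ coxNodes Fi22.edges := by intro x; cases x <;> decide

/-- the numbered generators -/
def gen : ℕ → Fi22 := presGen letters Fi22.edges Fi22.extra

theorem gen_sq (g : ℕ) : gen g * gen g = 1 := by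
  unfold gen presGen genOf
  split
  · exact of_sq (nodes _)
  · simp

theorem presA : presOK letters Fi22.edges extraW certA = true := by decide +kernel

/-- the subgroup of index 3510 -/
def subA : Subgroup Fi22 := Subgroup.closure {y | ∃ w ∈ certA.subs, prodW gen w = y}

theorem modelA : Model certA subA gen :=
  presModel nodes extraWords presA _ fun w hw => Subgroup.subset_closure ⟨w, hw, rfl⟩

theorem exists_action : ∃ ρ : Fi22 →* Equiv.Perm (Fin certA.N),
    ∀ g < certA.K, ρ (gen g) = letterPerm certA_complete certA_action g :=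
  exists_presAction mem_letters (by decide) extraWords presA certA_complete certA_action

/-- the action on the 3510 cosets -/
noncomputable def rho : Fi22 →* Equiv.Perm (Fin certA.N) := exists_action.choose

theorem setupA : Setup certA subA gen rho where
  complete := certA_complete
  action := certA_action
  model := modelA
  gen_top := presGen_top mem_letters rfl
  rho_gen := exists_action.choose_spec
  H_eq := rfl

theorem blockS1 : blockOK certS1 certA.rels 1 1 = true := by decide +kernel
theorem blockS2 : blockOK certS2 certA.rels 1 2 = true := by decide +kernel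
theorem blockS3 : blockOK certS3 certA.rels 1 3 = true := by decide +kernel
theorem blockS4 : blockOK certS4 certA.rels 1 4 = true := by decide +kernel
theorem blockS5 : blockOK certS5 certA.rels 1 5 = true := by decide +kernel
theorem blockS6 : blockOK certS6 certA.rels 1 6 = true := by decide +kernel
theorem blockC : blockOK certC certA.rels 1 7 = true := by decide +kernel
theorem blockB : blockOK certB certA.rels 1 8 = true := by decide +kernel
theorem blockH : blockOK certH certA.rels 0 9 = true := by decide +kernel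

/-- the subgroup generated by `b, …, i` -/
def subH : Subgroup Fi22 := genSub (blockGen gen 1 8) 8

theorem subH_card : Finite subH ∧ Nat.card subH ≤ 4585351680 := by
  have hr : ∀ r ∈ certA.rels, prodW gen r = 1 := modelA.rel
  have h1 := block_card_le gen_sq hr certS1_complete blockS1 (subs_closure_bot rfl)
  have h2 := block_step gen_sq hr certS2_complete blockS2 (d := 0) (k := 1) (by decide +kernel)
    (by norm_num) h1
  have h3 := block_step gen_sq hr certS3_complete blockS3 (d := 0) (k := 2) (by decide +kernel)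
    (by norm_num) h2
  have h4 := block_step gen_sq hr certS4_complete blockS4 (d := 0) (k := 3) (by decide +kernel)
    (by norm_num) h3
  have h5 := block_step gen_sq hr certS5_complete blockS5 (d := 0) (k := 4) (by decide +kernel)
    (by norm_num) h4
  have h6 := block_step gen_sq hr certS6_complete blockS6 (d := 0) (k := 5) (by decide +kernel)
    (by norm_num) h5
  have hC := block_step gen_sq hr certC_complete blockC (d := 0) (k := 6) (by decide +kernel)
    (by norm_num) h6
  exact block_step gen_sq hr certB_complete blockB (d := 0) (k := 7) (by decide +kernel)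
    (by norm_num) hC

theorem top_card_le {n : ℕ} (hn : Finite subH ∧ Nat.card subH ≤ n) :
    Finite Fi22 ∧ Nat.card Fi22 ≤ 14080 * n := by
  have h := block_step gen_sq modelA.rel certH_complete blockH (d := 1) (k := 8)
    (by decide +kernel) (by norm_num) hn
  rw [genSub_blockGen_zero, genSub, show (9 : ℕ) = certA.K from rfl, setupA.gen_top] at h
  exact ⟨haveI := h.1; Finite.of_equiv _ Subgroup.topEquiv.toEquiv,
    by rw [← Nat.card_congr Subgroup.topEquiv.toEquiv]; exact h.2⟩

theorem finite_and_card : Finite Fi22 ∧ Nat.card Fi22 ≤ 64561751654400 :=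
  top_card_le subH_card

instance : Finite Fi22 := finite_and_card.1

theorem chain_ok : chainOK certA levels = true := by decide +kernel

theorem chain_size : chainSize certA levels = 64561751654400 := by decide +kernel

theorem card_faithful : Nat.card Fi22 = 64561751654400 ∧ Function.Injective rho :=
  setupA.card_eq finite_and_card.2 chain_ok chain_size

theorem power_fix :
    allUp (wordFix certA (powWord [3, 1, 2, 7, 8, 0, 5, 4] (13 ^ 1))) 12 0 = true := by
  decide +kernel

theorem isFi22 : Cfsg.IsFi22 Fi22 :=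
  ⟨setupA.isSimpleGroup card_faithful.2 (by rw [card_faithful.1]; norm_num) suborbits
    (p := 13) (a := 1) (by norm_num) (by decide +kernel) (by rw [card_faithful.1]; norm_num)
    (setupA.pow_eq_one card_faithful.2 (by decide +kernel) power_fix (by decide +kernel))
    certX_complete rfl rfl rfl rfl (by decide +kernel), card_faithful.1⟩

theorem printed_subA :
    ((Subgroup.closure ({Fi22.a, Fi22.c, Fi22.d, Fi22.e, Fi22.f, Fi22.g, Fi22.h, Fi22.i,
        (Fi22.a * Fi22.b * Fi22.c * Fi22.d * Fi22.e * Fi22.h) ^ 5} :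
          Set (FreeGroup Fi22.Gen))).map
      (PresentedGroup.mk (coxRelators Fi22.edges ∪ {r | r ∈ Fi22.extra}))) = subA := by
  rw [MonoidHom.map_closure, subA]
  congr 1
  ext y
  have hs : certA.subs = [[0], [2], [3], [4], [5], [6], [7], [8],
      powWord [0, 1, 2, 3, 4, 7] 5] := rfl
  simp only [Set.mem_ofPred_eq, hs, List.mem_cons, List.not_mem_nil, or_false, exists_eq_or_imp,
    exists_eq_left, Set.image_insert_eq, Set.image_singleton, Set.mem_insert_iff,
    Set.mem_singleton_iff, prodW_powWord, prodW_cons, prodW_nil, mul_one]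
  simp only [gen, presGen, genOf, letters, List.length_cons, List.length_nil]
  simp [eq_comm, PresentedGroup.of, map_pow, map_mul, mul_assoc, Fi22.a, Fi22.b, Fi22.c, Fi22.d,
    Fi22.e, Fi22.f, Fi22.g, Fi22.h, Fi22.i]

theorem printed_subH :
    ((Subgroup.closure ({Fi22.b, Fi22.c, Fi22.d, Fi22.e, Fi22.f, Fi22.g, Fi22.h, Fi22.i} :
          Set (FreeGroup Fi22.Gen))).map
      (PresentedGroup.mk (coxRelators Fi22.edges ∪ {r | r ∈ Fi22.extra}))) = subH := by
  rw [MonoidHom.map_closure, subH, genSub]
  congr 1
  ext y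
  simp only [Set.mem_ofPred_eq, Set.image_insert_eq, Set.image_singleton, Set.mem_insert_iff,
    Set.mem_singleton_iff]
  constructor
  · rintro (rfl | rfl | rfl | rfl | rfl | rfl | rfl | rfl)
    exacts [⟨0, by norm_num, rfl⟩, ⟨1, by norm_num, rfl⟩, ⟨2, by norm_num, rfl⟩,
      ⟨3, by norm_num, rfl⟩, ⟨4, by norm_num, rfl⟩, ⟨5, by norm_num, rfl⟩, ⟨6, by norm_num, rfl⟩,
      ⟨7, by norm_num, rfl⟩]
  · rintro ⟨g, hg, rfl⟩
    interval_cases g <;>
      simp [blockGen, gen, presGen, genOf, letters, PresentedGroup.of, Fi22.b, Fi22.c, Fi22.d,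
        Fi22.e, Fi22.f, Fi22.g, Fi22.h, Fi22.i]

theorem index_subH : subH.index = 14080 := by
  have hmul := subH.card_mul_index
  rw [card_faithful.1] at hmul
  have hle : subH.index ≤ 14080 := by
    have h := (top_card_le ⟨subH_card.1, le_rfl⟩).2
    rw [card_faithful.1, ← hmul, mul_comm 14080] at h
    exact Nat.le_of_mul_le_mul_left h Nat.card_pos
  refine le_antisymm hle ?_
  by_contra hc
  have : Nat.card subH * subH.index < 4585351680 * 14080 :=
    Nat.mul_lt_mul_of_le_of_lt subH_card.2 (by omega) (by norm_num)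
  omega

theorem index_and_orbits :
    let H := (Subgroup.closure ({Fi22.a, Fi22.c, Fi22.d, Fi22.e, Fi22.f, Fi22.g, Fi22.h, Fi22.i,
        (Fi22.a * Fi22.b * Fi22.c * Fi22.d * Fi22.e * Fi22.h) ^ 5} :
          Set (FreeGroup Fi22.Gen))).map
      (PresentedGroup.mk (coxRelators Fi22.edges ∪ {r | r ∈ Fi22.extra}))
    H.index = 3510 ∧ ∃ q₁ q₂ : Fi22 ⧸ H,
      (MulAction.orbit H q₁).ncard = 693 ∧ (MulAction.orbit H q₂).ncard = 2816 := by
  intro H
  have e : H = subA := printed_subA
  rw [e]
  obtain ⟨q₁, -, h₁⟩ := setupA.exists_orbit subMask0_orbit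
  obtain ⟨q₂, -, h₂⟩ := setupA.exists_orbit subMask1_orbit
  exact ⟨setupA.index_eq.trans rfl, q₁, q₂, h₁.trans subMask0_size, h₂.trans subMask1_size⟩

end CfsgLib.Fi22Pres
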