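import Cfsg.Agent.Lib.Fi22Pres.OutChecks
import Cfsg.Agent.Lib.Fi22Pres.SwapRows

/-!
Kernel checks of rows of the commuting graph, part 0.
-/

set_option autoImplicit false
set_option Elab.async false

namespace CfsgLib.Fi22Pres

open CfsgLib.CosetEnum

theorem swap_rows0 : certA.rowsOK commMask swapRows swapPts0 = true := by decide +kernel

theorem swap_rows1 : certA.rowsOK commMask swapRows swapPts1 = true := by decide +kernel

theorem swap_rows2 : certA.rowsOK commMask swapRows swapPts2 = true := by decide +kernel

theorem swap_rows3 : certA.rowsOK commMask swapRows swapPts3 = true := by decide +kernel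

theorem swap_rows4 : certA.rowsOK commMask swapRows swapPts4 = true := by decide +kernel

theorem swap_rows5 : certA.rowsOK commMask swapRows swapPts5 = true := by decide +kernel

theorem swap_rows6 : certA.rowsOK commMask swapRows swapPts6 = true := by decide +kernel

theorem swap_rows7 : certA.rowsOK commMask swapRows swapPts7 = true := by decide +kernel

theorem swap_rows8 : certA.rowsOK commMask swapRows swapPts8 = true := by decide +kernel

end CfsgLib.Fi22Pres
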