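import Cfsg.Agent.Lib.Fi22Pres.OutChecks
import Cfsg.Agent.Lib.Fi22Pres.SwapRows

/-!
Kernel checks of rows of the commuting graph, part 1.
-/

set_option autoImplicit false
set_option Elab.async false

namespace CfsgLib.Fi22Pres

open CfsgLib.CosetEnum

theorem swap_rows9 : certA.rowsOK commMask swapRows swapPts9 = true := by decide +kernel

theorem swap_rows10 : certA.rowsOK commMask swapRows swapPts10 = true := by decide +kernel

theorem swap_rows11 : certA.rowsOK commMask swapRows swapPts11 = true := by decide +kernel

theorem swap_rows12 : certA.rowsOK commMask swapRows swapPts12 = true := by decide +kernel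

theorem swap_rows13 : certA.rowsOK commMask swapRows swapPts13 = true := by decide +kernel

theorem swap_rows14 : certA.rowsOK commMask swapRows swapPts14 = true := by decide +kernel

theorem swap_rows15 : certA.rowsOK commMask swapRows swapPts15 = true := by decide +kernel

theorem swap_rows16 : certA.rowsOK commMask swapRows swapPts16 = true := by decide +kernel

theorem swap_rows17 : certA.rowsOK commMask swapRows swapPts17 = true := by decide +kernel

end CfsgLib.Fi22Pres
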