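import Cfsg.Agent.Lib.Fi22Pres.OutChecks
import Cfsg.Agent.Lib.Fi22Pres.SwapRows

/-!
Kernel checks of rows of the commuting graph, part 2.
-/

set_option autoImplicit false
set_option Elab.async false

namespace CfsgLib.Fi22Pres

open CfsgLib.CosetEnum

theorem swap_rows18 : certA.rowsOK commMask swapRows swapPts18 = true := by decide +kernel

theorem swap_rows19 : certA.rowsOK commMask swapRows swapPts19 = true := by decide +kernel

theorem swap_rows20 : certA.rowsOK commMask swapRows swapPts20 = true := by decide +kernel

theorem swap_rows21 : certA.rowsOK commMask swapRows swapPts21 = true := by decide +kernel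

theorem swap_rows22 : certA.rowsOK commMask swapRows swapPts22 = true := by decide +kernel

theorem swap_rows23 : certA.rowsOK commMask swapRows swapPts23 = true := by decide +kernel

theorem swap_rows24 : certA.rowsOK commMask swapRows swapPts24 = true := by decide +kernel

theorem swap_rows25 : certA.rowsOK commMask swapRows swapPts25 = true := by decide +kernel

theorem swap_rows26 : certA.rowsOK commMask swapRows swapPts26 = true := by decide +kernel

end CfsgLib.Fi22Pres
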