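import Cfsg.Agent.Lib.Fi22Pres.OutChecks
import Cfsg.Agent.Lib.Fi22Pres.SwapRows

/-!
Kernel checks of rows of the commuting graph, part 3.
-/

set_option autoImplicit false
set_option Elab.async false

namespace CfsgLib.Fi22Pres

open CfsgLib.CosetEnum

theorem swap_rows27 : certA.rowsOK commMask swapRows swapPts27 = true := by decide +kernel

theorem swap_rows28 : certA.rowsOK commMask swapRows swapPts28 = true := by decide +kernel

theorem swap_rows29 : certA.rowsOK commMask swapRows swapPts29 = true := by decide +kernel

theorem swap_rows30 : certA.rowsOK commMask swapRows swapPts30 = true := by decide +kernel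

theorem swap_rows31 : certA.rowsOK commMask swapRows swapPts31 = true := by decide +kernel

theorem swap_rows32 : certA.rowsOK commMask swapRows swapPts32 = true := by decide +kernel

theorem swap_rows33 : certA.rowsOK commMask swapRows swapPts33 = true := by decide +kernel

theorem swap_rows34 : certA.rowsOK commMask swapRows swapPts34 = true := by decide +kernel

theorem swap_rows35 : certA.rowsOK commMask swapRows swapPts35 = true := by decide +kernel

end CfsgLib.Fi22Pres
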