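import Cfsg.Agent.Lib.Fi22Pres.SwapData
import Cfsg.Agent.Lib.Fi22Pres.SwapChecksRow0
import Cfsg.Agent.Lib.Fi22Pres.SwapChecksRow1
import Cfsg.Agent.Lib.Fi22Pres.SwapChecksRow2
import Cfsg.Agent.Lib.Fi22Pres.SwapChecksRow3

/-!
Kernel check of the decision tree for involutive automorphisms of the commuting graph.
-/

set_option autoImplicit false
set_option maxRecDepth 10000
set_option Elab.async false

namespace CfsgLib.Fi22Pres

open CfsgLib.CosetEnum

theorem swap_rows : certA.rowsOK commMask swapRows swapPts = true := by
  have h := And.intro swap_rows0 (And.intro swap_rows1 (And.intro swap_rows2 (And.intro swap_rows3 (And.intro swap_rows4 (And.intro swap_rows5 (And.intro swap_rows6 (And.intro swap_rows7 (And.intro swap_rows8 (And.intro swap_rows9 (And.intro swap_rows10 (And.intro swap_rows11 (And.intro swap_rows12 (And.intro swap_rows13 (And.intro swap_rows14 (And.intro swap_rows15 (And.intro swap_rows16 (And.intro swap_rows17 (And.intro swap_rows18 (And.intro swap_rows19 (And.intro swap_rows20 (And.intro swap_rows21 (And.intro swap_rows22 (And.intro swap_rows23 (And.intro swap_rows24 (And.intro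 swap_rows25 (And.intro swap_rows26 (And.intro swap_rows27 (And.intro swap_rows28 (And.intro swap_rows29 (And.intro swap_rows30 (And.intro swap_rows31 (And.intro swap_rows32 (And.intro swap_rows33 (And.intro swap_rows34 swap_rows35))))))))))))))))))))))))))))))))))
  simp only [Cert.rowsOK] at h ⊢
  simp only [swapPts, List.all_flatten, List.all_cons, List.all_nil, Bool.and_true, Bool.and_eq_true]
  exact h

theorem swap_ok : certA.swapOK swapRows swapPts swapTree [(0, 7)] = true := by decide +kernel

end CfsgLib.Fi22Pres
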