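import Cfsg.Agent.Lib.Fi22Pres.TriplesTransfer
import Cfsg.Agent.Lib.Fi22Pres.SwapChecks

/-!
An involutory automorphism of Fi22 fixes a transposition.
-/

set_option autoImplicit false
set_option Elab.async false

namespace CfsgLib.Fi22Pres

open CfsgLib.CosetEnum Cfsg.Spor CfsgLib.Fi22USix

theorem conj_point (g : Fi22) : ∃ x : Fin certA.N, dTr x = g * gen 0 * g⁻¹ :=
  ⟨rho g setupA.base, by rw [dTr, ← setupA.conj_eq_conjAt comm_first]⟩

theorem aut_point (φ : MulAut Fi22) (x : Fin certA.N) : ∃ y : Fin certA.N, dTr y = φ (dTr x) := by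
  obtain ⟨c, hc⟩ := inner_fix φ
  have hg : φ (gen 0) = c⁻¹ * gen 0 * c := by
    conv_rhs => rw [← hc]
    group
  obtain ⟨y, hy⟩ := conj_point (φ (coreRep certA gen x)⁻¹ * c⁻¹)
  refine ⟨y, ?_⟩
  rw [hy, dTr, conjAt, map_mul, map_mul, hg, map_inv]
  group

/-- An automorphism of order two fixes a transposition. -/
theorem involutory_fix (φ : MulAut Fi22) (h2 : φ * φ = 1) :
    ∃ x : Fin certA.N, φ (dTr x) = dTr x := by
  by_contra hnone
  push Not at hnone
  choose f hf using aut_point φ
  have hinv : ∀ g : Fi22, φ (φ g) = g := fun g => by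
    have := congrArg (fun ψ : MulAut Fi22 => ψ g) h2
    simpa using this
  have hff : Function.Involutive f := fun x => dTr_inj (by rw [hf, hf, hinv])
  set π : Equiv.Perm (Fin certA.N) := hff.toPerm f
  have hπ : ∀ x, dTr (π x) = φ (dTr x) := hf
  have hmove : ∀ x, π x ≠ x := fun x e => hnone x (by rw [← hπ, e])
  have hcomm : ∀ x y, Commute (φ x) (φ y) ↔ Commute x y := fun x y =>
    ⟨fun h => φ.injective (by rw [map_mul, map_mul]; exact h.eq), fun h => h.map φ⟩
  have hadj : ∀ x, Commute (dTr x) (dTr (π x)) := by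
    intro x
    obtain ⟨c, hc⟩ : ∃ c : Fi22, c * gen 0 * c⁻¹ = dTr x :=
      ⟨(coreRep certA gen x)⁻¹, by rw [dTr, conjAt, inv_inv]⟩
    have h := central_pair (rho c⁻¹ (π x))
    have e2 : c * conjAt certA gen (gen 0) (rho c⁻¹ (π x)) * c⁻¹ = dTr (π x) := by
      have h3 := dTr_conj c (rho c⁻¹ (π x))
      rw [← Equiv.Perm.mul_apply (rho c) (rho c⁻¹), ← map_mul, mul_inv_cancel, map_one] at h3
      exact h3
    set u := conjAt certA gen (gen 0) (rho c⁻¹ (π x))
    set a := dTr x
    set b := dTr (π x)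
    rcases h with h | h
    · have h' : (a * b) ^ 2 = 1 := by
        rw [← hc, ← e2, show c * gen 0 * c⁻¹ * (c * u * c⁻¹) = c * (gen 0 * u) * c⁻¹ by group,
          conj_pow, h, mul_one, mul_inv_cancel]
      rw [pow_two, mul_eq_one_iff_eq_inv, mul_inv_rev, dTr_inv, dTr_inv] at h'
      exact h'
    · exfalso
      have h' : (a * b) ^ 3 = 1 := by
        rw [← hc, ← e2, show c * gen 0 * c⁻¹ * (c * u * c⁻¹) = c * (gen 0 * u) * c⁻¹ by group,
          conj_pow, h, mul_one, mul_inv_cancel]
      have h'' : a * b * a * (b * a * b) = 1 := by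
        rw [pow_three] at h'
        simpa only [mul_assoc] using h'
      have hbab : a * b * a = b * a * b := by
        rw [eq_inv_of_mul_eq_one_left h'']
        simp only [mul_inv_rev, a, b, dTr_inv, mul_assoc]
      apply hnone (rho a (π x))
      rw [← dTr_conj]
      have hφb : φ b = a := by
        show φ (dTr (π x)) = dTr x
        rw [← hπ, show π (π x) = x from hff x]
      show φ (a * b * a⁻¹) = a * b * a⁻¹
      rw [map_mul, map_mul, map_inv, hφb, show φ a = b from (hπ x).symm,
        show a⁻¹ = a from dTr_inv x, show b⁻¹ = b from dTr_inv (π x), ← hbab]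
  obtain ⟨g, g0, g7⟩ := pair_transitive (x := pt0) (y := π pt0) (hmove pt0).symm (hadj pt0)
  have gb : ∀ z, rho g (rho g⁻¹ z) = z := fun z => by
    rw [← Equiv.Perm.mul_apply, ← map_mul, mul_inv_cancel, map_one]; rfl
  have bg : ∀ z, rho g⁻¹ (rho g z) = z := fun z => by
    rw [← Equiv.Perm.mul_apply, ← map_mul, inv_mul_cancel, map_one]; rfl
  let σ : Equiv.Perm (Fin certA.N) := rho g⁻¹ * π * rho g
  have hσ : ∀ z, σ z = rho g⁻¹ (π (rho g z)) := fun z => rfl
  have hrel : ∀ a b, certA.relB commMask (π a) (π b) = certA.relB commMask a b := fun a b => by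
    rw [Bool.eq_iff_iff, graph.commute_iff repWords, graph.commute_iff repWords]
    show Commute (dTr (π a)) (dTr (π b)) ↔ _
    rw [hπ, hπ, hcomm]
    rfl
  have hswap : IsSwap certA commMask σ := by
    refine ⟨fun z => ?_, fun z e => ?_, fun z => ?_, fun a b => ?_⟩
    · rw [hσ, hσ, gb, show π (π (rho g z)) = rho g z from hff _, bg]
    · apply hmove (rho g z)
      rw [hσ] at e
      have := congrArg (rho g) e
      rwa [gb] at this
    · rw [hσ, ← setupA.relB_smul repWords graph.inv g, gb]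
      exact (graph.commute_iff repWords _ _).mpr (hadj _)
    · rw [hσ, hσ, setupA.relB_smul repWords graph.inv, hrel, setupA.relB_smul repWords graph.inv]
  refine swapOK_spec swap_rows hswap swapTree _ ?_ swap_ok
  intro q hq
  rw [List.mem_singleton] at hq
  subst hq
  refine ⟨by decide, by decide, pt0, rfl, ?_⟩
  rw [hσ, g0, ← g7, bg]
  rfl

theorem involutory_fix_map {G : Type*} [Group G] {D : Set G} (e : Fi22 ≃* G)
    (hD : e '' transClass = D) (φ : MulAut G) (hφ : orderOf φ = 2) : ∃ d ∈ D, φ d = d := by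
  let ψ : MulAut Fi22 := (e.trans φ).trans e.symm
  have h2 : ψ * ψ = 1 := by
    ext g
    have h := congrArg (fun θ : MulAut G => θ (e g))
      (show φ * φ = 1 by rw [← pow_two, ← hφ, pow_orderOf_eq_one])
    simp only [MulAut.mul_apply, MulAut.one_apply] at h
    simp [ψ, h]
  obtain ⟨x, hx⟩ := involutory_fix ψ h2
  refine ⟨e (dTr x), (mem_D_iff e hD).mpr ⟨x, rfl⟩, ?_⟩
  have := congrArg e hx
  simpa [ψ] using this

end CfsgLib.Fi22Pres
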