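import Cfsg.Agent.Lib.Fi22Pres.AutFix
import Cfsg.Agent.Lib.Fi22Pres.AutOmega

/-!
The automorphisms of Fi22 as permutations of the 3510 transpositions.
-/

set_option autoImplicit false
set_option Elab.async false

namespace CfsgLib.Fi22Pres

open CfsgLib.CosetEnum Cfsg.Spor CfsgLib.Fi22USix

theorem rho_mul_apply (g h : Fi22) (x : Fin certA.N) : rho (g * h) x = rho g (rho h x) := by
  rw [map_mul, Equiv.Perm.mul_apply]

theorem rho_inv_apply (g : Fi22) (x : Fin certA.N) : rho g⁻¹ (rho g x) = x := by
  rw [← rho_mul_apply, inv_mul_cancel, map_one, Equiv.Perm.one_apply]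

theorem rho_apply_inv (g : Fi22) (x : Fin certA.N) : rho g (rho g⁻¹ x) = x := by
  rw [← rho_mul_apply, mul_inv_cancel, map_one, Equiv.Perm.one_apply]

/-- the coset attached to the image of a transposition -/
noncomputable def imgPt (φ : MulAut Fi22) (x : Fin certA.N) : Fin certA.N := (aut_point φ x).choose

theorem imgPt_spec (φ : MulAut Fi22) (x : Fin certA.N) : dTr (imgPt φ x) = φ (dTr x) :=
  (aut_point φ x).choose_spec

/-- the automorphisms as permutations of the transpositions -/
noncomputable def permOf : MulAut Fi22 →* Equiv.Perm (Fin certA.N) :=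
  MonoidHom.toHomPerm
    { toFun := fun φ => imgPt φ
      map_one' := funext fun x => dTr_inj (by rw [imgPt_spec]; rfl)
      map_mul' := fun φ ψ => funext fun x => dTr_inj (by
        show dTr (imgPt (φ * ψ) x) = dTr (imgPt φ (imgPt ψ x))
        rw [imgPt_spec, imgPt_spec, imgPt_spec]; rfl) }

theorem permOf_spec (φ : MulAut Fi22) (x : Fin certA.N) : dTr (permOf φ x) = φ (dTr x) := by
  show dTr (imgPt φ x) = _
  exact imgPt_spec φ x

theorem permOf_conj (g : Fi22) : permOf (MulAut.conj g) = rho g :=
  Equiv.ext fun x => dTr_inj (by rw [permOf_spec, MulAut.conj_apply, dTr_conj])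

theorem gen_mem_transClass {k : ℕ} (hk : k < 9) : ∃ x : Fin certA.N, dTr x = gen k :=
  mem_transClass.mp (isConj_iff.mpr (by
    obtain ⟨g, hg⟩ := gen_conj k (show k < certA.K from hk)
    exact ⟨g, hg.symm⟩))

theorem permOf_injective : Function.Injective permOf := by
  refine (injective_iff_map_eq_one permOf).2 fun φ hφ => ?_
  have hfix : ∀ g ∈ Subgroup.closure {y | ∃ k < certA.K, gen k = y}, φ g = g := by
    intro g hg
    induction hg using Subgroup.closure_induction with
    | mem y hy =>
      obtain ⟨k, hk, rfl⟩ := hy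
      obtain ⟨x, hx⟩ := gen_mem_transClass (show k < 9 from hk)
      rw [← hx, ← permOf_spec, hφ, Equiv.Perm.one_apply]
    | one => exact map_one φ
    | mul a b _ _ ha hb => rw [map_mul, ha, hb]
    | inv a _ ha => rw [map_inv, ha]
  ext g
  exact hfix g (by rw [setupA.gen_top]; exact Subgroup.mem_top g)

instance : Finite (MulAut Fi22) := Finite.of_injective permOf permOf_injective

theorem outer_gen_range (g : Fi22) : ∃ g' : Fi22, rho g' = outerPerm * rho g * outerPerm :=
  outer_range g

/-- the image under the outer involution -/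
noncomputable def outerFun (g : Fi22) : Fi22 := (outer_gen_range g).choose

theorem outerFun_spec (g : Fi22) : rho (outerFun g) = outerPerm * rho g * outerPerm :=
  (outer_gen_range g).choose_spec

theorem outerFun_twice (g : Fi22) : outerFun (outerFun g) = g :=
  card_faithful.2 (by
    rw [outerFun_spec, outerFun_spec]
    calc outerPerm * (outerPerm * rho g * outerPerm) * outerPerm
        = (outerPerm * outerPerm) * rho g * (outerPerm * outerPerm) := by group
      _ = rho g := by rw [outerPerm_sq, one_mul, mul_one])

/-- the outer involution -/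
noncomputable def sOuter : MulAut Fi22 :=
  { toFun := outerFun
    invFun := outerFun
    left_inv := outerFun_twice
    right_inv := outerFun_twice
    map_mul' := fun a b => card_faithful.2 (by
      rw [map_mul, outerFun_spec, outerFun_spec, outerFun_spec, map_mul]
      calc outerPerm * (rho a * rho b) * outerPerm
          = outerPerm * rho a * 1 * rho b * outerPerm := by group
        _ = _ := by rw [← outerPerm_sq]; group) }

theorem rho_sOuter (g : Fi22) : rho (sOuter g) = outerPerm * rho g * outerPerm := outerFun_spec g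

theorem sOuter_fix_iff (g : Fi22) : sOuter g = g ↔ g ∈ fixOuter := by
  rw [mem_fixOuter, ← card_faithful.2.eq_iff, rho_sOuter]
  constructor
  · intro h
    conv_lhs => rw [← h]
    rw [mul_assoc, outerPerm_sq, mul_one]
  · intro h
    rw [mul_assoc, h, ← mul_assoc, outerPerm_sq, one_mul]

theorem outer_check : Nat.beq (outerMap 0) 0 = true := by decide +kernel

theorem outerPerm_pt0 : outerPerm pt0 = pt0 := Fin.ext (by
  rw [outerPerm_apply]; exact Nat.eq_of_beq_eq_true outer_check)

theorem sOuter_first : sOuter (dTr pt0) = dTr pt0 := by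
  have h : (fixOuter : Subgroup Fi22) = fixOuter := rfl
  rw [sOuter_fix_iff, ← (dTr_word pt0).2]
  refine fixOuter_of_check ?_
  decide +kernel

theorem permOf_sOuter : permOf sOuter = outerPerm := by
  refine Equiv.ext fun x => dTr_inj ?_
  obtain ⟨c, hcx⟩ : ∃ c : Fi22, rho c pt0 = x := ⟨_, setupA.rho_rep_inv x⟩
  rw [permOf_spec, ← hcx, ← dTr_conj, map_mul, map_mul, map_inv, sOuter_first, dTr_conj,
    rho_sOuter, Equiv.Perm.mul_apply, Equiv.Perm.mul_apply, outerPerm_pt0]

theorem sOuter_sq : sOuter * sOuter = 1 :=
  permOf_injective (by rw [map_mul, permOf_sOuter, outerPerm_sq, map_one])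

theorem sign_rho (g : Fi22) : Equiv.Perm.sign (rho g) = 1 := by
  haveI : IsSimpleGroup Fi22 := isFi22.1
  rcases IsSimpleGroup.eq_bot_or_eq_top_of_normal (Equiv.Perm.sign.comp rho).ker inferInstance
    with h | h
  · exfalso
    haveI : Finite Fi22 := finite_and_card.1
    have h2 := Nat.card_le_card_of_injective _ ((MonoidHom.ker_eq_bot_iff _).mp h)
    rw [card_faithful.1, Nat.card_eq_fintype_card (α := ℤˣ), Fintype.card_units_int] at h2
    omega
  · have hk := MonoidHom.ker_eq_top_iff.mp h
    have hg := DFunLike.congr_fun hk g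
    rw [MonoidHom.comp_apply, MonoidHom.one_apply] at hg
    exact hg

theorem sOuter_not_inner : sOuter ∉ (MulAut.conj : Fi22 →* MulAut Fi22).range := by
  rintro ⟨g, hg⟩
  have h : rho g = outerPerm := by rw [← permOf_conj, hg, permOf_sOuter]
  have h1 := sign_rho g
  rw [h, sign_involution (j := 787) outerPerm outerPerm_sq outerMap outerPerm_apply
    (by rw [show certA.N = 3510 from rfl, outer_fixed])] at h1
  exact absurd h1 (by decide)

theorem sOuter_order : orderOf sOuter = 2 :=
  orderOf_eq_prime (by rw [pow_two]; exact sOuter_sq) fun e =>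
    sOuter_not_inner (e ▸ one_mem _)

theorem inner_index : (MulAut.conj : Fi22 →* MulAut Fi22).range.index = 2 := out_card

/-- Every automorphism is inner or an inner one times the outer involution. -/
theorem aut_cases (φ : MulAut Fi22) :
    (∃ g : Fi22, φ = MulAut.conj g) ∨ ∃ g : Fi22, φ = MulAut.conj g * sOuter := by
  by_cases h : φ ∈ (MulAut.conj : Fi22 →* MulAut Fi22).range
  · obtain ⟨g, hg⟩ := h; exact Or.inl ⟨g, hg.symm⟩
  · right
    have : φ * sOuter ∈ (MulAut.conj : Fi22 →* MulAut Fi22).range :=
      (Subgroup.mul_mem_iff_of_index_two inner_index).mpr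
        ⟨fun h' => absurd h' h, fun h' => absurd h' sOuter_not_inner⟩
    obtain ⟨g, hg⟩ := this
    exact ⟨g, by rw [hg, mul_assoc, sOuter_sq, mul_one]⟩

theorem outer_form {φ : MulAut Fi22} (h : φ ∉ (MulAut.conj : Fi22 →* MulAut Fi22).range) :
    ∃ g : Fi22, φ = MulAut.conj g * sOuter := by
  rcases aut_cases φ with ⟨g, rfl⟩ | h'
  · exact absurd ⟨g, rfl⟩ h
  · exact h'

theorem conj_apply_eq (φ : MulAut Fi22) (g : Fi22) :
    φ * MulAut.conj g * φ⁻¹ = MulAut.conj (φ g) := by
  ext a
  simp [MulAut.conj_apply]

theorem conj_injective_Fi22 : Function.Injective (MulAut.conj : Fi22 → MulAut Fi22) := fun a b h =>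
  card_faithful.2 (by rw [← permOf_conj, ← permOf_conj, h])

/-- The elements fixed by an automorphism are those whose permutation commutes with it. -/
theorem fixed_iff (φ : MulAut Fi22) (g : Fi22) :
    φ g = g ↔ rho g * permOf φ = permOf φ * rho g := by
  rw [← permOf_conj, ← map_mul, ← map_mul, permOf_injective.eq_iff,
    mul_inv_eq_iff_eq_mul.mp (conj_apply_eq φ g)]
  exact ⟨fun h => by rw [h], fun h => (conj_injective_Fi22 (mul_right_cancel h)).symm⟩

/-- the base points as cosets -/
theorem base_lt : ((levels.map Level.base).all fun b => Nat.blt b 3510) = true := by decide +kernel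

/-- Two elements of the group moving the base points alike are equal. -/
theorem eq_of_base {g h : Fi22}
    (e : ∀ b : Fin certA.N, (b : ℕ) ∈ levels.map Level.base → rho g b = rho h b) : g = h := by
  haveI : Finite Fi22 := finite_and_card.1
  refine setupA.base_injective chain_ok (chain_size.trans card_faithful.1.symm) ?_
  simp only [baseImages, chainBases, List.map_map]
  refine List.map_congr_left fun l hl => ?_
  simp only [Function.comp_apply]
  split
  · rename_i hb
    simp only [Option.map_some, Option.some.injEq]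
    exact e ⟨l.base, hb⟩ (List.mem_map.mpr ⟨l, hl, rfl⟩)
  · rfl

/-- Two outer automorphisms that agree on the images of the base points are equal. -/
theorem outer_eq_of_base {φ ψ : MulAut Fi22}
    (hφ : φ ∉ (MulAut.conj : Fi22 →* MulAut Fi22).range)
    (hψ : ψ ∉ (MulAut.conj : Fi22 →* MulAut Fi22).range)
    (e : ∀ b : Fin certA.N, (b : ℕ) ∈ levels.map Level.base →
      permOf φ (outerPerm b) = permOf ψ (outerPerm b)) : φ = ψ := by
  obtain ⟨u, rfl⟩ := outer_form hφ
  obtain ⟨v, rfl⟩ := outer_form hψ
  rw [eq_of_base (g := u) (h := v) fun b hb => ?_]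
  have := e b hb
  rwa [map_mul, map_mul, Equiv.Perm.mul_apply, Equiv.Perm.mul_apply, permOf_sOuter,
    outerPerm_twice, permOf_conj, permOf_conj] at this

end CfsgLib.Fi22Pres
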