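import Cfsg.Agent.Lib.TransCent.Fixed
import Cfsg.Agent.Lib.CosetEnum.CentSearch

/-!
A centralizer search using one scan over orbit representatives, then a backtrack search from each.
-/

set_option autoImplicit false

namespace CfsgLib.TransCent

open CfsgLib.CosetEnum

/-- from each possible image of `b` the search ends at one of the attached words -/
noncomputable def casesOK (C : Cert) (m : ℕ) (v : List ℕ) (q n b : ℕ) (F : List ℕ)
    (bases bs : List ℕ) (cases : List (ℕ × List (List ℕ))) : Bool :=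
  cases.all fun c => ltB c.1 C.N && (c.2.all fun u => u.all fun g => Nat.blt g C.K) &&
    C.searchOK m v n q bases c.2 bs (C.extend v q (F.map fun x => (x, x)) b c.1)

variable {G : Type*} [Group G] {C : Cert} {H : Subgroup G} {gen : ℕ → G}
  {ρ : G →* Equiv.Perm (Fin C.N)} {a : G} {m : ℕ} {zw : List ℕ}

/-- An element commuting with `v` and fixing the listed fixed cosets is a power of `v` times one of
the attached words. -/
theorem Env.scan_cases [Finite G] (e : Env C H gen ρ a m zw) {v : List ℕ}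
    (hv : ∀ g ∈ v, g < C.K) {q n b : ℕ} (hq : 0 < q) (hpow : prodW gen v ^ q = 1) (hb : b < C.N)
    {F : List ℕ} (hF : ∀ x ∈ F, C.run x (C.revInv v) = x) (hFN : ∀ x ∈ F, x < C.N)
    {cases : List (ℕ × List (List ℕ))}
    (hscan : ∀ x < C.N, scanOK C m v q n b (F.map fun x => (x, x)) (cases.map Prod.fst) x = true)
    {ls : List Level} (hok : chainOK C ls = true) (hsize : chainSize C ls = Nat.card G) {bs : List ℕ}
    (hcases : casesOK C m v q n b F (ls.map Level.base) bs cases = true)
    {g : G} (hg : Commute g (prodW gen v)) (hgF : FixedList ρ g F) :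
    ∃ h ∈ Subgroup.zpowers (prodW gen v), ∃ u ∈ cases.flatMap Prod.snd,
      g = h * prodW gen u ∧ Commute (prodW gen u) (prodW gen v) := by
  simp only [casesOK, List.all_eq_true, Bool.and_eq_true, ltB_iff, Nat.blt_eq] at hcases
  obtain ⟨h, hh, y, hy, e1, e2, e3⟩ := e.exists_ys hv hq hpow hb (ys := cases.map Prod.fst)
    (by
      intro y hy
      obtain ⟨c, hc, rfl⟩ := List.mem_map.mp hy
      exact (hcases c hc).1.1)
    hF hFN hscan hg hgF
  obtain ⟨c, hc, ey⟩ := List.mem_map.mp hy
  obtain ⟨⟨-, hlt⟩, hs⟩ := hcases c hc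
  have hd : ∀ p ∈ C.extend v q (F.map fun x => (x, x)) b c.1,
      ∃ z : Fin C.N, (z : ℕ) = p.1 ∧ (ρ (h⁻¹ * g) z : ℕ) = p.2 := by
    intro p hp
    rcases List.mem_append.mp hp with hp | hp
    · obtain ⟨x, hx, rfl⟩ := List.mem_map.mp hp
      obtain ⟨z, ez, hz⟩ := e2 x hx
      exact ⟨z, ez, by rw [hz]; exact ez⟩
    · obtain ⟨i, -, rfl⟩ := List.mem_map.mp hp
      refine ⟨ρ (prodW gen v ^ i) ⟨b, hb⟩, e.setup.shift_eq hv i _, ?_⟩
      rw [← Equiv.Perm.mul_apply, ← map_mul, (e3.pow_right i).eq, map_mul, Equiv.Perm.mul_apply, e1,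
        e.setup.shift_eq hv, ey]
  obtain ⟨u, hu, eu⟩ := e.setup.searchOK_spec e.rep e.graph.inv hv hok hsize
    (by simp only [List.all_eq_true, Nat.blt_eq]; exact hlt) e3 bs _ hs hd
  exact ⟨h, hh, u, List.mem_flatMap.mpr ⟨c, hc, hu⟩, by rw [← eu, mul_inv_cancel_left], eu ▸ e3⟩

end CfsgLib.TransCent
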