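import Cfsg.Agent.Lib.Fi22Pres.CheckAStep0
import Cfsg.Agent.Lib.Fi22Pres.CheckAStep1
import Cfsg.Agent.Lib.Fi22Pres.CheckAStep2
import Cfsg.Agent.Lib.CosetEnum.Use
import Cfsg.Agent.Lib.Fi22Pres.DataA

/-!
Kernel checks of coset enumeration data.
-/

set_option autoImplicit false
set_option Elab.async false

namespace CfsgLib.Fi22Pres
open CfsgLib.CosetEnum

theorem certA_complete : certA.Complete :=
  Cert.complete_of_blocks _ (k := 13) (n := 3) (k₂ := 12) (by decide +kernel)
    (fun j hj => by
      match j, hj with
      | 0, _ => exact certA_step0
      | 1, _ => exact certA_step1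
      | 2, _ => exact certA_step2
      | n + 3, h => omega)
    (by decide +kernel) (by decide +kernel) (by decide +kernel)

private theorem up_four {f : ℕ → Bool} (h0 : allUp f 10 0 = true) (h1 : allUp f 10 1024 = true)
    (h2 : allUp f 10 2048 = true) (h3 : allUp f 10 3072 = true) : allUp f 12 0 = true := by
  change band (band (allUp f 10 0) (allUp f 10 1024)) (band (allUp f 10 2048) (allUp f 10 3072)) = true
  rw [h0, h1, h2, h3]
  rfl

theorem certA_act0 : allUp certA.actOK' 10 0 = true := by decide +kernel
theorem certA_act1 : allUp certA.actOK' 10 1024 = true := by decide +kernel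
theorem certA_act2 : allUp certA.actOK' 10 2048 = true := by decide +kernel
theorem certA_act3 : allUp certA.actOK' 10 3072 = true := by decide +kernel

theorem certA_action : certA.IsAction :=
  Cert.isAction_of _ 12 12 (by decide +kernel) (by decide +kernel)
    (up_four certA_act0 certA_act1 certA_act2 certA_act3)
    (by decide +kernel) (by decide +kernel) (by decide +kernel) (by decide +kernel)

end CfsgLib.Fi22Pres
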