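import Cfsg.Agent.Lib.Fi22Pres.TriplesTransfer

/-!
The transpositions are the only class of three-transpositions of Fi22.
-/

set_option autoImplicit false
set_option Elab.async false

namespace CfsgLib.Fi22Pres

open CfsgLib.CosetEnum Cfsg.Spor CfsgLib.Fi22USix

theorem pair_sep : differ (powWord (pairWord ++ [1, 7] ++ pairWord ++ [7, 1]) 2) [] = true ∧
    differ (powWord (pairWord ++ [1, 7] ++ pairWord ++ [7, 1]) 3) [] = true := by decide +kernel

theorem triple_sep : differ (powWord (tripleWord ++ [1, 7] ++ tripleWord ++ [7, 1]) 2) [] = true ∧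
    differ (powWord (tripleWord ++ [1, 7] ++ tripleWord ++ [7, 1]) 3) [] = true := by decide +kernel

theorem sep_spec {j : Fi22} {w : List ℕ} (hw : ∀ g ∈ w, g < 9) (hj : prodW gen w = j)
    (h : differ (powWord (w ++ [1, 7] ++ w ++ [7, 1]) 2) [] = true ∧
      differ (powWord (w ++ [1, 7] ++ w ++ [7, 1]) 3) [] = true) :
    ∃ g : Fi22, (j * (g * j * g⁻¹)) ^ 2 ≠ 1 ∧ (j * (g * j * g⁻¹)) ^ 3 ≠ 1 := by
  have hl : ∀ n, ∀ l ∈ powWord (w ++ [1, 7] ++ w ++ [7, 1]) n, l < 9 := by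
    intro n
    induction n with
    | zero => simp [powWord]
    | succ n ih =>
      intro l hl
      simp only [powWord, List.replicate_succ, List.flatten_cons, List.mem_append] at hl ih
      rcases hl with hl | hl
      · simp only [List.mem_append, List.mem_cons, List.not_mem_nil, or_false] at hl
        rcases hl with ((h | h | h) | h) | h | h <;> first | exact hw l h | omega
      · exact ih l hl
  have hp : prodW gen (w ++ [1, 7] ++ w ++ [7, 1]) = j * (gen 1 * gen 7 * j * (gen 1 * gen 7)⁻¹) := by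
    rw [mul_inv_rev, inv_eq_of_mul_eq_one_right (gen_sq 1), inv_eq_of_mul_eq_one_right (gen_sq 7)]
    simp only [prodW_append, prodW_cons, prodW_nil, mul_one, hj, mul_assoc]
  refine ⟨gen 1 * gen 7, fun e => ?_, fun e => ?_⟩
  · refine differ_spec (hl 2) (by simp) h.1 ?_
    rw [prodW_powWord, hp, e, prodW_nil]
  · refine differ_spec (hl 3) (by simp) h.2 ?_
    rw [prodW_powWord, hp, e, prodW_nil]

theorem pair_not_three : ∃ g : Fi22, (pairProd * (g * pairProd * g⁻¹)) ^ 2 ≠ 1 ∧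
    (pairProd * (g * pairProd * g⁻¹)) ^ 3 ≠ 1 :=
  sep_spec pairWord_spec.1 pairWord_spec.2 pair_sep

theorem triple_not_three : ∃ g : Fi22, (tripleProd * (g * tripleProd * g⁻¹)) ^ 2 ≠ 1 ∧
    (tripleProd * (g * tripleProd * g⁻¹)) ^ 3 ≠ 1 :=
  sep_spec tripleWord_spec.1 tripleWord_spec.2 triple_sep

/-- A class of three-transpositions in a group isomorphic to Fi22 is the transposition class, given
that each involution is a product of one, two or three commuting transpositions. -/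
theorem class_unique {G : Type*} [Group G] {D : Set G} (e : Fi22 ≃* G) (hD : e '' transClass = D)
    (hcls : ∀ x : G, orderOf x = 2 → ∃ m : ℕ, 1 ≤ m ∧ m ≤ 3 ∧ (∃ l : List G, l.Nodup ∧
      l.length = m ∧ (∀ a ∈ l, a ∈ D) ∧ (∀ a ∈ l, ∀ b ∈ l, Commute a b) ∧ l.prod = x))
    (D' : Set G) (h : Cfsg.IsThreeTranspositionClass D') : D' = D := by
  obtain ⟨⟨hinv, hthree⟩, ⟨d', hd', hcl⟩, -⟩ := h
  obtain ⟨m, hm1, hm3, l, hl⟩ := hcls d' (hinv d' hd')
  have bad : ∀ j : Fi22, (∃ g : Fi22, (j * (g * j * g⁻¹)) ^ 2 ≠ 1 ∧ (j * (g * j * g⁻¹)) ^ 3 ≠ 1) →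
      ∀ k : Fi22, e (k * j * k⁻¹) = d' → False := by
    rintro j ⟨g, g2, g3⟩ k hk
    have hmem : e (k * (g * j * g⁻¹) * k⁻¹) ∈ D' := by
      rw [hcl]
      show IsConj d' _
      rw [isConj_iff]
      refine ⟨e (k * g * k⁻¹), ?_⟩
      rw [← hk, ← map_inv, ← map_mul, ← map_mul]
      congr 1
      group
    have hpow : ∀ n, (e (k * j * k⁻¹) * e (k * (g * j * g⁻¹) * k⁻¹)) ^ n = 1 →
        (j * (g * j * g⁻¹)) ^ n = 1 := by
      intro n hn
      rw [← map_mul, ← map_pow, MulEquiv.map_eq_one_iff,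
        show k * j * k⁻¹ * (k * (g * j * g⁻¹) * k⁻¹) = k * (j * (g * j * g⁻¹)) * k⁻¹ by group,
        conj_pow] at hn
      simpa using hn
    rcases hthree _ (hk ▸ hd') _ hmem with h | h
    · exact g2 (hpow 2 h)
    · exact g3 (hpow 3 h)
  obtain ⟨hn, hlen, hmemD, hcomm, hprod⟩ := hl
  interval_cases m
  · obtain ⟨a, rfl⟩ := List.length_eq_one_iff.mp hlen
    rw [List.prod_singleton] at hprod
    subst hprod
    obtain ⟨x, rfl⟩ := (mem_D_iff e hD).mp (hmemD a List.mem_cons_self)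
    rw [hcl, ← hD]
    ext y
    show IsConj (e (dTr x)) y ↔ _
    rw [isConj_iff]
    constructor
    · rintro ⟨c, rfl⟩
      refine ⟨e.symm c * dTr x * (e.symm c)⁻¹, mem_transClass.mpr ⟨rho (e.symm c) x, ?_⟩, by simp⟩
      exact (dTr_conj _ x).symm
    · rintro ⟨u, hu, rfl⟩
      obtain ⟨z, rfl⟩ := mem_transClass.mp hu
      refine ⟨e ((coreRep certA gen z)⁻¹ * coreRep certA gen x), ?_⟩
      rw [← map_inv, ← map_mul, ← map_mul]
      congr 1
      rw [dTr, conjAt, conjAt]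
      group
  · exfalso
    obtain ⟨a, b, rfl⟩ := List.length_eq_two.mp hlen
    obtain ⟨x, rfl⟩ := (mem_D_iff e hD).mp (hmemD a List.mem_cons_self)
    obtain ⟨y, rfl⟩ := (mem_D_iff e hD).mp (hmemD b (List.mem_cons_of_mem _ List.mem_cons_self))
    obtain ⟨g, gx, gy⟩ := pair_transitive (x := x) (y := y) (fun h => by simp [h] at hn)
      ((commute_map_iff e).mp (hcomm _ (by simp) _ (by simp)))
    refine bad pairProd pair_not_three g ?_
    rw [← hprod, pairProd, show g * (dTr pt0 * dTr pt7) * g⁻¹ =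
      g * dTr pt0 * g⁻¹ * (g * dTr pt7 * g⁻¹) by group, dTr_conj, dTr_conj, gx, gy, map_mul]
    simp [List.prod_cons]
  · exfalso
    obtain ⟨x, y, z, -, hgood, hp⟩ := triple_data e hD
      ⟨hn, hlen, hmemD, hcomm, hprod⟩
    obtain ⟨g, gx, gy, gz⟩ := triple_transitive hgood
    refine bad tripleProd triple_not_three g ?_
    rw [← hp, tripleProd, show g * (dTr pt0 * dTr pt7 * dTr pt62) * g⁻¹ =
      g * dTr pt0 * g⁻¹ * (g * dTr pt7 * g⁻¹) * (g * dTr pt62 * g⁻¹) by group, dTr_conj,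
      dTr_conj, dTr_conj, gx, gy, gz]

end CfsgLib.Fi22Pres
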