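import Mathlib

/-!
Normalizers of subgroups of prime order `q`, when `q²` does not divide the order of the group.
-/

set_option autoImplicit false
set_option linter.style.haveILetI false

namespace CfsgLib.SylowPrime

variable {G : Type*} [Group G] [Finite G] {q : ℕ} [Fact q.Prime]

theorem isSylow (hd : q ∣ Nat.card G) (hd2 : ¬ q * q ∣ Nat.card G) {X : Subgroup G}
    (hX : Nat.card X = q) : ∃ P : Sylow q G, (P : Subgroup G) = X := by
  have hq : q.Prime := Fact.out
  obtain ⟨P, hP⟩ := (IsPGroup.of_card (n := 1) (by rw [hX, pow_one]) : IsPGroup q X).exists_le_sylow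
  have hne : Nat.card G ≠ 0 := Nat.card_pos.ne'
  have hc : Nat.card (P : Subgroup G) = q := by
    rw [Sylow.card_eq_multiplicity]
    have h1 : 1 ≤ (Nat.card G).factorization q := (hq.dvd_iff_one_le_factorization hne).mp hd
    have h2 : ¬ 2 ≤ (Nat.card G).factorization q := fun h => hd2 (by
      rw [← pow_two]; exact (hq.pow_dvd_iff_le_factorization hne).mpr h)
    rw [show (Nat.card G).factorization q = 1 by omega, pow_one]
  exact ⟨P, (Subgroup.eq_of_le_of_card_ge hP (by rw [hX, hc])).symm⟩

theorem conj_of_card (hd : q ∣ Nat.card G) (hd2 : ¬ q * q ∣ Nat.card G) {X Y : Subgroup G}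
    (hX : Nat.card X = q) (hY : Nat.card Y = q) :
    ∃ g : G, X.map (MulAut.conj g).toMonoidHom = Y := by
  obtain ⟨P, rfl⟩ := isSylow hd hd2 hX
  obtain ⟨Q, rfl⟩ := isSylow hd hd2 hY
  obtain ⟨g, hg⟩ := MulAction.exists_smul_eq G P Q
  exact ⟨g, by rw [← hg, Sylow.coe_subgroup_smul]; rfl⟩

omit [Finite G] [Fact q.Prime] in
theorem map_centralizer_conj (g : G) (X : Subgroup G) :
    (Subgroup.centralizer (X : Set G)).map (MulAut.conj g).toMonoidHom =
      Subgroup.centralizer ((X.map (MulAut.conj g).toMonoidHom : Subgroup G) : Set G) := by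
  ext w
  rw [Subgroup.mem_map_equiv, Subgroup.mem_centralizer_iff, Subgroup.mem_centralizer_iff]
  constructor
  · rintro h _ ⟨a, ha, rfl⟩
    have := congrArg (MulAut.conj g) (h a ha)
    simpa [mul_assoc] using this
  · intro h a ha
    apply (MulAut.conj g).injective
    simpa [mul_assoc] using h _ ⟨a, ha, rfl⟩

theorem centralizer_card (hd : q ∣ Nat.card G) (hd2 : ¬ q * q ∣ Nat.card G) {X₀ X : Subgroup G}
    (h₀ : Nat.card X₀ = q) (hX : Nat.card X = q) :
    Nat.card (Subgroup.centralizer (X : Set G)) = Nat.card (Subgroup.centralizer (X₀ : Set G)) := by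
  obtain ⟨g, rfl⟩ := conj_of_card hd hd2 h₀ hX
  rw [← map_centralizer_conj]
  exact (Nat.card_congr ((Subgroup.centralizer (X₀ : Set G)).equivMapOfInjective _
    (MulAut.conj g).injective).toEquiv).symm

/-- The normalizer is determined by the centralizer and the congruence of Sylow. -/
theorem normalizer_card (hd : q ∣ Nat.card G) (hd2 : ¬ q * q ∣ Nat.card G) {X : Subgroup G}
    (hX : Nat.card X = q) {c a : ℕ} (hc : Nat.card (Subgroup.centralizer (X : Set G)) = c)
    (hres : ∀ b < q, c * b ∣ Nat.card G → Nat.card G / (c * b) % q = 1 → b = a) :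
    Nat.card (Subgroup.normalizer (X : Set G)) = c * a := by
  classical
  have hq : q.Prime := Fact.out
  haveI : IsCyclic X := isCyclic_of_prime_card hX
  set N := Subgroup.normalizer (X : Set G)
  let f := X.normalizerMonoidHom
  have hker : Nat.card f.ker = c := by
    rw [← hc, X.normalizerMonoidHom_ker]
    exact Nat.card_congr (Subgroup.subgroupOfEquivOfLe
      (Subgroup.centralizer_le_normalizer (X : Set G))).toEquiv
  have hN : Nat.card N = c * Nat.card f.range := by
    rw [← hker, ← Subgroup.index_ker, Subgroup.card_mul_index]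
  set b := Nat.card f.range
  have hb : b < q := by
    have h := Subgroup.card_le_card_group f.range
    rw [IsCyclic.card_mulAut, hX, Nat.totient_prime hq] at h
    have := hq.pos
    omega
  obtain ⟨P, hP⟩ := isSylow hd hd2 hX
  have hidx : N.index % q = 1 := by
    have h : N.index = Nat.card (Sylow q G) := by
      rw [Sylow.card_eq_index_normalizer P, ← Sylow.coe_coe, hP]
    rw [h, card_sylow_modEq_one q G, Nat.mod_eq_of_lt hq.one_lt]
  have hmul := N.card_mul_index
  rw [hN, hres b hb ⟨N.index, by rw [← hmul, hN]⟩ (by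
    rw [← hmul, hN, Nat.mul_div_cancel_left _ (by rw [← hN]; exact Nat.card_pos)]; exact hidx)]

end CfsgLib.SylowPrime
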