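import Cfsg.Agent.Lib.Classical.LatticeSix
import Cfsg.Agent.Lib.ClassicalAut.UnitaryTwist
import Cfsg.Agent.Lib.AutPSL.Out
import Cfsg.Agent.Lib.Fi22Pres.PairCentData

/-!
The action of the six-dimensional minus type orthogonal group over two elements on its 45 totally
singular lines, and the automorphism group of `PSU 4 F 2`.
-/

set_option autoImplicit false
set_option maxRecDepth 20000
set_option Elab.async false
set_option linter.style.haveILetI false

namespace CfsgLib.Fi22Pres.OrthLines

open Matrix CfsgLib.Orth CfsgLib.Classical CfsgLib.Classical.LatticeSix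
open scoped commutatorElement

/-- coordinates -/
abbrev Co : Type := (Fin 2 ⊕ Fin 2) ⊕ Fin 2

/-- the group -/
abbrev O6 : Type := ↥(Cfsg.isometryGroup (ZMod 2) q2)

/-- a vector from a number -/
def vecOf (n : ℕ) : Co → ZMod 2 := fun s => (((n >>> (i2 s : ℕ)) % 2 : ℕ) : ZMod 2)

/-- a line -/
def line (i : Fin 45) : Finset (Co → ZMod 2) := ((lineVecs.getD i []).map vecOf).toFinset

/-- the image of a set of vectors -/
def moveSet (g : O6) (L : Finset (Co → ZMod 2)) : Finset (Co → ZMod 2) :=
  L.image fun v => ((g : GL Co (ZMod 2)) : Matrix Co Co (ZMod 2)) *ᵥ v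

theorem moveSet_one (L : Finset (Co → ZMod 2)) : moveSet 1 L = L := by simp [moveSet]

theorem moveSet_mul (g h : O6) (L : Finset (Co → ZMod 2)) :
    moveSet (g * h) L = moveSet g (moveSet h L) := by
  rw [moveSet, moveSet, moveSet, Finset.image_image]
  exact Finset.image_congr fun v _ => by simp [Function.comp, Matrix.mulVec_mulVec]

theorem line_inj : ∀ i j, line i = line j → i = j := by decide +kernel

/-- the six reflections -/
def s6 (i : Fin 6) : O6 := h2 (sgen i)

/-- the line perm of a reflection as a function -/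
def imgFn (i : Fin 6) (l : Fin 45) : Fin 45 :=
  ⟨(lineImg.getD i []).getD l 0 % 45, Nat.mod_lt _ (by norm_num)⟩

theorem img_ok : ∀ i l, (line l).image (fun v => m2 (refl i) *ᵥ v) = line (imgFn i l) := by
  decide +kernel

theorem s6_line (i : Fin 6) (l : Fin 45) : moveSet (s6 i) (line l) = line (imgFn i l) := img_ok i l

theorem gens_top : Subgroup.closure (Set.range s6) = (⊤ : Subgroup O6) := by
  rw [eq_top_iff]
  rintro x -
  obtain ⟨⟨γ, hγ⟩, rfl⟩ := h2_surjective x
  have key : ∀ (y : GL (Fin 6) ℤ) (hy : y ∈ Γ), h2 ⟨y, hy⟩ ∈ Subgroup.closure (Set.range s6) := by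
    intro y hy
    induction hy using Subgroup.closure_induction with
    | mem z hz =>
      obtain ⟨i, rfl⟩ := hz
      exact Subgroup.subset_closure ⟨i, rfl⟩
    | one => rw [show (⟨1, one_mem _⟩ : Γ) = 1 from rfl, map_one]; exact one_mem _
    | mul a b ha hb iha ihb =>
      rw [show (⟨a * b, mul_mem ha hb⟩ : Γ) = ⟨a, ha⟩ * ⟨b, hb⟩ from rfl, map_mul]
      exact mul_mem iha ihb
    | inv a ha iha =>
      rw [show (⟨a⁻¹, inv_mem ha⟩ : Γ) = ⟨a, ha⟩⁻¹ from rfl, map_inv]
      exact inv_mem iha
  exact key γ hγ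

theorem exists_line (g : O6) (l : Fin 45) : ∃ m, line m = moveSet g (line l) := by
  have hg : g ∈ Subgroup.closure (Set.range s6) := by rw [gens_top]; exact Subgroup.mem_top _
  induction hg using Subgroup.closure_induction generalizing l with
  | mem z hz => obtain ⟨i, rfl⟩ := hz; exact ⟨imgFn i l, (s6_line i l).symm⟩
  | one => exact ⟨l, (moveSet_one _).symm⟩
  | mul a b _ _ iha ihb =>
    obtain ⟨m, hm⟩ := ihb l
    obtain ⟨k, hk⟩ := iha m
    exact ⟨k, by rw [moveSet_mul, ← hm, hk]⟩
  | inv a _ iha =>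
    choose f hf using iha
    have hinj : Function.Injective f := fun x y h => by
      refine line_inj x y ?_
      have := congrArg line h
      rw [hf, hf] at this
      have h' := congrArg (moveSet a⁻¹) this
      rwa [← moveSet_mul, ← moveSet_mul, inv_mul_cancel, moveSet_one, moveSet_one] at h'
    obtain ⟨m, hm⟩ := (Finite.injective_iff_surjective.mp hinj) l
    exact ⟨m, by rw [← hm, hf, ← moveSet_mul, inv_mul_cancel, moveSet_one]⟩

/-- the index of the moved line -/
noncomputable def lineMove (g : O6) (l : Fin 45) : Fin 45 := (exists_line g l).choose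

theorem lineMove_spec (g : O6) (l : Fin 45) : line (lineMove g l) = moveSet g (line l) :=
  (exists_line g l).choose_spec

/-- the action on the lines -/
noncomputable def mu : O6 →* Equiv.Perm (Fin 45) :=
  MonoidHom.toHomPerm
    { toFun := fun g => lineMove g
      map_one' := funext fun l => line_inj _ _ (by rw [lineMove_spec, moveSet_one]; rfl)
      map_mul' := fun g h => funext fun l => line_inj _ _ (by
        show line (lineMove (g * h) l) = line (lineMove g (lineMove h l))
        rw [lineMove_spec, lineMove_spec, lineMove_spec, moveSet_mul]) }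

theorem mu_apply (g : O6) (l : Fin 45) : line (mu g l) = moveSet g (line l) := lineMove_spec g l

theorem mu_s6 (i : Fin 6) (l : Fin 45) : mu (s6 i) l = imgFn i l :=
  line_inj _ _ (by rw [mu_apply, s6_line])

theorem meet_ok : ∀ v : Co → ZMod 2, q2 v = 0 → v ≠ 0 →
    ∃ a b : Fin 45, line a ∩ line b = {v} := by decide +kernel

theorem singular_span : ∀ k : Co, ∃ a b : Fin 64,
    q2 (vecOf a) = 0 ∧ q2 (vecOf b) = 0 ∧ vecOf a + vecOf b = Pi.single k 1 := by decide +kernel

theorem mu_injective : Function.Injective mu := by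
  refine (injective_iff_map_eq_one mu).2 fun g hg => ?_
  have hL : ∀ l, moveSet g (line l) = line l := fun l => by rw [← mu_apply, hg]; rfl
  set A := ((g : GL Co (ZMod 2)) : Matrix Co Co (ZMod 2))
  have hfix : ∀ v, q2 v = 0 → A *ᵥ v = v := by
    intro v hv
    by_cases h0 : v = 0
    · rw [h0, Matrix.mulVec_zero]
    obtain ⟨a, b, hab⟩ := meet_ok v hv h0
    have hv' : v ∈ line a ∧ v ∈ line b := by
      rw [← Finset.mem_inter, hab]; exact Finset.mem_singleton_self v
    have : A *ᵥ v ∈ line a ∩ line b := by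
      rw [Finset.mem_inter]
      constructor
      · rw [← hL a]; exact Finset.mem_image_of_mem _ hv'.1
      · rw [← hL b]; exact Finset.mem_image_of_mem _ hv'.2
    rwa [hab, Finset.mem_singleton] at this
  refine Subtype.ext (Units.ext (Matrix.ext_of_mulVec_single fun k => ?_))
  show A *ᵥ Pi.single k 1 = (1 : Matrix Co Co (ZMod 2)) *ᵥ _
  obtain ⟨a, b, ha, hb, hk⟩ := singular_span k
  rw [← hk, Matrix.mulVec_add, hfix _ ha, hfix _ hb, Matrix.one_mulVec]

theorem mu_range_card : Nat.card mu.range = 51840 := by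
  rw [← Nat.card_congr (MonoidHom.ofInjective mu_injective).toEquiv]
  exact card_O6

/-- the image of a word in the reflections -/
def wordImg (w : List ℕ) (l : Fin 45) : Fin 45 :=
  w.foldr (fun i m => imgFn ⟨i % 6, Nat.mod_lt _ (by norm_num)⟩ m) l

/-- the word as an element -/
def wordElt (w : List ℕ) : O6 := (w.map fun i => s6 ⟨i % 6, Nat.mod_lt _ (by norm_num)⟩).prod

theorem mu_word (w : List ℕ) (l : Fin 45) : mu (wordElt w) l = wordImg w l := by
  induction w with
  | nil => simp [wordElt, wordImg]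
  | cons i w ih =>
    show mu (s6 _ * wordElt w) l = imgFn _ (wordImg w l)
    rw [map_mul, Equiv.Perm.mul_apply, ih, mu_s6]

theorem only_first : ∀ y : Fin 45, (∀ w ∈ lineFixers, wordImg w y = y) → y = 0 := by
  decide +kernel

theorem fixers_fix : ∀ w ∈ lineFixers, wordImg w 0 = 0 := by decide +kernel

theorem reach_all : ∀ y : Fin 45, wordImg (lineWords.getD y []) 0 = y := by decide +kernel

theorem center_bot : Subgroup.center O6 = ⊥ := by
  rw [eq_bot_iff]
  intro z hz
  rw [Subgroup.mem_bot]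
  refine mu_injective (Equiv.ext fun y => ?_)
  have hc : ∀ g l, mu z (mu g l) = mu g (mu z l) := fun g l => by
    rw [← Equiv.Perm.mul_apply, ← map_mul, ← Subgroup.mem_center_iff.1 hz g, map_mul,
      Equiv.Perm.mul_apply]
  have h0 : mu z 0 = 0 := only_first _ fun w hw => by
    rw [← mu_word, ← hc, mu_word, fixers_fix w hw]
  rw [map_one, Equiv.Perm.one_apply, ← reach_all y, ← mu_word, hc, h0]

theorem omega_facts (F : Type) [Field F] [Fintype F] (hF : Fintype.card F = 4) :
    Nonempty (↥(Cfsg.Omega (ZMod 2) q2) ≃* Cfsg.PSU 4 F 2) ∧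
      IsSimpleGroup ↥(Cfsg.Omega (ZMod 2) q2) ∧
      Nat.card ↥(Cfsg.Omega (ZMod 2) q2) = 25920 ∧ Nat.card (Cfsg.PSU 4 F 2) = 25920 := by
  classical
  haveI : Fact (Nat.Prime 2) := ⟨Nat.prime_two⟩
  obtain ⟨e6⟩ := CfsgLib.Classical.KleinSix.pomega_six_minus (F := ZMod 2) (K := F) (q := 2)
    (ZMod.card 2) (by rw [hF]; norm_num) 1 1 aniso_two
  obtain ⟨C⟩ := Herm.exists_conj_of_card (F := F) (q := 2) (by rw [hF]; norm_num)
  obtain ⟨p, hp⟩ := CharP.exists F
  have := Fact.mk (CharP.char_is_prime F p)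
  have hsim : IsSimpleGroup (Cfsg.PSU 4 F 2) :=
    Herm.isSimpleGroup C p (by norm_num) (by norm_num)
  have hc6 : Nat.card (Cfsg.Omega (ZMod 2) q2) = 25920 := by
    have h := Subgroup.index_mul_card (Cfsg.Omega (ZMod 2) q2)
    rw [index_O6, card_O6] at h
    omega
  have hsu : Nat.card (Cfsg.PSU 4 F 2) = 25920 := by
    have h1 := Subgroup.card_eq_card_quotient_mul_card_subgroup (Subgroup.center (Cfsg.SU 4 F 2))
    rw [Herm.card_center C (by norm_num : 2 ≤ 4), show Nat.gcd 4 (2 + 1) = 1 by decide, mul_one] at h1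
    have h2 := Herm.card_SU C (n := 4) (by norm_num)
    rw [Herm.card_GU C, h1] at h2
    simp [-Nat.card_eq_fintype_card, Finset.prod_range_succ, Nat.even_iff] at h2
    show Nat.card (Cfsg.SU 4 F 2 ⧸ Subgroup.center (Cfsg.SU 4 F 2)) = _
    omega
  have hbot : Subgroup.center (Cfsg.Omega (ZMod 2) q2) = ⊥ := by
    have h := Subgroup.card_eq_card_quotient_mul_card_subgroup (Subgroup.center (Cfsg.Omega (ZMod 2) q2))
    rw [hc6, Nat.card_congr e6.toEquiv, hsu] at h
    exact Subgroup.eq_bot_of_card_eq _ (by omega)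
  let eΩ : Cfsg.Omega (ZMod 2) q2 ≃* Cfsg.PSU 4 F 2 :=
    (((QuotientGroup.quotientMulEquivOfEq hbot).trans QuotientGroup.quotientBot).symm).trans e6
  exact ⟨⟨eΩ⟩, eΩ.isSimpleGroup, hc6, hsu⟩

theorem omega_center : Subgroup.center ↥(Cfsg.Omega (ZMod 2) q2) = ⊥ := by
  haveI : Fact (Nat.Prime 2) := ⟨Nat.prime_two⟩
  letI := Fintype.ofFinite (GaloisField 2 2)
  obtain ⟨-, hs, hc, -⟩ := omega_facts (GaloisField 2 2)
    (by rw [← Nat.card_eq_fintype_card, GaloisField.card 2 2 (by norm_num)]; rfl)
  rcases Subgroup.Normal.eq_bot_or_eq_top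
    (H := Subgroup.center ↥(Cfsg.Omega (ZMod 2) q2)) inferInstance with h | h
  · exact h
  · exfalso
    letI : CommGroup ↥(Cfsg.Omega (ZMod 2) q2) :=
      { (inferInstance : Group ↥(Cfsg.Omega (ZMod 2) q2)) with
        mul_comm := fun a b => Subgroup.mem_center_iff.1 (h ▸ Subgroup.mem_top b) a }
    have hp : (Nat.card ↥(Cfsg.Omega (ZMod 2) q2)).Prime := IsSimpleGroup.prime_card
    rw [hc] at hp
    exact absurd hp (by norm_num)

/-- A normal subgroup meeting the simple subgroup trivially is trivial. -/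
theorem normal_bot_or_le (N : Subgroup O6) [N.Normal] :
    N = ⊥ ∨ Cfsg.Omega (ZMod 2) q2 ≤ N := by
  haveI : Fact (Nat.Prime 2) := ⟨Nat.prime_two⟩
  letI := Fintype.ofFinite (GaloisField 2 2)
  obtain ⟨-, hs, hc, -⟩ := omega_facts (GaloisField 2 2)
    (by rw [← Nat.card_eq_fintype_card, GaloisField.card 2 2 (by norm_num)]; rfl)
  set Ω := Cfsg.Omega (ZMod 2) q2
  haveI : Ω.Normal := inferInstance
  rcases Subgroup.Normal.eq_bot_or_eq_top (H := N.subgroupOf Ω) inferInstance with h | h
  · left
    have hd : N ⊓ Ω = ⊥ := by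
      rw [eq_bot_iff]
      intro x hx
      have : (⟨x, hx.2⟩ : Ω) ∈ N.subgroupOf Ω := hx.1
      rw [h, Subgroup.mem_bot] at this
      exact congrArg Subtype.val this
    have hcomm : ∀ a b : O6, ⁅a, b⁆ ∈ Ω := fun a b =>
      Subgroup.commutator_mem_commutator (Subgroup.mem_top _) (Subgroup.mem_top _)
    rw [eq_bot_iff]
    intro n hn
    rw [← center_bot, Subgroup.mem_center_iff]
    intro g
    rw [← commutatorElement_eq_one_iff_mul_comm]
    have h1 : ⁅g, n⁆ ∈ N ⊓ Ω :=
      ⟨(by rw [commutatorElement_def]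
           exact mul_mem (Subgroup.Normal.conj_mem (H := N) inferInstance n hn g)
             (N.inv_mem hn)), hcomm g n⟩
    rwa [hd, Subgroup.mem_bot] at h1
  · right
    intro x hx
    have : (⟨x, hx⟩ : Ω) ∈ N.subgroupOf Ω := h ▸ Subgroup.mem_top _
    exact this

/-- The orthogonal group is the automorphism group of `PSU 4 F 2`. -/
theorem mulAut_psu (F : Type) [Field F] [Fintype F] (hF : Fintype.card F = 4) :
    Nonempty (O6 ≃* MulAut (Cfsg.PSU 4 F 2)) := by
  haveI : Fact (Nat.Prime 2) := ⟨Nat.prime_two⟩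
  obtain ⟨⟨eΩ⟩, hs, hc, hsu⟩ := omega_facts F hF
  set Ω := Cfsg.Omega (ZMod 2) q2
  let φ : O6 →* MulAut (Cfsg.PSU 4 F 2) :=
    (MulAut.congr eΩ).toMonoidHom.comp MulAut.conjNormal
  have hinj : Function.Injective φ := by
    refine (injective_iff_map_eq_one φ).2 fun g hg => ?_
    have hg' : (MulAut.conjNormal g : MulAut Ω) = 1 :=
      (MulAut.congr eΩ).injective (by rw [map_one]; exact hg)
    rcases normal_bot_or_le (MulAut.conjNormal : O6 →* MulAut Ω).ker with h | h
    · exact (Subgroup.mem_bot).1 (h ▸ MonoidHom.mem_ker.2 hg')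
    · exfalso
      have : Subgroup.center Ω = ⊤ := by
        rw [eq_top_iff]
        intro x _
        rw [Subgroup.mem_center_iff]
        intro y
        have hx := congrArg (fun θ : MulAut Ω => (θ y : O6)) (MonoidHom.mem_ker.1 (h x.2))
        simp only [MulAut.conjNormal_apply, MulAut.one_apply] at hx
        apply Subtype.ext
        show (y : O6) * x = x * y
        rw [eq_comm, ← mul_inv_eq_iff_eq_mul]
        exact hx
      rw [omega_center] at this
      have h1 : Nat.card (⊥ : Subgroup Ω) = Nat.card (⊤ : Subgroup Ω) := by rw [this]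
      rw [Subgroup.card_bot, Subgroup.card_top, hc] at h1
      omega
  have hcard : Nat.card (MulAut (Cfsg.PSU 4 F 2)) = 51840 := by
    have hFq : Fintype.card F = 2 ^ (2 * 1) := by rw [hF]; norm_num
    have := CfsgLib.AutPSL.charP_of_card (F := F) hFq
    obtain ⟨K⟩ := CfsgLib.ClassicalAut.Unitary.exists_conj (F := F) (p := 2) (f := 1) (q := 2) rfl
      (by rw [Nat.card_eq_fintype_card, hF]; norm_num)
    rw [CfsgLib.ClassicalAut.Unitary.card_mulAut K 2 (by norm_num) (by norm_num),
      (CfsgLib.AutPSL.card_ringAut_isCyclic hFq (by norm_num)).2, hsu]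
    rfl
  haveI : Finite (MulAut (Cfsg.PSU 4 F 2)) := Nat.finite_of_card_ne_zero (by rw [hcard]; norm_num)
  exact ⟨MulEquiv.ofBijective φ ((Nat.bijective_iff_injective_and_card φ).2
    ⟨hinj, by rw [hcard]; exact card_O6⟩)⟩

end CfsgLib.Fi22Pres.OrthLines
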