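import Cfsg.Agent.Lib.Fi22Pres.OutChecks

/-!
The outer automorphism group of the presented Fischer group Fi22 has order two.
-/

set_option autoImplicit false

namespace CfsgLib.Fi22Pres

open CfsgLib.CosetEnum Cfsg.Spor

theorem differ_spec {u w : List ℕ} (hu : ∀ g ∈ u, g < 9) (hw : ∀ g ∈ w, g < 9)
    (h : differ u w = true) : prodW gen u ≠ prodW gen w := by
  simp only [differ, List.any_eq_true, List.mem_range, Bool.not_eq_true'] at h
  obtain ⟨x, hx, hne⟩ := h
  exact setupA.ne_of_run hu hw (x := x) hx hne

theorem hN : certA.N ≤ 2 ^ 12 := by decide +kernel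

theorem repWords : setupA.RepWords := setupA.repWords_of rep_ok hN

theorem comm_first : ∀ h ∈ subA, h * gen 0 = gen 0 * h :=
  setupA.comm_of_subs card_faithful.2 (show 0 < certA.K by decide +kernel) subs_comm hN

theorem conj_letters {x : ℕ} (hx : x < 3510) : ∀ g ∈ certA.conjWord 0 x, g < 9 :=
  (setupA.conjWord_eq repWords (show 0 < certA.K by decide +kernel) ⟨x, hx⟩).1

theorem conj_eq {x : ℕ} (hx : x < 3510) :
    conjAt certA gen (gen 0) x = prodW gen (certA.conjWord 0 x) :=
  (setupA.conjWord_eq repWords (show 0 < certA.K by decide +kernel) ⟨x, hx⟩).2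

theorem mem_append_zero {w : List ℕ} (hw : ∀ g ∈ w, g < 9) : ∀ g ∈ w ++ [0], g < 9 := by
  intro g hg
  rcases List.mem_append.mp hg with hg | hg
  · exact hw g hg
  · rw [List.mem_singleton.mp hg]; norm_num

theorem graph : setupA.ConjGraph (gen 0) commMask := by
  refine setupA.conjGraph_rankThree comm_first subMask0_orbit subMask1_orbit suborbits.cover ?_ ?_ ?_
  · rw [conj_eq (by norm_num)]
    have h := setupA.eq_of_sameAt card_faithful.2
      (List.forall_mem_cons.mpr ⟨by decide +kernel, conj_letters (by norm_num)⟩)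
      (mem_append_zero (conj_letters (by norm_num))) comm_rep hN
    rw [prodW_cons, prodW_append, prodW_cons, prodW_nil, mul_one] at h
    exact h
  · rw [conj_eq (by norm_num)]
    have h := differ_spec (conj_letters (by norm_num)) (by decide) rep_ne
    simpa using h
  · rw [conj_eq (by norm_num)]
    intro hc
    refine differ_spec (List.forall_mem_cons.mpr ⟨by norm_num, conj_letters (by norm_num)⟩)
      (mem_append_zero (conj_letters (by norm_num))) noncomm_rep ?_
    rw [prodW_cons, prodW_append, prodW_cons, prodW_nil, mul_one]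
    exact hc.eq

theorem first_facts : gen 0 * gen 0 = 1 ∧ gen 0 ≠ 1 := by
  refine ⟨gen_sq 0, ?_⟩
  have h := differ_spec (u := [0]) (w := []) (by decide) (by decide) first_moves
  simpa using h

theorem eleven_lt : ∀ g ∈ elevenWord, g < 9 := by
  have h := eleven_letters
  simp only [List.all_eq_true, Nat.blt_eq] at h
  exact h

theorem eleven_facts : orderOf (prodW gen elevenWord) = 11 ∧
    Commute (gen 0) (prodW gen elevenWord) := by
  constructor
  · haveI : Fact (Nat.Prime 11) := ⟨by norm_num⟩
    refine orderOf_eq_prime (setupA.pow_eq_one card_faithful.2 eleven_letters eleven_pow hN)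
      fun e => ?_
    have h := eleven_fixed
    unfold Cert.oneFixed at h
    rw [band_eq_true] at h
    have h1 := Cert.allPts_spec h.2 1 (by decide +kernel)
    simp only [strict_eq] at h1
    have h2 := setupA.rho_prodW eleven_lt (⟨1, by decide +kernel⟩ : Fin certA.N)
    rw [e, map_one] at h2
    simp [← h2] at h1
    simp [show Nat.beq 1 0 = false from rfl] at h1
  · have h := setupA.eq_of_sameAt card_faithful.2
      (List.forall_mem_cons.mpr ⟨by decide +kernel, eleven_lt⟩) (mem_append_zero eleven_lt)
      eleven_comm hN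
    rw [prodW_cons, prodW_append, prodW_cons, prodW_nil, mul_one] at h
    exact h

theorem eleven_cent (g : Fi22) (hg : Commute g (prodW gen elevenWord)) (h2 : g * g = 1)
    (h1 : g ≠ 1) : g = gen 0 := by
  obtain ⟨i, u, hu, e⟩ := setupA.centralizer_cases repWords (graph.inv) eleven_lt eleven_fixed
    eleven_first chain_ok (chain_size.trans card_faithful.1.symm) (leaves := [[], [0]])
    (by decide +kernel) eleven_search hg
  set V := prodW gen elevenWord
  have hc : Commute (prodW gen u) V := by
    rcases List.mem_cons.mp hu with rfl | hu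
    · simp
    · rw [List.mem_singleton.mp hu]
      simpa using eleven_facts.2
  have hu2 : prodW gen u * prodW gen u = 1 := by
    rcases List.mem_cons.mp hu with rfl | hu
    · simp
    · rw [List.mem_singleton.mp hu]
      simpa using first_facts.1
  have hV : (V ^ i) ^ 2 = 1 := by
    rw [e] at h2
    rw [pow_two]
    calc V ^ i * V ^ i = V ^ i * V ^ i * (prodW gen u * prodW gen u) := by rw [hu2, mul_one]
      _ = V ^ i * prodW gen u * (V ^ i * prodW gen u) :=
        (hc.pow_right i).symm.mul_mul_mul_comm _ _
      _ = 1 := h2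
  have hVi : V ^ i = 1 := by
    have hd : 11 ∣ i * 2 := by
      rw [← eleven_facts.1]
      exact orderOf_dvd_of_pow_eq_one (by rwa [pow_mul])
    obtain ⟨c, rfl⟩ : 11 ∣ i := (Nat.Coprime.dvd_of_dvd_mul_right (by norm_num) hd)
    rw [pow_mul, ← eleven_facts.1, pow_orderOf_eq_one, one_pow]
  rw [hVi, one_mul] at e
  rcases List.mem_cons.mp hu with rfl | hu
  · exact absurd e (by simpa using h1)
  · rw [List.mem_singleton.mp hu] at e
    simpa using e

theorem inner_fix (φ : MulAut Fi22) : ∃ g : Fi22, g * φ (gen 0) * g⁻¹ = gen 0 := by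
  haveI : Fact (Nat.Prime 11) := ⟨by norm_num⟩
  exact exists_inner_fix eleven_facts.1 (by rw [card_faithful.1]; norm_num) eleven_facts.2
    first_facts.1 first_facts.2 eleven_cent φ

theorem std_spec {k : ℕ} (hk : k < 9) :
    stdTuple.getD k 0 < 3510 ∧ conjAt certA gen (gen 0) (stdTuple.getD k 0) = gen k := by
  have h := std_words
  simp only [List.all_eq_true, List.mem_range, Bool.and_eq_true, ltB_iff] at h
  obtain ⟨h1, h2⟩ := h k hk
  refine ⟨h1, ?_⟩
  rw [conj_eq h1, setupA.eq_of_sameAt card_faithful.2 (conj_letters h1) (w := [k])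
    (fun g hg => by rw [List.mem_singleton.mp hg]; exact hk) h2 hN]
  simp

theorem gen_conj (k : ℕ) (hk : k < certA.K) : ∃ g : Fi22, gen k = g * gen 0 * g⁻¹ := by
  obtain ⟨-, h⟩ := std_spec (k := k) hk
  refine ⟨(coreRep certA gen (stdTuple.getD k 0))⁻¹, ?_⟩
  rw [← h, conjAt, inv_inv]

/-- the outer permutation -/
noncomputable def outerPerm : Equiv.Perm (Fin certA.N) :=
  Function.Involutive.toPerm
    (fun x => ⟨outerMap x % certA.N, Nat.mod_lt _ (lt_of_le_of_lt (Nat.zero_le _) x.2)⟩) (by
      intro x
      have h := allUp_spec outer_ok x (Nat.zero_le _) (by have := x.2; have := hN; omega)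
      unfold outerOK at h
      simp only [strict_eq] at h
      rw [show ltB (x : ℕ) 3510 = true from ltB_iff.mpr x.2, pick_true, band_eq_true,
        band_eq_true, ltB_iff] at h
      refine Fin.ext ?_
      show outerMap (outerMap x % certA.N) % certA.N = x
      rw [Nat.mod_eq_of_lt (show outerMap x < certA.N from h.1), Nat.eq_of_beq_eq_true h.2.1,
        Nat.mod_eq_of_lt x.2])

theorem outer_point (x : Fin certA.N) : outerMap x < 3510 ∧ outerMap (outerMap x) = x ∧
    ∀ k < 9, certA.run (outerMap x) (certA.revInv [k]) < 3510 ∧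
      outerMap (certA.run (outerMap x) (certA.revInv [k])) =
        certA.run x (certA.revInv (outImg k)) := by
  have h := allUp_spec outer_ok x (Nat.zero_le _) (by have := x.2; have := hN; omega)
  unfold outerOK at h
  simp only [strict_eq] at h
  rw [show ltB (x : ℕ) 3510 = true from ltB_iff.mpr x.2, pick_true, band_eq_true,
    band_eq_true, ltB_iff] at h
  refine ⟨h.1, Nat.eq_of_beq_eq_true h.2.1, fun k hk => ?_⟩
  have h' := Cert.allBelow_spec h.2.2 k hk
  rw [band_eq_true, ltB_iff] at h'
  exact ⟨h'.1, Nat.eq_of_beq_eq_true h'.2⟩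

theorem outerPerm_apply (x : Fin certA.N) : (outerPerm x : ℕ) = outerMap x := by
  show outerMap x % certA.N = outerMap x
  exact Nat.mod_eq_of_lt (outer_point x).1

theorem out_card : Nat.card (Cfsg.Out Fi22) = 2 := by
  haveI : IsSimpleGroup Fi22 := isFi22.1
  have hsq : outerPerm * outerPerm = 1 := Equiv.ext fun x => by
    refine Fin.ext ?_
    rw [Equiv.Perm.mul_apply, outerPerm_apply, outerPerm_apply, (outer_point x).2.1]
    rfl
  have hle : Nat.card (Cfsg.Out Fi22) ≤ 2 :=
    setupA.card_out_le repWords graph inner_fix gen_conj (std := stdTuple) rfl (by decide +kernel)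
      (fun k hk => std_spec hk) (by decide +kernel) tup_ok
  have hlt : 1 < Nat.card (Cfsg.Out Fi22) := by
    refine setupA.one_lt_card_out card_faithful.2 (by rw [card_faithful.1]; norm_num) only_base
      outerPerm hsq (sign_involution (j := 787) outerPerm hsq outerMap outerPerm_apply
        (by rw [show certA.N = 3510 from rfl, outer_fixed])) fun k hk => ?_
    have hl := outer_letters
    simp only [List.all_eq_true, List.mem_range, Nat.blt_eq] at hl
    refine ⟨prodW gen (outImg k), Equiv.ext fun x => Fin.ext ?_⟩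
    rw [setupA.rho_prodW (hl k hk), Equiv.Perm.mul_apply, Equiv.Perm.mul_apply, outerPerm_apply]
    have h2 := setupA.rho_prodW (w := [k]) (fun g hg => by rw [List.mem_singleton.mp hg]; exact hk)
      (outerPerm x)
    rw [outerPerm_apply, prodW_cons, prodW_nil, mul_one] at h2
    rw [h2]
    exact ((outer_point x).2.2 k hk).2.symm
  omega

end CfsgLib.Fi22Pres
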