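import Cfsg.Agent.Lib.CosetEnum.OutBound
import Cfsg.Agent.Lib.Fi22Pres.Main
import Cfsg.Agent.Lib.Fi22Pres.OutData

/-!
Kernel checks for the outer automorphisms of the presented Fischer group Fi22.
-/

set_option autoImplicit false
set_option Elab.async false

namespace CfsgLib.Fi22Pres

open CfsgLib.CosetEnum

/-- the mask of the commuting cosets -/
def commMask : ℕ := 1 ||| subMask0

theorem rep_ok : allUp certA.repOK' 12 0 = true := by decide +kernel

theorem only_base : onlyBaseOK certA = true := by decide +kernel

theorem subs_comm : subsCommOK certA 0 12 = true := by decide +kernel

theorem eleven_comm :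
    allUp (sameAt certA (0 :: elevenWord) (elevenWord ++ [0])) 12 0 = true := by decide +kernel

theorem eleven_pow : allUp (wordFix certA (powWord elevenWord 11)) 12 0 = true := by decide +kernel

theorem eleven_fixed : certA.oneFixed elevenWord = true := by decide +kernel

theorem eleven_first : certA.firstOK commMask elevenWord 6 11 8 = true := by decide +kernel

theorem eleven_search :
    certA.searchOK commMask elevenWord 6 11 (levels.map Level.base) [[], [0]] elevenSeq
      (certA.extend elevenWord 11 [(0, 0)] 8 8) = true := by decide +kernel

theorem tup_ok : certA.tupOK commMask stdTuple tupNodes tupLeaves = true := by decide +kernel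

theorem std_words : ((List.range 9).all fun k =>
    ltB (stdTuple.getD k 0) 3510 &&
      allUp (sameAt certA (certA.conjWord 0 (stdTuple.getD k 0)) [k]) 12 0) = true := by
  decide +kernel

theorem first_square : allUp (wordFix certA (powWord [0] 2)) 12 0 = true := by decide +kernel

/-- the images of the generators under the outer automorphism -/
noncomputable def outImg (k : ℕ) : List ℕ :=
  pick (Nat.beq k 7) (certA.conjWord 0 427) [k]

/-- the outer permutation on numbers -/
noncomputable def outerMap (x : ℕ) : ℕ := outerTab.at' 20 x

/-- the check of the outer permutation at one point -/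
noncomputable def outerOK (x : ℕ) : Bool :=
  strict x fun x => pick (ltB x 3510)
    (band (ltB (outerMap x) 3510) (band (Nat.beq (outerMap (outerMap x)) x)
      (Cert.allBelow 9 fun k => band (ltB (certA.run (outerMap x) (certA.revInv [k])) 3510)
        (Nat.beq (outerMap (certA.run (outerMap x) (certA.revInv [k])))
          (certA.run x (certA.revInv (outImg k))))))) true

theorem outer_ok : allUp outerOK 12 0 = true := by decide +kernel

theorem outer_letters : ((List.range 9).all fun k => (outImg k).all fun g => Nat.blt g 9) = true := by
  decide +kernel

theorem outer_fixed : fixCount outerMap 3510 = 360 := by decide +kernel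

/-- some coset is moved differently by two words -/
noncomputable def differ (u w : List ℕ) : Bool :=
  (List.range 3510).any fun x =>
    !(Nat.beq (certA.run x (certA.revInv u)) (certA.run x (certA.revInv w)))

theorem comm_rep : allUp (sameAt certA (0 :: certA.conjWord 0 7) (certA.conjWord 0 7 ++ [0])) 12 0
    = true := by decide +kernel

theorem rep_ne : differ (certA.conjWord 0 7) [0] = true := by decide +kernel

theorem noncomm_rep : differ (0 :: certA.conjWord 0 1) (certA.conjWord 0 1 ++ [0]) = true := by
  decide +kernel

theorem first_moves : differ [0] [] = true := by decide +kernel

theorem eleven_letters : (elevenWord.all fun g => Nat.blt g 9) = true := by decide +kernel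

end CfsgLib.Fi22Pres
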