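import Mathlib.Data.List.Basic

/-!
Data for the outer involutions of the presented Fischer group Fi22 and their centralizers.
-/

set_option autoImplicit false
set_option linter.style.longLine false

namespace CfsgLib.Fi22Pres

/-- a word carrying the pair of the standard frame to that of the fixed pair -/
def outFrame : List ℕ :=
  [7, 4]

/-- reflections giving the action of the outer involution on the lines -/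
def outReflWord : List ℕ :=
  [2, 3, 4, 3, 2]

/-- the two classes of odd involutions, as products of reflections -/
def outSigma : List (List ℕ) :=
  [[2, 3, 4, 3, 2], [3, 4, 3, 1, 2, 3, 4]]

/-- generators of a Sylow 2-subgroup, as products of reflections -/
def outTwoGens : List (List ℕ) :=
  [[1, 2, 3, 1, 2], [1, 2], [0, 2, 3, 1, 4, 3, 2, 0]]

/-- its elements, as products of the generators -/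
def outTwoElts : List (List ℕ) :=
  [[], [0], [1], [2], [1, 0], [2, 0], [0, 1], [2, 1], [0, 2], [1, 2], [0, 1, 0], [2, 1, 0], [0, 2, 0],
  [1, 2, 0], [1, 0, 1], [2, 0, 1], [0, 2, 1], [1, 2, 1], [1, 0, 2], [2, 0, 2], [0, 1, 2], [2, 1, 2],
  [1, 0, 1, 0], [2, 0, 1, 0], [0, 2, 1, 0], [1, 2, 1, 0], [1, 0, 2, 0], [2, 0, 2, 0], [0, 1, 2, 0],
  [2, 1, 2, 0], [2, 1, 0, 1], [0, 2, 0, 1], [1, 2, 0, 1], [1, 0, 2, 1], [2, 0, 2, 1], [2, 1, 2, 1],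
  [0, 1, 0, 2], [2, 1, 0, 2], [1, 2, 0, 2], [2, 0, 1, 2], [0, 2, 1, 2], [2, 1, 0, 1, 0], [0, 2, 0, 1, 0],
  [1, 2, 0, 1, 0], [1, 0, 2, 1, 0], [2, 0, 2, 1, 0], [2, 1, 2, 1, 0], [0, 1, 0, 2, 0], [2, 1, 0, 2, 0],
  [1, 2, 0, 2, 0], [2, 0, 1, 2, 0], [0, 2, 1, 2, 0], [0, 2, 1, 0, 1], [1, 0, 2, 0, 1], [2, 0, 2, 0, 1],
  [2, 1, 2, 0, 1], [2, 1, 0, 2, 1], [1, 2, 0, 2, 1], [0, 2, 1, 2, 1], [2, 0, 1, 0, 2], [0, 2, 1, 0, 2],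
  [0, 1, 2, 0, 2], [2, 1, 2, 0, 2], [0, 2, 0, 1, 2], [2, 0, 2, 1, 2], [0, 2, 1, 0, 1, 0], [1, 0, 2, 0, 1, 0],
  [2, 0, 2, 0, 1, 0], [2, 1, 2, 0, 1, 0], [2, 1, 0, 2, 1, 0], [1, 2, 0, 2, 1, 0], [0, 2, 1, 2, 1, 0],
  [2, 0, 1, 0, 2, 0], [0, 2, 1, 0, 2, 0], [0, 1, 2, 0, 2, 0], [2, 1, 2, 0, 2, 0], [0, 2, 0, 1, 2, 0],
  [2, 0, 2, 1, 2, 0], [2, 0, 2, 1, 0, 1], [2, 1, 0, 2, 0, 1], [1, 2, 0, 2, 0, 1], [0, 2, 1, 2, 0, 1],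
  [0, 2, 1, 0, 2, 1], [2, 1, 2, 0, 2, 1], [2, 0, 2, 1, 2, 1], [0, 2, 0, 1, 0, 2], [2, 0, 2, 1, 0, 2],
  [2, 0, 1, 2, 0, 2], [0, 2, 1, 2, 0, 2], [2, 0, 2, 0, 1, 2], [2, 0, 2, 1, 0, 1, 0], [2, 1, 0, 2, 0, 1, 0],
  [1, 2, 0, 2, 0, 1, 0], [0, 2, 1, 2, 0, 1, 0], [0, 2, 1, 0, 2, 1, 0], [2, 1, 2, 0, 2, 1, 0],
  [2, 0, 2, 1, 2, 1, 0], [0, 2, 0, 1, 0, 2, 0], [2, 0, 2, 1, 0, 2, 0], [2, 0, 1, 2, 0, 2, 0],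
  [0, 2, 1, 2, 0, 2, 0], [2, 0, 2, 0, 1, 2, 0], [0, 2, 1, 0, 2, 0, 1], [2, 1, 2, 0, 2, 0, 1],
  [2, 0, 2, 1, 2, 0, 1], [2, 0, 2, 1, 0, 2, 1], [0, 2, 1, 2, 0, 2, 1], [2, 0, 2, 0, 1, 0, 2],
  [0, 2, 0, 1, 2, 0, 2], [2, 0, 2, 1, 2, 0, 2], [0, 2, 1, 0, 2, 0, 1, 0], [2, 1, 2, 0, 2, 0, 1, 0],
  [2, 0, 2, 1, 2, 0, 1, 0], [2, 0, 2, 1, 0, 2, 1, 0], [0, 2, 1, 2, 0, 2, 1, 0], [2, 0, 2, 0, 1, 0, 2, 0],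
  [0, 2, 0, 1, 2, 0, 2, 0], [2, 0, 2, 1, 2, 0, 2, 0], [2, 0, 2, 1, 0, 2, 0, 1], [0, 2, 1, 2, 0, 2, 0, 1],
  [2, 0, 2, 1, 2, 0, 2, 1], [2, 0, 2, 0, 1, 2, 0, 2], [2, 0, 2, 1, 0, 2, 0, 1, 0], [0, 2, 1, 2, 0, 2, 0, 1, 0],
  [2, 0, 2, 1, 2, 0, 2, 1, 0], [2, 0, 2, 0, 1, 2, 0, 2, 0], [2, 0, 2, 1, 2, 0, 2, 0, 1],
  [2, 0, 2, 1, 2, 0, 2, 0, 1, 0]]

/-- the products of generators with elements -/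
def outTwoStep : List (List ℕ) :=
  [
  [1, 0, 6, 8, 10, 12, 2, 16, 3, 20, 4, 24, 5, 28, 22, 31, 7, 25, 36, 27, 9, 40, 14, 42, 11, 17, 47, 19, 13, 51, 52, 15, 43, 44, 54, 58, 18, 60, 61, 63, 21, 65, 23, 32, 33, 67, 71, 26, 73, 74, 76, 29, 30, 66, 34, 81, 82, 70, 35, 85, 37, 38, 88, 39, 89, 41, 53, 45, 93, 94, 57, 46, 97, 48, 49, 100, 50, 101, 90, 102, 92, 55, 56, 106, 96, 59, 107, 108, 62, 64, 78, 110, 80, 68, 69, 114, 84, 72, 115, 116, 75, 77, 79, 119, 112, 113, 83, 86, 87, 121, 91, 123, 104, 105, 95, 98, 99, 125, 122, 103, 124, 109, 118, 111, 120, 117, 127, 126],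
  [2, 4, 0, 9, 1, 13, 14, 17, 18, 3, 22, 25, 26, 5, 6, 32, 33, 7, 8, 38, 30, 35, 10, 43, 44, 11, 12, 49, 41, 46, 20, 53, 15, 16, 57, 21, 52, 58, 19, 55, 56, 28, 66, 23, 24, 70, 29, 65, 71, 27, 68, 69, 36, 31, 80, 39, 40, 34, 37, 81, 82, 78, 84, 79, 83, 47, 42, 92, 50, 51, 45, 48, 93, 94, 90, 96, 91, 95, 61, 63, 54, 59, 60, 64, 62, 102, 106, 104, 105, 103, 74, 76, 67, 72, 73, 77, 75, 110, 114, 112, 113, 111, 85, 89, 87, 88, 86, 119, 118, 120, 97, 101, 99, 100, 98, 123, 122, 124, 108, 107, 109, 126, 116, 115, 117, 127, 121, 125],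
  [3, 5, 7, 0, 11, 1, 15, 2, 19, 21, 23, 4, 27, 29, 30, 6, 34, 35, 37, 8, 39, 9, 41, 10, 45, 46, 48, 12, 50, 13, 14, 54, 55, 56, 16, 17, 59, 18, 62, 20, 64, 22, 67, 68, 69, 24, 25, 72, 26, 75, 28, 77, 78, 79, 31, 32, 33, 83, 84, 36, 86, 87, 38, 89, 40, 90, 91, 42, 43, 44, 95, 96, 47, 98, 99, 49, 101, 51, 52, 53, 103, 104, 105, 57, 58, 107, 60, 61, 109, 63, 65, 66, 111, 112, 113, 70, 71, 115, 73, 74, 117, 76, 118, 80, 81, 82, 120, 85, 121, 88, 122, 92, 93, 94, 124, 97, 125, 100, 102, 126, 106, 108, 110, 127, 114, 116, 119, 123]]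

/-- class and conjugator of an element -/
def outTwoWit : List (ℕ × List ℕ) :=
  [(0, []), (1, [1, 4]), (0, []), (0, []), (0, []), (0, []), (0, []), (0, []), (0, []), (0, []), (0, []),
  (0, []), (0, []), (0, []), (1, [2, 4]), (0, []), (0, []), (0, []), (0, []), (1, []), (0, []), (0, []),
  (0, []), (0, []), (0, []), (2, [0, 1, 2, 0, 4]), (0, []), (0, []), (0, []), (0, []), (2, [2, 0, 4]), (0, []),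
  (0, []), (0, []), (0, []), (0, []), (0, []), (0, []), (0, []), (0, []), (0, []), (0, []), (0, []), (0, []),
  (0, []), (0, []), (0, []), (0, []), (0, []), (0, []), (0, []), (0, []), (0, []), (0, []), (0, []), (0, []),
  (0, []), (1, [1, 2]), (0, []), (0, []), (0, []), (0, []), (0, []), (0, []), (0, []), (2, [0, 2, 0, 3, 2, 4]),
  (2, [0, 2, 0, 3, 1, 4]), (0, []), (0, []), (0, []), (0, []), (0, []), (0, []), (0, []), (0, []), (0, []),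
  (0, []), (0, []), (0, []), (0, []), (0, []), (0, []), (0, []), (2, [1, 2, 0]), (2, [0, 2, 0]), (0, []),
  (0, []), (0, []), (0, []), (0, []), (2, [2, 4]), (0, []), (2, [1, 4]), (0, []), (0, []), (0, []), (0, []),
  (0, []), (0, []), (0, []), (0, []), (0, []), (0, []), (0, []), (0, []), (0, []), (0, []), (0, []), (0, []),
  (0, []), (0, []), (0, []), (0, []), (0, []), (2, [0, 2, 0, 3, 1, 2]), (0, []), (0, []), (0, []),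
  (2, [0, 2, 0, 3]), (0, []), (0, []), (0, []), (0, []), (0, []), (2, [1, 2]), (0, []), (2, []), (0, [])]

/-- part 0 of a word of the second lift -/
def outTauWordPart0 : List ℕ :=
  [4, 3, 2, 1, 0, 7, 4, 3, 2, 1, 0, 1, 2, 3, 4, 7, 0, 1, 2, 3, 4, 5, 4, 3, 7, 6, 5, 2, 1, 0, 7, 4, 3, 2, 1, 0,
  1, 2, 3, 4, 7, 0, 1, 2, 5, 6, 7, 3, 4, 5, 5, 2, 1, 0, 7, 4, 3, 2, 1, 0, 1, 2, 3, 4, 7, 0, 1, 2, 5, 1, 2, 3,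
  7, 4, 3, 2, 1, 0, 1, 2, 3, 4, 7, 3, 2, 1, 8, 2, 1, 0, 7, 4, 3, 2, 1, 0, 1, 2, 3, 4, 7, 0, 1, 2, 8, 7, 2, 1,
  0, 7, 4, 3, 2, 1, 0, 1, 2, 3, 4, 7, 0, 1, 2, 7, 1, 2, 3, 7, 4, 3, 2, 1, 0, 1, 2, 3, 4, 7, 3, 2, 0, 1, 0, 1,
  0, 7, 4, 3, 2, 1, 0, 1, 2, 3, 4, 7, 2, 3, 7, 4, 3, 2, 1, 0, 1, 2, 3, 4, 7, 3, 2, 1, 5, 2, 1, 0, 7, 4, 3, 2,
  1, 0, 1, 2, 3, 4, 7, 0, 1, 2, 5, 1, 2, 3, 7, 4, 3, 2, 1, 0, 1, 2, 3, 4, 7, 3, 2, 0, 1, 0, 1, 0, 7, 4, 3, 2,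
  1, 0, 1, 2, 3, 4, 7, 2, 3, 7, 4, 3, 2, 1, 0, 1, 2, 3, 4, 7, 3, 2, 1, 8, 2, 1, 0, 7, 4, 3, 2, 1, 0, 1, 2, 3,
  4, 7, 0, 1, 2, 8, 1, 0, 1, 0, 1, 0, 7, 4, 3, 2, 1, 0, 1, 2, 3, 4, 7, 2, 3, 7, 4, 3, 2, 1, 0, 1, 2, 3, 4, 7,
  3, 2, 1, 5, 2, 1, 0, 7, 4, 3, 2, 1, 0, 1, 2, 3, 4, 7, 0, 1, 2, 5, 1, 2, 3, 7, 4, 3, 2, 1, 0, 1, 2, 3, 4, 7,
  3, 2, 1, 1, 2, 3, 7, 4, 3, 2, 1, 0, 1, 2, 3, 4, 7, 3, 2, 0, 1, 0, 1, 0, 7, 4, 3, 2, 1, 0, 1, 2, 3, 4, 7, 2,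
  3, 7, 4, 3, 2, 1, 0, 1, 2, 3, 4, 7, 3, 2, 1, 8, 2, 1, 0, 7, 4, 3, 2, 1, 0, 1, 2, 3, 4, 7, 0, 1, 2, 8, 5, 2,
  1, 0, 7, 4, 3, 2, 1, 0, 1, 2, 3, 4, 7, 0, 1, 2, 5, 1, 2, 3, 7, 4, 3, 2, 1, 0, 1, 2, 3, 4, 7, 3, 2, 0, 1, 0,
  1, 0, 7, 4, 3, 2, 1, 0, 1, 2, 3, 4, 7, 2, 3, 7, 4, 3, 2, 1, 0, 1, 2, 3, 4, 7, 3, 2, 1, 8, 2, 1, 0, 7, 4, 3,
  2, 1, 0, 1, 2, 3, 4, 7, 0, 1, 2, 8, 5, 2, 1, 0, 7, 4, 3, 2, 1, 0, 1, 2, 3, 4, 7, 0, 1, 2, 5, 1, 2, 3, 7, 4,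
  3, 2, 1, 0, 1, 2, 3, 4, 7, 3, 2, 0, 1, 0, 1, 0, 7, 4, 3, 2, 1, 0, 1, 2, 3, 4, 7, 2, 3, 7, 4, 3, 2, 1, 0, 1,
  2, 3, 4, 7, 3, 2, 1, 5, 2, 1, 0, 7, 4, 3, 2, 1, 0, 1, 2, 3, 4, 7, 0, 1, 2, 5, 1, 2, 3, 7, 4, 3, 2, 1, 0, 1,
  2, 3, 4, 7, 3, 2, 1, 8, 2, 1, 0, 7, 4, 3, 2, 1, 0, 1, 2, 3, 4, 7, 0, 1]

/-- part 1 of a word of the second lift -/
def outTauWordPart1 : List ℕ :=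
  [2, 8, 7, 2, 1, 0, 7, 4, 3, 2, 1, 0, 1, 2, 3, 4, 7, 0, 1, 2, 7, 1, 2, 3, 7, 4, 3, 2, 1, 0, 1, 2, 3, 4, 7, 3,
  2, 0, 1, 0, 1, 0, 7, 4, 3, 2, 1, 0, 1, 2, 3, 4, 7, 2, 3, 7, 4, 3, 2, 1, 0, 1, 2, 3, 4, 7, 3, 2, 1, 5, 2, 1,
  0, 7, 4, 3, 2, 1, 0, 1, 2, 3, 4, 7, 0, 1, 2, 5, 1, 2, 3, 7, 4, 3, 2, 1, 0, 1, 2, 3, 4, 7, 3, 2, 0, 1, 0, 1,
  0, 7, 4, 3, 2, 1, 0, 1, 2, 3, 4, 7, 2, 3, 7, 4, 3, 2, 1, 0, 1, 2, 3, 4, 7, 3, 2, 1, 8, 2, 1, 0, 7, 4, 3, 2,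
  1, 0, 1, 2, 3, 4, 7, 0, 1, 2, 8, 1, 0, 1, 0, 1, 0, 7, 4, 3, 2, 1, 0, 1, 2, 3, 4, 7, 2, 3, 7, 4, 3, 2, 1, 0,
  1, 2, 3, 4, 7, 3, 2, 1, 5, 2, 1, 0, 7, 4, 3, 2, 1, 0, 1, 2, 3, 4, 7, 0, 1, 2, 5, 1, 2, 3, 7, 4, 3, 2, 1, 0,
  1, 2, 3, 4, 7, 3, 2, 1, 8, 2, 1, 0, 7, 4, 3, 2, 1, 0, 1, 2, 3, 4, 7, 0, 1, 2, 8, 7, 2, 1, 0, 7, 4, 3, 2, 1,
  0, 1, 2, 3, 4, 7, 0, 1, 2, 7, 1, 0, 1, 0, 1, 0, 7, 4, 3, 2, 1, 0, 1, 2, 3, 4, 7, 2, 3, 7, 4, 3, 2, 1, 0, 1,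
  2, 3, 4, 7, 3, 2, 1, 8, 2, 1, 0, 7, 4, 3, 2, 1, 0, 1, 2, 3, 4, 7, 0, 1, 2, 8, 5, 2, 1, 0, 7, 4, 3, 2, 1, 0,
  1, 2, 3, 4, 7, 0, 1, 2, 5, 1, 2, 3, 7, 4, 3, 2, 1, 0, 1, 2, 3, 4, 7, 3, 2, 0, 1, 0, 1, 0, 7, 4, 3, 2, 1, 0,
  1, 2, 3, 4, 7, 2, 3, 7, 4, 3, 2, 1, 0, 1, 2, 3, 4, 7, 3, 2, 1, 8, 2, 1, 0, 7, 4, 3, 2, 1, 0, 1, 2, 3, 4, 7,
  0, 1, 2, 8, 7, 2, 1, 0, 7, 4, 3, 2, 1, 0, 1, 2, 3, 4, 7, 0, 1, 2, 7, 5, 2, 1, 0, 7, 4, 3, 2, 1, 0, 1, 2, 3,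
  4, 7, 0, 1, 2, 5, 1, 2, 3, 7, 4, 3, 2, 1, 0, 1, 2, 3, 4, 7, 3, 2, 1, 8, 2, 1, 0, 7, 4, 3, 2, 1, 0, 1, 2, 3,
  4, 7, 0, 1, 2, 8, 1, 0, 1, 0, 1, 0, 7, 4, 3, 2, 1, 0, 1, 2, 3, 4, 7, 1, 1, 2, 3, 7, 4, 3, 2, 1, 0, 1, 2, 3,
  4, 7, 3, 2, 0, 1, 0, 1, 0, 7, 4, 3, 2, 1, 0, 1, 2, 3, 4, 7, 2, 3, 7, 4, 3, 2, 1, 0, 1, 2, 3, 4, 7, 3, 2, 1,
  8, 2, 1, 0, 7, 4, 3, 2, 1, 0, 1, 2, 3, 4, 7, 0, 1, 2, 8, 5, 2, 1, 0, 7, 4, 3, 2, 1, 0, 1, 2, 3, 4, 7, 0, 1,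
  2, 5, 1, 2, 3, 7, 4, 3, 2, 1, 0, 1, 2, 3, 4, 7, 3, 2, 0, 1, 0, 1, 0, 7]

/-- part 2 of a word of the second lift -/
def outTauWordPart2 : List ℕ :=
  [4, 3, 2, 1, 0, 1, 2, 3, 4, 7, 2, 3, 7, 4, 3, 2, 1, 0, 1, 2, 3, 4, 7, 3, 2, 1, 8, 2, 1, 0, 7, 4, 3, 2, 1, 0,
  1, 2, 3, 4, 7, 0, 1, 2, 8, 5, 2, 1, 0, 7, 4, 3, 2, 1, 0, 1, 2, 3, 4, 7, 0, 1, 2, 5, 1, 2, 3, 7, 4, 3, 2, 1,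
  0, 1, 2, 3, 4, 7, 3, 2, 0, 1, 0, 1, 0, 7, 4, 3, 2, 1, 0, 1, 2, 3, 4, 7, 2, 3, 7, 4, 3, 2, 1, 0, 1, 2, 3, 4,
  7, 3, 2, 1, 5, 2, 1, 0, 7, 4, 3, 2, 1, 0, 1, 2, 3, 4, 7, 0, 1, 2, 5, 1, 2, 3, 7, 4, 3, 2, 1, 0, 1, 2, 3, 4,
  7, 3, 2, 1, 8, 2, 1, 0, 7, 4, 3, 2, 1, 0, 1, 2, 3, 4, 7, 0, 1, 2, 8, 7, 2, 1, 0, 7, 4, 3, 2, 1, 0, 1, 2, 3,
  4, 7, 0, 1, 2, 7, 1, 2, 3, 7, 4, 3, 2, 1, 0, 1, 2, 3, 4, 7, 3, 2, 0, 1, 0, 1, 0, 7, 4, 3, 2, 1, 0, 1, 2, 3,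
  4, 7, 2, 3, 7, 4, 3, 2, 1, 0, 1, 2, 3, 4, 7, 3, 2, 1, 5, 2, 1, 0, 7, 4, 3, 2, 1, 0, 1, 2, 3, 4, 7, 0, 1, 2,
  5, 1, 2, 3, 7, 4, 3, 2, 1, 0, 1, 2, 3, 4, 7, 3, 2, 0, 1, 0, 1, 0, 7, 4, 3, 2, 1, 0, 1, 2, 3, 4, 7, 2, 3, 7,
  4, 3, 2, 1, 0, 1, 2, 3, 4, 7, 3, 2, 1, 8, 2, 1, 0, 7, 4, 3, 2, 1, 0, 1, 2, 3, 4, 7, 0, 1, 2, 8, 1, 0, 1, 0,
  1, 0, 7, 4, 3, 2, 1, 0, 1, 2, 3, 4, 7, 2, 3, 7, 4, 3, 2, 1, 0, 1, 2, 3, 4, 7, 3, 2, 1, 5, 2, 1, 0, 7, 4, 3,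
  2, 1, 0, 1, 2, 3, 4, 7, 0, 1, 2, 5, 1, 2, 3, 7, 4, 3, 2, 1, 0, 1, 2, 3, 4, 7, 3, 2, 1]

/-- a word of the second lift -/
def outTauWord : List ℕ :=
  outTauWordPart0 ++ outTauWordPart1 ++ outTauWordPart2

/-- reflections underlying the second lift -/
def outTauRefl : List ℕ :=
  [1, 3, 1, 4, 3, 1]

/-- images of the basis of the normal 2-subgroup under the two lifts -/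
def outPhi : List (List ℕ) :=
  [[1, 2, 4, 42, 22, 32, 321, 128, 256, 640], [1, 2, 417, 640, 1003, 128, 700, 32, 165, 40]]

/-- involutory element, conjugator and representative -/
def outCert1 : List (ℕ × ℕ × ℕ) :=
  [(0, 0, 0), (1, 0, 1), (2, 0, 2), (3, 0, 3), (4, 16, 2), (5, 16, 3), (6, 16, 0), (7, 16, 1), (32, 8, 2),
  (33, 8, 3), (34, 8, 0), (35, 8, 1), (36, 24, 2), (37, 24, 3), (38, 24, 0), (39, 24, 1), (128, 512, 0),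
  (129, 512, 1), (130, 512, 2), (131, 512, 3), (132, 528, 2), (133, 528, 3), (134, 528, 0), (135, 528, 1),
  (160, 520, 2), (161, 520, 3), (162, 520, 0), (163, 520, 1), (164, 536, 2), (165, 536, 3), (166, 536, 0),
  (167, 536, 1), (256, 64, 1), (257, 64, 0), (258, 64, 3), (259, 64, 2), (260, 80, 3), (261, 80, 2),
  (262, 80, 1), (263, 80, 0), (288, 72, 3), (289, 72, 2), (290, 72, 1), (291, 72, 0), (292, 88, 3),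
  (293, 88, 2), (294, 88, 1), (295, 88, 0), (384, 576, 3), (385, 576, 2), (386, 576, 1), (387, 576, 0),
  (388, 592, 1), (389, 592, 0), (390, 592, 3), (391, 592, 2), (416, 584, 1), (417, 584, 0), (418, 584, 3),
  (419, 584, 2), (420, 600, 1), (421, 600, 0), (422, 600, 3), (423, 600, 2)]

/-- involutory element, conjugator and representative -/
def outCert2 : List (ℕ × ℕ × ℕ) :=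
  [(0, 0, 0), (1, 0, 1), (2, 116, 0), (3, 116, 1), (116, 72, 0), (117, 72, 1), (118, 60, 0), (119, 60, 1),
  (160, 32, 0), (161, 32, 1), (162, 84, 0), (163, 84, 1), (212, 28, 0), (213, 28, 1), (214, 104, 0),
  (215, 104, 1), (260, 36, 1), (261, 36, 0), (262, 80, 1), (263, 80, 0), (368, 24, 1), (369, 24, 0),
  (370, 108, 1), (371, 108, 0), (420, 4, 1), (421, 4, 0), (422, 112, 1), (423, 112, 0), (464, 76, 1),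
  (465, 76, 0), (466, 56, 1), (467, 56, 0), (552, 40, 0), (553, 40, 1), (554, 92, 0), (555, 92, 1),
  (604, 96, 0), (605, 96, 1), (606, 20, 0), (607, 20, 1), (648, 8, 0), (649, 8, 1), (650, 124, 0),
  (651, 124, 1), (764, 52, 0), (765, 52, 1), (766, 64, 0), (767, 64, 1), (812, 120, 1), (813, 120, 0),
  (814, 12, 1), (815, 12, 0), (856, 68, 1), (857, 68, 0), (858, 48, 1), (859, 48, 0), (908, 88, 1),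
  (909, 88, 0), (910, 44, 1), (911, 44, 0), (1016, 16, 1), (1017, 16, 0), (1018, 100, 1), (1019, 100, 0)]

/-- a conjugator of a representative -/
def outRepWord0 : List ℕ :=
  [7]

/-- a conjugator of a representative -/
def outRepWord1 : List ℕ :=
  [7]

/-- a conjugator of a representative -/
def outRepWord2 : List ℕ :=
  [4, 7]

/-- a conjugator of a representative -/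
def outRepWord3 : List ℕ :=
  [4, 7, 3, 1, 2, 3, 4, 7, 0, 1, 7]

/-- part 0 of a conjugator of a representative -/
def outRepWord4Part0 : List ℕ :=
  [5, 4, 3, 7, 6, 5, 2, 1, 0, 7, 4, 3, 2, 1, 0, 1, 2, 3, 4, 7, 0, 1, 2, 5, 6, 7, 3, 4, 5, 4, 3, 2, 1, 0, 7, 4,
  3, 2, 1, 0, 1, 2, 3, 4, 7, 0, 1, 2, 3, 4, 5, 6, 4, 5, 3, 1, 0, 7, 4, 3, 2, 1, 0, 1, 2, 3, 4, 7, 0, 1, 3, 5,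
  4, 6, 5, 2, 1, 0, 7, 4, 3, 2, 1, 0, 7, 4, 3, 2, 1, 0, 1, 2, 3, 4, 7, 0, 1, 2, 3, 4, 7, 0, 1, 2, 3, 7, 6, 5,
  2, 1, 0, 7, 4, 3, 2, 1, 0, 1, 2, 3, 4, 7, 0, 1, 2, 5, 6, 7, 3, 5, 2, 1, 0, 7, 4, 3, 2, 1, 0, 1, 2, 3, 4, 7,
  0, 1, 2, 5, 8, 3, 7, 5, 6, 4, 5, 3, 4, 2, 3, 7, 8, 4, 5, 6, 2, 3, 4, 5, 1, 2, 3, 7, 4, 3, 2, 1, 0, 1, 2, 3,
  4, 7, 3, 2, 1, 5, 4, 3, 2, 6, 5, 4, 8, 7, 3, 2, 4, 3, 5, 4, 6, 5, 7, 3, 8, 5, 2, 1, 0, 7, 4, 3, 2, 1, 0, 1,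
  2, 3, 4, 7, 0, 1, 2, 5, 8, 2, 1, 0, 7, 4, 3, 2, 1, 0, 1, 2, 3, 4, 7, 0, 1, 2, 8, 7, 2, 1, 0, 7, 4, 3, 2, 1,
  0, 1, 2, 3, 4, 7, 0, 1, 2, 7, 1, 0, 1, 0, 1, 0, 7, 4, 3, 2, 1, 0, 1, 2, 3, 4, 7, 2, 3, 7, 4, 3, 2, 1, 0, 1,
  2, 3, 4, 7, 3, 2, 1, 8, 2, 1, 0, 7, 4, 3, 2, 1, 0, 1, 2, 3, 4, 7, 0, 1, 2, 8, 5, 2, 1, 0, 7, 4, 3, 2, 1, 0,
  1, 2, 3, 4, 7, 0, 1, 2, 5, 1, 2, 3, 7, 4, 3, 2, 1, 0, 1, 2, 3, 4, 7, 3, 2, 0, 1, 0, 1, 0, 7, 4, 3, 2, 1, 0,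
  1, 2, 3, 4, 7, 2, 3, 7, 4, 3, 2, 1, 0, 1, 2, 3, 4, 7, 3, 2, 1, 8, 2, 1, 0, 7, 4, 3, 2, 1, 0, 1, 2, 3, 4, 7,
  0, 1, 2, 8, 7, 2, 1, 0, 7, 4, 3, 2, 1, 0, 1, 2, 3, 4, 7, 0, 1, 2, 7, 5, 2, 1, 0, 7, 4, 3, 2, 1, 0, 1, 2, 3,
  4, 7, 0, 1, 2, 5, 1, 2, 3, 7, 4, 3, 2, 1, 0, 1, 2, 3, 4, 7, 3, 2, 1, 8, 2, 1, 0, 7, 4, 3, 2, 1, 0, 1, 2, 3,
  4, 7, 0, 1, 2, 8, 1, 0, 1, 0, 1, 0, 7, 4, 3, 2, 1, 0, 1, 2, 3, 4, 7, 1, 1, 2, 3, 7, 4, 3, 2, 1, 0, 1, 2, 3,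
  4, 7, 3, 2, 0, 1, 0, 1, 0, 7, 4, 3, 2, 1, 0, 1, 2, 3, 4, 7, 2, 3, 7, 4, 3, 2, 1, 0, 1, 2, 3, 4, 7, 3, 2, 1,
  8, 2, 1, 0, 7, 4, 3, 2, 1, 0, 1, 2, 3, 4, 7, 0, 1, 2, 8, 5, 2, 1, 0, 7, 4, 3, 2, 1, 0, 1, 2, 3, 4, 7, 0, 1,
  2, 5, 1, 2, 3, 7, 4, 3, 2, 1, 0, 1, 2, 3, 4, 7, 3, 2, 0, 1, 0, 1, 0, 7]

/-- part 1 of a conjugator of a representative -/
def outRepWord4Part1 : List ℕ :=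
  [4, 3, 2, 1, 0, 1, 2, 3, 4, 7, 2, 3, 7, 4, 3, 2, 1, 0, 1, 2, 3, 4, 7, 3, 2, 1, 8, 2, 1, 0, 7, 4, 3, 2, 1, 0,
  1, 2, 3, 4, 7, 0, 1, 2, 8, 5, 2, 1, 0, 7, 4, 3, 2, 1, 0, 1, 2, 3, 4, 7, 0, 1, 2, 5, 1, 2, 3, 7, 4, 3, 2, 1,
  0, 1, 2, 3, 4, 7, 3, 2, 0, 1, 0, 1, 0, 7, 4, 3, 2, 1, 0, 1, 2, 3, 4, 7, 2, 3, 7, 4, 3, 2, 1, 0, 1, 2, 3, 4,
  7, 3, 2, 1, 1, 2, 3, 7, 4, 3, 2, 1, 0, 1, 2, 3, 4, 7, 3, 2, 1, 8, 2, 1, 0, 7, 4, 3, 2, 1, 0, 1, 2, 3, 4, 7,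
  0, 1, 2, 8, 5, 2, 1, 0, 7, 4, 3, 2, 1, 0, 1, 2, 3, 4, 7, 0, 1, 2, 5, 1, 2, 3, 7, 4, 3, 2, 1, 0, 1, 2, 3, 4,
  7, 3, 2, 0, 1, 0, 1, 0, 7, 4, 3, 2, 1, 0, 1, 2, 3, 4, 7, 2, 3, 7, 4, 3, 2, 1, 0, 1, 2, 3, 4, 7, 3, 2, 1, 8,
  2, 1, 0, 7, 4, 3, 2, 1, 0, 1, 2, 3, 4, 7, 0, 1, 2, 8, 5, 2, 1, 0, 7, 4, 3, 2, 1, 0, 1, 2, 3, 4, 7, 0, 1, 2,
  5, 1, 2, 3, 7, 4, 3, 2, 1, 0, 1, 2, 3, 4, 7, 3, 2, 1, 8, 2, 1, 0, 7, 4, 3, 2, 1, 0, 1, 2, 3, 4, 7, 0, 1, 2,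
  8, 7, 2, 1, 0, 7, 4, 3, 2, 1, 0, 1, 2, 3, 4, 7, 0, 1, 2, 7, 1, 0, 1, 0, 1, 0, 7, 4, 3, 2, 1, 0, 1, 2, 3, 4,
  7, 2, 3, 7, 4, 3, 2, 1, 0, 1, 2, 3, 4, 7, 3, 2, 1, 8, 2, 1, 0, 7, 4, 3, 2, 1, 0, 1, 2, 3, 4, 7, 0, 1, 2, 8,
  5, 2, 1, 0, 7, 4, 3, 2, 1, 0, 1, 2, 3, 4, 7, 0, 1, 2, 5, 1, 2, 3, 7, 4, 3, 2, 1, 0, 1, 2, 3, 4, 7, 3, 2, 0,
  1, 0, 1, 0, 7, 4, 3, 2, 1, 0, 1, 2, 3, 4, 7, 2, 3, 7, 4, 3, 2, 1, 0, 1, 2, 3, 4, 7, 3, 2, 1, 8, 2, 1, 0, 7,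
  4, 3, 2, 1, 0, 1, 2, 3, 4, 7, 0, 1, 2, 8, 7, 2, 1, 0, 7, 4, 3, 2, 1, 0, 1, 2, 3, 4, 7, 0, 1, 2, 7, 5, 2, 1,
  0, 7, 4, 3, 2, 1, 0, 1, 2, 3, 4, 7, 0, 1, 2, 5, 1, 2, 3, 7, 4, 3, 2, 1, 0, 1, 2, 3, 4, 7, 3, 2, 1, 8, 2, 1,
  0, 7, 4, 3, 2, 1, 0, 1, 2, 3, 4, 7, 0, 1, 2, 8, 1, 0, 1, 0, 1, 0, 7, 4, 3, 2, 1, 0, 1, 2, 3, 4, 7, 1, 2, 4,
  3, 8, 7]

/-- a conjugator of a representative -/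
def outRepWord4 : List ℕ :=
  outRepWord4Part0 ++ outRepWord4Part1

/-- part 0 of a conjugator of a representative -/
def outRepWord5Part0 : List ℕ :=
  [8, 3, 7, 1, 2, 3, 4, 0, 1, 2, 3, 7, 8, 3, 4, 5, 6, 2, 3, 4, 5, 1, 2, 3, 7, 4, 3, 2, 1, 0, 1, 2, 3, 4, 7, 3,
  2, 1, 5, 4, 3, 2, 6, 5, 4, 3, 8, 7, 3, 2, 1, 0, 4, 3, 2, 1, 7, 3, 8, 4, 3, 2, 1, 0, 7, 4, 3, 2, 1, 0, 1, 2,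
  3, 4, 7, 0, 1, 2, 3, 4, 3, 7, 6, 5, 2, 1, 0, 7, 4, 3, 2, 1, 0, 1, 2, 3, 4, 7, 0, 1, 2, 5, 6, 7, 3, 5, 2, 1,
  0, 7, 4, 3, 2, 1, 0, 1, 2, 3, 4, 7, 0, 1, 2, 5, 1, 2, 3, 7, 4, 3, 2, 1, 0, 1, 2, 3, 4, 7, 3, 2, 1, 8, 2, 1,
  0, 7, 4, 3, 2, 1, 0, 1, 2, 3, 4, 7, 0, 1, 2, 8, 7, 2, 1, 0, 7, 4, 3, 2, 1, 0, 1, 2, 3, 4, 7, 0, 1, 2, 7, 1,
  0, 1, 0, 1, 0, 7, 4, 3, 2, 1, 0, 1, 2, 3, 4, 7, 2, 3, 7, 4, 3, 2, 1, 0, 1, 2, 3, 4, 7, 3, 2, 1, 8, 2, 1, 0,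
  7, 4, 3, 2, 1, 0, 1, 2, 3, 4, 7, 0, 1, 2, 8, 5, 2, 1, 0, 7, 4, 3, 2, 1, 0, 1, 2, 3, 4, 7, 0, 1, 2, 5, 1, 2,
  3, 7, 4, 3, 2, 1, 0, 1, 2, 3, 4, 7, 3, 2, 0, 1, 0, 1, 0, 7, 4, 3, 2, 1, 0, 1, 2, 3, 4, 7, 2, 3, 7, 4, 3, 2,
  1, 0, 1, 2, 3, 4, 7, 3, 2, 1, 8, 2, 1, 0, 7, 4, 3, 2, 1, 0, 1, 2, 3, 4, 7, 0, 1, 2, 8, 7, 2, 1, 0, 7, 4, 3,
  2, 1, 0, 1, 2, 3, 4, 7, 0, 1, 2, 7, 5, 2, 1, 0, 7, 4, 3, 2, 1, 0, 1, 2, 3, 4, 7, 0, 1, 2, 5, 1, 2, 3, 7, 4,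
  3, 2, 1, 0, 1, 2, 3, 4, 7, 3, 2, 1, 8, 2, 1, 0, 7, 4, 3, 2, 1, 0, 1, 2, 3, 4, 7, 0, 1, 2, 8, 1, 0, 1, 0, 1,
  0, 7, 4, 3, 2, 1, 0, 1, 2, 3, 4, 7, 2, 3, 7, 4, 3, 2, 1, 0, 1, 2, 3, 4, 7, 3, 2, 1, 1, 2, 3, 7, 4, 3, 2, 1,
  0, 1, 2, 3, 4, 7, 3, 2, 1, 8, 2, 1, 0, 7, 4, 3, 2, 1, 0, 1, 2, 3, 4, 7, 0, 1, 2, 8, 7, 2, 1, 0, 7, 4, 3, 2,
  1, 0, 1, 2, 3, 4, 7, 0, 1, 2, 7, 1, 2, 3, 7, 4, 3, 2, 1, 0, 1, 2, 3, 4, 7, 3, 2, 0, 1, 0, 1, 0, 7, 4, 3, 2,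
  1, 0, 1, 2, 3, 4, 7, 2, 3, 7, 4, 3, 2, 1, 0, 1, 2, 3, 4, 7, 3, 2, 1, 5, 2, 1, 0, 7, 4, 3, 2, 1, 0, 1, 2, 3,
  4, 7, 0, 1, 2, 5, 1, 2, 3, 7, 4, 3, 2, 1, 0, 1, 2, 3, 4, 7, 3, 2, 0, 1, 0, 1, 0, 7, 4, 3, 2, 1, 0, 1, 2, 3,
  4, 7, 2, 3, 7, 4, 3, 2, 1, 0, 1, 2, 3, 4, 7, 3, 2, 1, 8, 2, 1, 0, 7, 4]

/-- part 1 of a conjugator of a representative -/
def outRepWord5Part1 : List ℕ :=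
  [3, 2, 1, 0, 1, 2, 3, 4, 7, 0, 1, 2, 8, 5, 2, 1, 0, 7, 4, 3, 2, 1, 0, 1, 2, 3, 4, 7, 0, 1, 2, 5, 1, 0, 1, 0,
  1, 0, 7, 4, 3, 2, 1, 0, 1, 2, 3, 4, 7, 2, 3, 7, 4, 3, 2, 1, 0, 1, 2, 3, 4, 7, 3, 2, 1, 1, 2, 3, 7, 4, 3, 2,
  1, 0, 1, 2, 3, 4, 7, 3, 2, 1, 8, 2, 1, 0, 7, 4, 3, 2, 1, 0, 1, 2, 3, 4, 7, 0, 1, 2, 8, 7, 2, 1, 0, 7, 4, 3,
  2, 1, 0, 1, 2, 3, 4, 7, 0, 1, 2, 7, 1, 0, 1, 0, 1, 0, 7, 4, 3, 2, 1, 0, 1, 2, 3, 4, 7, 2, 3, 7, 4, 3, 2, 1,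
  0, 1, 2, 3, 4, 7, 3, 2, 1, 8, 2, 1, 0, 7, 4, 3, 2, 1, 0, 1, 2, 3, 4, 7, 0, 1, 2, 8, 5, 2, 1, 0, 7, 4, 3, 2,
  1, 0, 1, 2, 3, 4, 7, 0, 1, 2, 5, 1, 2, 3, 7, 4, 3, 2, 1, 0, 1, 2, 3, 4, 7, 3, 2, 0, 1, 0, 1, 0, 7, 4, 3, 2,
  1, 0, 1, 2, 3, 4, 7, 2, 3, 7, 4, 3, 2, 1, 0, 1, 2, 3, 4, 7, 3, 2, 1, 8, 2, 1, 0, 7, 4, 3, 2, 1, 0, 1, 2, 3,
  4, 7, 0, 1, 2, 8, 7, 2, 1, 0, 7, 4, 3, 2, 1, 0, 1, 2, 3, 4, 7, 0, 1, 2, 7, 5, 2, 1, 0, 7, 4, 3, 2, 1, 0, 1,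
  2, 3, 4, 7, 0, 1, 2, 5, 1, 2, 3, 7, 4, 3, 2, 1, 0, 1, 2, 3, 4, 7, 3, 2, 1, 8, 2, 1, 0, 7, 4, 3, 2, 1, 0, 1,
  2, 3, 4, 7, 0, 1, 2, 8, 1, 0, 1, 0, 1, 0, 7, 4, 3, 2, 1, 0, 1, 2, 3, 4, 7, 2, 3, 7, 4, 3, 2, 1, 0, 1, 2, 3,
  4, 7, 3, 2, 1, 1, 2, 3, 7, 4, 3, 2, 1, 0, 1, 2, 3, 4, 7, 3, 2, 0, 1, 0, 1, 0, 7, 4, 3, 2, 1, 0, 1, 2, 3, 4,
  7, 2, 3, 7, 4, 3, 2, 1, 0, 1, 2, 3, 4, 7, 3, 2, 1, 8, 2, 1, 0, 7, 4, 3, 2, 1, 0, 1, 2, 3, 4, 7, 0, 1, 2, 8,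
  5, 2, 1, 0, 7, 4, 3, 2, 1, 0, 1, 2, 3, 4, 7, 0, 1, 2, 5, 1, 2, 3, 7, 4, 3, 2, 1, 0, 1, 2, 3, 4, 7, 3, 2, 0,
  1, 0, 1, 0, 7, 4, 3, 2, 1, 0, 1, 2, 3, 4, 7, 2, 3, 7, 4, 3, 2, 1, 0, 1, 2, 3, 4, 7, 3, 2, 1, 8, 2, 1, 0, 7,
  4, 3, 2, 1, 0, 1, 2, 3, 4, 7, 0, 1, 2, 8, 5, 2, 1, 0, 7, 4, 3, 2, 1, 0, 1, 2, 3, 4, 7, 0, 1, 2, 5, 1, 2, 3,
  7, 4, 3, 2, 1, 0, 1, 2, 3, 4, 7, 3, 2, 0, 1, 0, 1, 0, 7, 4, 3, 2, 1, 0, 1, 2, 3, 4, 7, 2, 3, 7, 4, 3, 2, 1,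
  0, 1, 2, 3, 4, 7, 3, 2, 1, 5, 2, 1, 0, 7, 4, 3, 2, 1, 0, 1, 2, 3, 4, 7]

/-- part 2 of a conjugator of a representative -/
def outRepWord5Part2 : List ℕ :=
  [0, 1, 2, 5, 1, 2, 3, 7, 4, 3, 2, 1, 0, 1, 2, 3, 4, 7, 3, 2, 1, 8, 2, 1, 0, 7, 4, 3, 2, 1, 0, 1, 2, 3, 4, 7,
  0, 1, 2, 8, 7, 2, 1, 0, 7, 4, 3, 2, 1, 0, 1, 2, 3, 4, 7, 0, 1, 2, 7, 1, 2, 3, 7, 4, 3, 2, 1, 0, 1, 2, 3, 4,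
  7, 3, 2, 0, 1, 0, 1, 0, 7, 4, 3, 2, 1, 0, 1, 2, 3, 4, 7, 2, 3, 7, 4, 3, 2, 1, 0, 1, 2, 3, 4, 7, 3, 2, 1, 5,
  2, 1, 0, 7, 4, 3, 2, 1, 0, 1, 2, 3, 4, 7, 0, 1, 2, 5, 1, 2, 3, 7, 4, 3, 2, 1, 0, 1, 2, 3, 4, 7, 3, 2, 0, 1,
  0, 1, 0, 7, 4, 3, 2, 1, 0, 1, 2, 3, 4, 7, 2, 3, 7, 4, 3, 2, 1, 0, 1, 2, 3, 4, 7, 3, 2, 1, 8, 2, 1, 0, 7, 4,
  3, 2, 1, 0, 1, 2, 3, 4, 7, 0, 1, 2, 8, 1, 0, 1, 0, 1, 0, 7, 4, 3, 2, 1, 0, 1, 2, 3, 4, 7, 2, 3, 7, 4, 3, 2,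
  1, 0, 1, 2, 3, 4, 7, 3, 2, 1, 5, 2, 1, 0, 7, 4, 3, 2, 1, 0, 1, 2, 3, 4, 7, 0, 1, 2, 5, 1, 2, 3, 7, 4, 3, 2,
  1, 0, 1, 2, 3, 4, 7, 3, 2, 1, 1, 2, 3, 7, 4, 3, 2, 1, 0, 1, 2, 3, 4, 7, 3, 2, 1, 8, 2, 1, 0, 7, 4, 3, 2, 1,
  0, 1, 2, 3, 4, 7, 0, 1, 2, 8, 5, 2, 1, 0, 7, 4, 3, 2, 1, 0, 1, 2, 3, 4, 7, 0, 1, 2, 5, 1, 2, 3, 7, 4, 3, 2,
  1, 0, 1, 2, 3, 4, 7, 3, 2, 0, 1, 0, 1, 0, 7, 4, 3, 2, 1, 0, 1, 2, 3, 4, 7, 2, 3, 7, 4, 3, 2, 1, 0, 1, 2, 3,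
  4, 7, 3, 2, 1, 8, 2, 1, 0, 7, 4, 3, 2, 1, 0, 1, 2, 3, 4, 7, 0, 1, 2, 8, 5, 2, 1, 0, 7, 4, 3, 2, 1, 0, 1, 2,
  3, 4, 7, 0, 1, 2, 5, 1, 2, 3, 7, 4, 3, 2, 1, 0, 1, 2, 3, 4, 7, 3, 2, 1, 8, 2, 1, 0, 7, 4, 3, 2, 1, 0, 1, 2,
  3, 4, 7, 0, 1, 2, 8, 7, 2, 1, 0, 7, 4, 3, 2, 1, 0, 1, 2, 3, 4, 7, 0, 1, 2, 7, 1, 0, 1, 0, 1, 0, 7, 4, 3, 2,
  1, 0, 1, 2, 3, 4, 7, 2, 3, 7, 4, 3, 2, 1, 0, 1, 2, 3, 4, 7, 3, 2, 1, 8, 2, 1, 0, 7, 4, 3, 2, 1, 0, 1, 2, 3,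
  4, 7, 0, 1, 2, 8, 5, 2, 1, 0, 7, 4, 3, 2, 1, 0, 1, 2, 3, 4, 7, 0, 1, 2, 5, 1, 2, 3, 7, 4, 3, 2, 1, 0, 1, 2,
  3, 4, 7, 3, 2, 0, 1, 0, 1, 0, 7, 4, 3, 2, 1, 0, 1, 2, 3, 4, 7, 2, 3, 7, 4, 3, 2, 1, 0, 1, 2, 3, 4, 7, 3, 2,
  1, 8, 2, 1, 0, 7, 4, 3, 2, 1, 0, 1, 2, 3, 4, 7, 0, 1, 2, 8, 7, 2, 1, 0]

/-- part 3 of a conjugator of a representative -/
def outRepWord5Part3 : List ℕ :=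
  [7, 4, 3, 2, 1, 0, 1, 2, 3, 4, 7, 0, 1, 2, 7, 5, 2, 1, 0, 7, 4, 3, 2, 1, 0, 1, 2, 3, 4, 7, 0, 1, 2, 5, 1, 2,
  3, 7, 4, 3, 2, 1, 0, 1, 2, 3, 4, 7, 3, 2, 1, 8, 2, 1, 0, 7, 4, 3, 2, 1, 0, 1, 2, 3, 4, 7, 0, 1, 2, 8, 1, 0,
  1, 0, 1, 0, 7, 4, 3, 2, 1, 0, 1, 2, 3, 4, 7, 1, 2, 5, 6, 7, 3, 4, 5, 1, 2, 3, 4, 7, 0, 1, 2, 3, 4, 7, 0, 1,
  2]

/-- a conjugator of a representative -/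
def outRepWord5 : List ℕ :=
  outRepWord5Part0 ++ outRepWord5Part1 ++ outRepWord5Part2 ++ outRepWord5Part3

/-- lift and element of a representative; type and conjugator -/
def outReps : List ((ℕ × ℕ) × (ℕ × List ℕ)) :=
  [((0, 0), (0, outRepWord0)),
  ((0, 1), (1, outRepWord1)),
  ((0, 2), (2, outRepWord2)),
  ((0, 3), (1, outRepWord3)),
  ((1, 0), (2, outRepWord4)),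
  ((1, 1), (1, outRepWord5))]

/-- transpositions carrying the first chain points to the fixed pair -/
def outChainMove : List ℕ :=
  [316, 443, 1]

/-- the transpositions fixed by the second class -/
def outFixTwo : List ℕ :=
  [0, 10, 11, 12, 29, 32, 54, 57, 59, 81, 83, 85, 86, 109, 110, 139, 173, 176, 217, 220, 222, 270, 272, 273,
  276, 278, 340, 342, 343, 345, 346, 349, 351, 370, 428, 430, 431, 433, 434, 437, 438, 443, 444, 543, 545, 548,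
  559, 637, 678, 679, 827, 988, 989, 1165, 1166, 1347, 1348, 1349, 1524, 1526, 1707, 1708, 1912, 2125]

/-- their mask -/
def outFixTwoMask : ℕ :=
  0x20000000000000000000000000000000000000000000000000000100000000000000000000000000000000000000000000000000180000000000000000000000000000000000000000000050000000000000000000000000000000000000000000380000000000000000000000000000000000000000000060000000000000000000000000000000000000000000300000000000000000000000000000000000000008000000000000000000000000000000000000c0000000002000000000000000000080128000000000000000000000001866d0000000000000040000a6d0000000000000005340000000000052000000000120000000080000006000006a00000a40000120001c01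

/-- the transpositions fixed by the third class, by pairs -/
def outFixThree : List ℕ :=
  [0, 11, 32, 173, 57, 139, 83, 110, 86, 827, 217, 433, 270, 345, 273, 548, 340, 437, 343, 438, 349, 637, 370,
  431, 444, 678, 540, 749, 676, 793, 1165, 2125, 1348, 1912, 1526, 1707, 1535, 2366, 1719, 2133, 1725, 2610,
  1726, 2613, 1928, 2371, 1929, 2374, 1937, 2375, 1938, 2858, 2159, 2614, 2160, 2618, 2173, 2623, 2407, 2862,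
  2868, 2945, 3090, 3120, 3095, 3164, 3102, 3216, 3272, 3279, 3275, 3281]

/-- their mask -/
def outFixThreeMask : ℕ :=
  0x28900000000000001000000000000100000000001000040840000000000000000000000000000000000020000000000000000001044000000000000000000000000000000000000000000000000000000000084640000000000000000000000000000000000000000000000000080000000c84000000000000000000000000000000000000000000000002001800000202000000000000000000000000000000000000000000000060300010000000000000000000000000000000000000000000000608008000000000000000000000000000000000000000000804000000000000000000000000000000000000000000010000000000000000000000000000000000000000000002000000000000000000000000000000000000000000000000000000000000000000000000000000000000800000002000000000020000000000000000050000000002000000000000000000000101000000000000000000000001062800000000000000400002290000000000000000240000000000002000000000020000000080000004000004800000200000100000801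

/-- the nonsingular vector of a pair -/
def outVecNum : List ℕ :=
  [25, 36, 60, 24, 17, 35, 7, 50, 31, 22, 34, 14, 51, 38, 63, 44, 52, 16, 57, 32, 33, 40, 56, 49, 5, 48, 28, 41,
  20, 13, 10, 19, 18, 47, 11, 54]

/-- transpositions acting as the six reflections -/
def outReflPts : List ℕ :=
  [0, 32, 540, 217, 86, 349]

/-- images of the pairs under them -/
def outReflImg : List (List ℕ) :=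
  [
  [0, 1, 2, 3, 4, 5, 6, 7, 8, 9, 10, 11, 12, 14, 13, 15, 16, 17, 19, 18, 22, 23, 20, 21, 26, 27, 24, 25, 29, 28, 31, 30, 34, 35, 32, 33],
  [0, 1, 3, 2, 4, 6, 5, 9, 8, 7, 10, 11, 12, 13, 14, 15, 17, 16, 18, 19, 24, 21, 26, 23, 20, 28, 22, 29, 25, 27, 30, 31, 35, 34, 33, 32],
  [14, 1, 2, 3, 4, 24, 20, 28, 18, 25, 10, 21, 12, 13, 0, 30, 32, 35, 8, 19, 6, 11, 22, 23, 5, 9, 26, 27, 7, 29, 15, 31, 16, 33, 34, 17],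
  [0, 6, 8, 3, 7, 5, 1, 4, 2, 9, 10, 11, 17, 24, 26, 15, 16, 12, 18, 19, 20, 34, 22, 32, 13, 31, 14, 30, 28, 29, 27, 25, 23, 33, 21, 35],
  [0, 1, 2, 3, 4, 7, 9, 5, 11, 6, 12, 8, 10, 13, 14, 15, 16, 17, 21, 23, 25, 18, 27, 19, 28, 20, 29, 22, 24, 26, 30, 31, 32, 33, 34, 35],
  [0, 1, 2, 3, 12, 5, 6, 17, 8, 16, 10, 15, 4, 13, 14, 11, 9, 7, 18, 19, 20, 30, 22, 31, 24, 32, 26, 34, 35, 33, 21, 23, 25, 29, 27, 28]]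

/-- pairs whose products are a basis of the normal 2-subgroup -/
def outCoreBasis : List ℕ :=
  [0, 1, 2, 4, 5, 13]

/-- part 0 of a word of an outer element of the large extraspecial subgroup -/
def outQWordPart0 : List ℕ :=
  [0, 1, 0, 7, 4, 3, 2, 1, 0, 1, 2, 3, 4, 7, 0, 1, 1, 2, 3, 7, 4, 3, 2, 1, 0, 1, 2, 3, 4, 7, 3, 2, 1, 8, 2, 1,
  0, 7, 4, 3, 2, 1, 0, 1, 2, 3, 4, 7, 0, 1, 2, 8, 7, 2, 1, 0, 7, 4, 3, 2, 1, 0, 1, 2, 3, 4, 7, 0, 1, 2, 7, 1,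
  2, 3, 7, 4, 3, 2, 1, 0, 1, 2, 3, 4, 7, 3, 2, 0, 1, 0, 1, 0, 7, 4, 3, 2, 1, 0, 1, 2, 3, 4, 7, 2, 3, 7, 4, 3,
  2, 1, 0, 1, 2, 3, 4, 7, 3, 2, 1, 5, 2, 1, 0, 7, 4, 3, 2, 1, 0, 1, 2, 3, 4, 7, 0, 1, 2, 5, 1, 2, 3, 7, 4, 3,
  2, 1, 0, 1, 2, 3, 4, 7, 3, 2, 0, 1, 0, 1, 0, 7, 4, 3, 2, 1, 0, 1, 2, 3, 4, 7, 2, 3, 7, 4, 3, 2, 1, 0, 1, 2,
  3, 4, 7, 3, 2, 1, 8, 2, 1, 0, 7, 4, 3, 2, 1, 0, 1, 2, 3, 4, 7, 0, 1, 2, 8, 5, 2, 1, 0, 7, 4, 3, 2, 1, 0, 1,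
  2, 3, 4, 7, 0, 1, 2, 5, 1, 0, 1, 0, 1, 0, 7, 4, 3, 2, 1, 0, 1, 2, 3, 4, 7, 2, 3, 7, 4, 3, 2, 1, 0, 1, 2, 3,
  4, 7, 3, 2, 1, 1, 2, 3, 7, 4, 3, 2, 1, 0, 1, 2, 3, 4, 7, 3, 2, 0, 1, 0, 1, 0, 7, 4, 3, 2, 1, 0, 1, 2, 3, 4,
  7, 2, 3, 7, 4, 3, 2, 1, 0, 1, 2, 3, 4, 7, 3, 2, 1, 8, 2, 1, 0, 7, 4, 3, 2, 1, 0, 1, 2, 3, 4, 7, 0, 1, 2, 8,
  5, 2, 1, 0, 7, 4, 3, 2, 1, 0, 1, 2, 3, 4, 7, 0, 1, 2, 5, 1, 2, 3, 7, 4, 3, 2, 1, 0, 1, 2, 3, 4, 7, 3, 2, 0,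
  1, 0, 1, 0, 7, 4, 3, 2, 1, 0, 1, 2, 3, 4, 7, 2, 3, 7, 4, 3, 2, 1, 0, 1, 2, 3, 4, 7, 3, 2, 1, 8, 2, 1, 0, 7,
  4, 3, 2, 1, 0, 1, 2, 3, 4, 7, 0, 1, 2, 8, 5, 2, 1, 0, 7, 4, 3, 2, 1, 0, 1, 2, 3, 4, 7, 0, 1, 2, 5, 1, 2, 3,
  7, 4, 3, 2, 1, 0, 1, 2, 3, 4, 7, 3, 2, 0, 1, 0, 1, 0, 7, 4, 3, 2, 1, 0, 1, 2, 3, 4, 7, 2, 3, 7, 4, 3, 2, 1,
  0, 1, 2, 3, 4, 7, 3, 2, 1, 8, 2, 1, 0, 7, 4, 3, 2, 1, 0, 1, 2, 3, 4, 7, 0, 1, 2, 8, 7, 2, 1, 0, 7, 4, 3, 2,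
  1, 0, 1, 2, 3, 4, 7, 0, 1, 2, 7, 1, 0, 1, 0, 1, 0, 7, 4, 3, 2, 1, 0, 1, 2, 3, 4, 7, 2, 3, 7, 4, 3, 2, 1, 0,
  1, 2, 3, 4, 7, 3, 2, 1, 8, 2, 1, 0, 7, 4, 3, 2, 1, 0, 1, 2, 3, 4, 7, 0, 1, 2, 8, 5, 2, 1, 0, 7, 4, 3, 2, 1,
  0, 1, 2, 3, 4, 7, 0, 1, 2, 5, 1, 2, 3, 7, 4, 3, 2, 1, 0, 1, 2, 3, 4, 7]

/-- part 1 of a word of an outer element of the large extraspecial subgroup -/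
def outQWordPart1 : List ℕ :=
  [3, 2, 0, 1, 0, 1, 0, 7, 4, 3, 2, 1, 0, 1, 2, 3, 4, 7, 2, 3, 7, 4, 3, 2, 1, 0, 1, 2, 3, 4, 7, 3, 2, 1, 8, 2,
  1, 0, 7, 4, 3, 2, 1, 0, 1, 2, 3, 4, 7, 0, 1, 2, 8, 7, 2, 1, 0, 7, 4, 3, 2, 1, 0, 1, 2, 3, 4, 7, 0, 1, 2, 7,
  5, 2, 1, 0, 7, 4, 3, 2, 1, 0, 1, 2, 3, 4, 7, 0, 1, 2, 5, 1, 2, 3, 7, 4, 3, 2, 1, 0, 1, 2, 3, 4, 7, 3, 2, 1,
  8, 2, 1, 0, 7, 4, 3, 2, 1, 0, 1, 2, 3, 4, 7, 0, 1, 2, 8, 1, 0, 1, 0, 1, 0, 7, 4, 3, 2, 1, 0, 1, 2, 3, 4, 7,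
  1, 1, 2, 3, 7, 4, 3, 2, 1, 0, 1, 2, 3, 4, 7, 3, 2, 0, 1, 0, 1, 0, 7, 4, 3, 2, 1, 0, 1, 2, 3, 4, 7, 2, 3, 7,
  4, 3, 2, 1, 0, 1, 2, 3, 4, 7, 3, 2, 1, 8, 2, 1, 0, 7, 4, 3, 2, 1, 0, 1, 2, 3, 4, 7, 0, 1, 2, 8, 5, 2, 1, 0,
  7, 4, 3, 2, 1, 0, 1, 2, 3, 4, 7, 0, 1, 2, 5, 1, 2, 3, 7, 4, 3, 2, 1, 0, 1, 2, 3, 4, 7, 3, 2, 0, 1, 0, 1, 0,
  7, 4, 3, 2, 1, 0, 1, 2, 3, 4, 7, 2, 3, 7, 4, 3, 2, 1, 0, 1, 2, 3, 4, 7, 3, 2, 1, 8, 2, 1, 0, 7, 4, 3, 2, 1,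
  0, 1, 2, 3, 4, 7, 0, 1, 2, 8, 5, 2, 1, 0, 7, 4, 3, 2, 1, 0, 1, 2, 3, 4, 7, 0, 1, 2, 5, 1, 2, 3, 7, 4, 3, 2,
  1, 0, 1, 2, 3, 4, 7, 3, 2, 0, 1, 0, 1, 0, 7, 4, 3, 2, 1, 0, 1, 2, 3, 4, 7, 2, 3, 7, 4, 3, 2, 1, 0, 1, 2, 3,
  4, 7, 3, 2, 1, 1, 2, 3, 7, 4, 3, 2, 1, 0, 1, 2, 3, 4, 7, 3, 2, 1, 8, 2, 1, 0, 7, 4, 3, 2, 1, 0, 1, 2, 3, 4,
  7, 0, 1, 2, 8, 7, 2, 1, 0, 7, 4, 3, 2, 1, 0, 1, 2, 3, 4, 7, 0, 1, 2, 7, 1, 2, 3, 7, 4, 3, 2, 1, 0, 1, 2, 3,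
  4, 7, 3, 2, 0, 1, 0, 1, 0, 7, 4, 3, 2, 1, 0, 1, 2, 3, 4, 7, 2, 3, 7, 4, 3, 2, 1, 0, 1, 2, 3, 4, 7, 3, 2, 1,
  5, 2, 1, 0, 7, 4, 3, 2, 1, 0, 1, 2, 3, 4, 7, 0, 1, 2, 5, 1, 2, 3, 7, 4, 3, 2, 1, 0, 1, 2, 3, 4, 7, 3, 2, 0,
  1, 0, 1, 0, 7, 4, 3, 2, 1, 0, 1, 2, 3, 4, 7, 2, 3, 7, 4, 3, 2, 1, 0, 1, 2, 3, 4, 7, 3, 2, 1, 8, 2, 1, 0, 7,
  4, 3, 2, 1, 0, 1, 2, 3, 4, 7, 0, 1, 2, 8, 5, 2, 1, 0, 7, 4, 3, 2, 1, 0, 1, 2, 3, 4, 7, 0, 1, 2, 5, 1, 0, 1,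
  0, 1, 0, 7, 4, 3, 2, 1, 0, 1, 2, 3, 4, 7, 2, 3, 7, 4, 3, 2, 1, 0, 1, 2]

/-- part 2 of a word of an outer element of the large extraspecial subgroup -/
def outQWordPart2 : List ℕ :=
  [3, 4, 7, 3, 2, 1]

/-- a word of an outer element of the large extraspecial subgroup -/
def outQWord : List ℕ :=
  outQWordPart0 ++ outQWordPart1 ++ outQWordPart2

/-- reflections underlying it -/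
def outQRefl : List ℕ :=
  [2, 3, 4, 3, 2]

/-- its images of the basis -/
def outQImg : List ℕ :=
  [3, 2, 4, 8, 16, 32, 64, 128, 258, 514]

/-- a word carrying the third class to it -/
def outQMove : List ℕ :=
  [1, 4, 7]

/-- its offset -/
def outQIdx : ℕ :=
  2

end CfsgLib.Fi22Pres
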