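import Cfsg.Agent.Lib.Fi22Pres.PairCentChecks
import Cfsg.Agent.Lib.Fi22Pres.AutOmegaChecks
import Cfsg.Agent.Lib.Fi22Pres.OrthLines
import Cfsg.Agent.Lib.Fi22Pres.OuterData

/-!
Kernel checks for the classes of outer involutions of the presented Fischer group Fi22.
-/

set_option autoImplicit false
set_option Elab.async false
set_option maxRecDepth 20000

namespace CfsgLib.Fi22Pres

open CfsgLib.CosetEnum

/-- the action of a word on the cosets -/
noncomputable def wordMap (w : List ℕ) (x : ℕ) : ℕ := certA.run x (certA.revInv w)

/-- the outer involution seen in the frame of the standard pair -/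
noncomputable def frameMap (x : ℕ) : ℕ := certA.run (outerMap (wordMap outFrame x)) outFrame

/-- the image of a line under a product of reflections, on numbers -/
noncomputable def lineRun (w : List ℕ) (l : ℕ) : ℕ :=
  List.rec l (fun i _ ih => nth (lineImg.getD (i % 6) []) ih 0) w

/-- a map fixes or swaps the pair and moves the blocks as a product of reflections moves the lines -/
noncomputable def blockActOK (f : ℕ → ℕ) (w : List ℕ) : Bool :=
  band ([0, 7].all fun x => [0, 7].any (Nat.beq (f x)))
    ((List.range 45).all fun b => strict b fun b =>
      strict (nth lineBlock (lineRun w (nth blockLine b 0)) 0) fun c =>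
        (List.range 4).all fun k => strict k fun k =>
          strict (f (blockPt (4 * b + k))) fun y =>
            (List.range 4).any fun m => Nat.beq y (blockPt (4 * c + m)))

theorem outFrame_facts : (outFrame.all fun g => Nat.blt g 9) = true ∧
    certA.revInv (certA.revInv outFrame) = outFrame ∧
    frameMap 0 = 0 ∧ frameMap 7 = 7 := by decide +kernel

theorem frame_blocks : blockActOK frameMap outReflWord = true := by decide +kernel

theorem tau_word_facts : (outTauWord.all fun g => Nat.blt g 9) = true ∧
    wordMap outTauWord 0 = 0 ∧ wordMap outTauWord 7 = 7 := by decide +kernel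

theorem tau_blocks : blockActOK (wordMap outTauWord) outTauRefl = true := by decide +kernel

theorem sigma_facts : outSigma.getD 0 [] = outReflWord ∧
    (List.range 45).all (fun l => Nat.beq (lineRun (outSigma.getD 1 []) l)
      (lineRun (outTauRefl ++ outReflWord) l)) = true := by decide +kernel

/-- the word of an element of the Sylow 2-subgroup -/
noncomputable def twoWord (k : ℕ) : List ℕ :=
  (outTwoElts.getD k []).flatMap fun j => outTwoGens.getD j []

/-- an element as a single number -/
noncomputable def twoCode (k : ℕ) : ℕ :=
  (List.range 45).foldl (fun acc l => Nat.add (Nat.mul acc 64) (lineRun (twoWord k) l)) 0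

theorem two_distinct : ((List.range 128).map twoCode).Nodup := by decide +kernel

theorem two_one : twoWord 0 = [] := by decide +kernel

theorem two_parts : ((List.range 128).all fun k =>
    (outTwoElts.getD k []).all fun j => Nat.blt j 3) = true := by decide +kernel

/-- a generator times an element is the listed element -/
noncomputable def twoStepOK (j k : ℕ) : Bool :=
  strict (nth (outTwoStep.getD j []) k 128) fun m => band (ltB m 128)
    ((List.range 45).all fun l => strict l fun l =>
      Nat.beq (lineRun (outTwoGens.getD j [] ++ twoWord k) l) (lineRun (twoWord m) l))

theorem two_closed : ((List.range 3).all fun j => (List.range 128).all fun k => twoStepOK j k) = true := by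
  decide +kernel

/-- an element is even, not an involution, or conjugate to one of the two representatives -/
noncomputable def twoWitOK (k : ℕ) : Bool :=
  strict k fun k =>
      (match outTwoWit.getD k (0, []) with
        | (0, _) => Nat.beq ((twoWord k).length % 2) 0 ||
            (List.range 45).any fun l => !(Nat.beq (lineRun (twoWord k ++ twoWord k) l) l)
        | (i, c) => band (Nat.ble i 2) ((List.range 45).all fun l => strict l fun l =>
            Nat.beq (lineRun (c ++ twoWord k) l) (lineRun (outSigma.getD (i - 1) [] ++ c) l)))

theorem two_witness : ((List.range 128).all fun k => twoWitOK k) = true := by decide +kernel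

/-- the word of a member of the normal 2-subgroup -/
noncomputable def exWord (n : ℕ) : List ℕ :=
  (if n.testBit 0 then certA.conjWord 0 0 else []) ++
  ((if n.testBit 1 then pairWord else []) ++
  (((if n.testBit 3 then basisWord 4 else []) ++ (if n.testBit 2 then basisWord 0 else [])) ++
    ((if n.testBit 5 then basisWord 5 else []) ++ (if n.testBit 4 then basisWord 1 else [])) ++
   (((if n.testBit 7 then basisWord 6 else []) ++ (if n.testBit 6 then basisWord 2 else [])) ++
    ((if n.testBit 9 then basisWord 7 else []) ++ (if n.testBit 8 then basisWord 3 else [])))))

/-- the two lifts of the representatives as maps -/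
noncomputable def tauMap (i : ℕ) (x : ℕ) : ℕ :=
  pick (Nat.beq i 0) (frameMap x) (wordMap outTauWord (frameMap x))

theorem tau_invol : ((levels.map Level.base).all fun b =>
    Nat.beq (tauMap 1 (tauMap 1 b)) b) = true := by decide +kernel

/-- a lift conjugates the basis as listed -/
noncomputable def phiOK (i k : ℕ) : Bool :=
  (levels.map Level.base).all fun b =>
    Nat.beq (tauMap i (wordMap (exWord (2 ^ k)) (tauMap i b)))
      (wordMap (exWord (nth (outPhi.getD i []) k 0)) b)

theorem phi_images : ((List.range 2).all fun i => (List.range 10).all fun k => phiOK i k) = true := by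
  decide +kernel

/-- the three representatives as maps -/
noncomputable def typeMap (k : ℕ) (x : ℕ) : ℕ :=
  pick (Nat.beq k 0) (outerMap x)
    (pick (Nat.beq k 1) (outerMap (wordMap (certA.conjWord 0 0) x))
      (outerMap (wordMap (certA.conjWord 0 0 ++ certA.conjWord 0 11) x)))

/-- a listed conjugator carries a representative to a lift -/
noncomputable def repOK : (ℕ × ℕ) × (ℕ × List ℕ) → Bool
  | ((i, r), (k, w)) => band (Nat.ble k 2) (band (w.all fun g => Nat.blt g 9)
      ((levels.map Level.base).all fun b => strict (outerMap b) fun x =>
        Nat.beq (wordMap w (typeMap k x)) (wordMap (exWord r) (tauMap i (wordMap w x)))))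

theorem rep_ok_all : outReps.all repOK = true := by decide +kernel

theorem ex_letters : ((List.range 10).all fun k => (exWord (2 ^ k)).all fun g => Nat.blt g 9) = true := by
  decide +kernel

end CfsgLib.Fi22Pres
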