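import Cfsg.Agent.Lib.Fi22Pres.OuterFrame
import Mathlib.GroupTheory.Sylow

/-!
The three classes of outer involutions of Fi22.
-/

set_option autoImplicit false
set_option Elab.async false
set_option maxRecDepth 20000
set_option linter.style.haveILetI false

namespace CfsgLib.Fi22Pres

open CfsgLib.CosetEnum Cfsg.Spor CfsgLib.Fi22USix
open CfsgLib.Classical.LatticeSix (q2)

/-- the second point of the fixed pair -/
def pt11 : Fin certA.N := ⟨11, show 11 < 3510 by omega⟩

/-- the three representatives -/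
noncomputable def typeAut : ℕ → MulAut Fi22
  | 0 => sOuter
  | 1 => sOuter * MulAut.conj (dTr pt0)
  | _ => sOuter * MulAut.conj (dTr pt0 * dTr pt11)

theorem typeAut_outer (k : ℕ) : typeAut k ∉ (MulAut.conj : Fi22 →* MulAut Fi22).range := by
  unfold typeAut
  split
  · exact sOuter_not_inner
  · exact outer_mul_conj _ sOuter_not_inner
  · exact outer_mul_conj _ sOuter_not_inner

theorem permOf_typeAut {k : ℕ} (hk : k ≤ 2) (x : Fin certA.N) :
    (permOf (typeAut k) x : ℕ) = typeMap k x := by
  interval_cases k <;>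
    simp only [typeMap, show Nat.beq 0 0 = true from rfl, show Nat.beq 1 0 = false from rfl,
      show Nat.beq 1 1 = true from rfl, show Nat.beq 2 0 = false from rfl,
      show Nat.beq 2 1 = false from rfl, pick_true, pick_false, typeAut, map_mul, permOf_sOuter,
      permOf_conj, Equiv.Perm.mul_apply, outerPerm_apply]
  · rw [← (dTr_word pt0).2, rho_wordMap (dTr_word pt0).1]; rfl
  · rw [← Equiv.Perm.mul_apply, ← map_mul, ← (dTr_word pt0).2, ← (dTr_word pt11).2, ← prodW_append,
      rho_wordMap fun g hg => (List.mem_append.mp hg).elim ((dTr_word pt0).1 g) ((dTr_word pt11).1 g)]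
    rfl

/-! ### A fixed pair -/

theorem nbr_card (x : Fin certA.N) :
    {z : Fin certA.N | z ≠ x ∧ Commute (dTr x) (dTr z)}.ncard = 693 := by
  set c : Fi22 := (coreRep certA gen x)⁻¹
  have hcx : rho c pt0 = x := setupA.rho_rep_inv x
  have h0 : {z : Fin certA.N | z ≠ pt0 ∧ Commute (dTr pt0) (dTr z)} =
      {z : Fin certA.N | subMask0.testBit z = true} := by
    ext z
    simp only [Set.mem_ofPred_eq]
    refine ⟨fun h => pair_reps h.1 h.2, fun h => ?_⟩
    obtain ⟨g, hg, e⟩ := (setupA.orbit_mem_iff subMask0_orbit z).mpr h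
    have hg0 : rho g pt0 = pt0 := setupA.rho_fix hg
    have e' : rho g pt7 = z := e
    rw [← e', ← hg0]
    refine ⟨(rho g).injective.ne c07.1.symm, ?_⟩
    rw [← dTr_conj, ← dTr_conj]
    exact (conj_commute_iff g _ _).mpr c07.2
  have himg : {z : Fin certA.N | z ≠ x ∧ Commute (dTr x) (dTr z)} =
      rho c '' {z : Fin certA.N | z ≠ pt0 ∧ Commute (dTr pt0) (dTr z)} := by
    ext z
    simp only [Set.mem_ofPred_eq, Set.mem_image]
    constructor
    · rintro ⟨hne, hc⟩
      refine ⟨rho c⁻¹ z, ⟨fun e => hne ?_, ?_⟩, rho_apply_inv c z⟩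
      · rw [← hcx, ← e, rho_apply_inv]
      · rw [← conj_commute_iff c, dTr_conj, dTr_conj, hcx, rho_apply_inv]; exact hc
    · rintro ⟨w, ⟨hw, hwc⟩, rfl⟩
      refine ⟨fun e => hw ((rho c).injective (e.trans hcx.symm)), ?_⟩
      rw [← hcx, ← dTr_conj, ← dTr_conj, conj_commute_iff]; exact hwc
  rw [himg, Set.ncard_image_of_injective _ (rho c).injective, h0, mask_ncard, pair_size]

/-- An involutory automorphism fixes a commuting pair of transpositions. -/
theorem involutory_pair {φ : MulAut Fi22} (h2 : φ * φ = 1) :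
    ∃ x y : Fin certA.N, x ≠ y ∧ Commute (dTr x) (dTr y) ∧ permOf φ x = x ∧ permOf φ y = y := by
  classical
  obtain ⟨x, hx⟩ := involutory_fix φ h2
  have hx' : permOf φ x = x := dTr_inj (by rw [permOf_spec, hx])
  have hinv : ∀ z, permOf φ (permOf φ z) = z := fun z => by
    rw [← Equiv.Perm.mul_apply, ← map_mul, h2, map_one, Equiv.Perm.one_apply]
  set S : Finset (Fin certA.N) :=
    Finset.univ.filter fun z => z ≠ x ∧ Commute (dTr x) (dTr z)
  have hS : ∀ z, z ∈ S ↔ z ≠ x ∧ Commute (dTr x) (dTr z) := fun z => by simp [S]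
  have hcard : S.card = 693 := by
    rw [← nbr_card x, ← Set.ncard_coe_finset]
    congr 1
    ext z
    exact hS z
  by_contra hno
  push Not at hno
  have hsum : (∑ _z ∈ S, (1 : ZMod 2)) = 0 := by
    refine Finset.sum_involution (fun z _ => permOf φ z) (fun z _ => by decide) (fun z hz _ e => ?_)
      (fun z hz => ?_) fun z _ => hinv z
    · exact hno x z ((hS z).mp hz).1.symm ((hS z).mp hz).2 hx' e
    · rw [hS]
      obtain ⟨h1, h3⟩ := (hS z).mp hz
      refine ⟨fun e => h1 ((permOf φ).injective (e.trans hx'.symm)), ?_⟩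
      rw [← hx', permOf_spec, permOf_spec]
      exact h3.map φ
  rw [Finset.sum_const, hcard] at hsum
  exact absurd hsum (by decide)

/-! ### The Sylow 2-subgroup of the orthogonal group -/

/-- an element of the Sylow 2-subgroup -/
noncomputable def twoElt (k : ℕ) : OrthLines.O6 := OrthLines.wordElt (twoWord k)

/-- a generator of the Sylow 2-subgroup -/
noncomputable def twoGen (j : ℕ) : OrthLines.O6 := OrthLines.wordElt (outTwoGens.getD j [])

/-- the Sylow 2-subgroup -/
noncomputable def twoSub : Subgroup OrthLines.O6 :=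
  Subgroup.closure {y | ∃ j < 3, twoGen j = y}

theorem wordElt_flatMap (l : List ℕ) (f : ℕ → List ℕ) :
    OrthLines.wordElt (l.flatMap f) = (l.map fun j => OrthLines.wordElt (f j)).prod := by
  induction l with
  | nil => rfl
  | cons a l ih => rw [List.flatMap_cons, wordElt_append, ih, List.map_cons, List.prod_cons]

theorem twoElt_mem {k : ℕ} (hk : k < 128) : twoElt k ∈ twoSub := by
  have h := two_parts
  simp only [List.all_eq_true, List.mem_range, Nat.blt_eq] at h
  rw [twoElt, twoWord, wordElt_flatMap]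
  refine list_prod_mem fun y hy => ?_
  obtain ⟨j, hj, rfl⟩ := List.mem_map.mp hy
  exact Subgroup.subset_closure ⟨j, h k hk j hj, rfl⟩

theorem twoElt_inj (i j : Fin 128) (e : twoElt i = twoElt j) : i = j := by
  have hl : ∀ l : Fin 45, lineRun (twoWord i) l = lineRun (twoWord j) l := fun l => by
    rw [lineRun_eq, lineRun_eq, ← OrthLines.mu_word, ← OrthLines.mu_word]
    exact congrArg (fun r => ((OrthLines.mu r l : Fin 45) : ℕ)) e
  have hcode : twoCode i = twoCode j := by
    unfold twoCode
    refine List.foldl_ext _ _ _ fun acc l hl' => ?_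
    rw [show lineRun (twoWord i) l = lineRun (twoWord j) l from hl ⟨l, List.mem_range.mp hl'⟩]
  exact Fin.ext (List.inj_on_of_nodup_map two_distinct (List.mem_range.mpr i.2)
    (List.mem_range.mpr j.2) hcode)

theorem twoSub_cases {g : OrthLines.O6} (hg : g ∈ twoSub) : ∃ k < 128, g = twoElt k := by
  suffices h : ∀ k < 128, ∃ m < 128, g * twoElt k = twoElt m by
    obtain ⟨m, hm, e⟩ := h 0 (by norm_num)
    refine ⟨m, hm, ?_⟩
    rwa [show twoElt 0 = 1 by rw [twoElt, two_one]; rfl, mul_one] at e
  unfold twoSub at hg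
  induction hg using Subgroup.closure_induction with
  | mem y hy =>
    obtain ⟨j, hj, rfl⟩ := hy
    intro k hk
    have h := two_closed
    simp only [List.all_eq_true, List.mem_range, twoStepOK, strict_eq, band_eq_true, ltB_iff] at h
    obtain ⟨hm, he⟩ := h j hj k hk
    refine ⟨_, hm, ?_⟩
    rw [twoGen, twoElt, twoElt, ← wordElt_append]
    exact wordElt_ext (by simpa only [List.all_eq_true, List.mem_range] using he)
  | one => exact fun k hk => ⟨k, hk, one_mul _⟩
  | mul a b _ _ ha hb =>
    intro k hk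
    obtain ⟨m, hm, e⟩ := hb k hk
    obtain ⟨n, hn, e'⟩ := ha m hm
    exact ⟨n, hn, by rw [mul_assoc, e, e']⟩
  | inv a _ ha =>
    intro k hk
    choose f hf hf' using ha
    let F : Fin 128 → Fin 128 := fun i => ⟨f i i.2, hf i i.2⟩
    have hF : Function.Injective F := fun i j e => twoElt_inj i j (mul_left_cancel (a := a) (by
      rw [hf' i i.2, hf' j j.2]
      exact congrArg (fun t : Fin 128 => twoElt t) e))
    obtain ⟨i, hi⟩ := Finite.injective_iff_surjective.mp hF ⟨k, hk⟩
    refine ⟨i, i.2, ?_⟩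
    rw [show twoElt k = twoElt (f i i.2) from congrArg (fun t : Fin 128 => twoElt t) hi.symm,
      ← hf' i i.2, inv_mul_cancel_left]

theorem twoSub_card : Nat.card twoSub = 128 := by
  have hinj : Function.Injective fun k : Fin 128 => (⟨twoElt k, twoElt_mem k.2⟩ : twoSub) :=
    fun i j e => twoElt_inj i j (congrArg Subtype.val e)
  have hsurj : Function.Surjective fun k : Fin 128 => (⟨twoElt k, twoElt_mem k.2⟩ : twoSub) := by
    rintro ⟨g, hg⟩
    obtain ⟨k, hk, rfl⟩ := twoSub_cases hg
    exact ⟨⟨k, hk⟩, rfl⟩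
  rw [← Nat.card_congr (Equiv.ofBijective _ ⟨hinj, hsurj⟩), Nat.card_fin]

/-- An odd involution of the orthogonal group is conjugate to one of two. -/
theorem odd_involution {r : OrthLines.O6} (h2 : r * r = 1) (hodd : r ∉ Cfsg.Omega (ZMod 2) q2) :
    ∃ c : OrthLines.O6, c * r * c⁻¹ = OrthLines.wordElt outReflWord ∨
      c * r * c⁻¹ = OrthLines.wordElt outTauRefl * OrthLines.wordElt outReflWord := by
  haveI : Fact (Nat.Prime 2) := ⟨Nat.prime_two⟩
  have hr1 : r ≠ 1 := fun e => hodd (e ▸ one_mem _)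
  have hp : IsPGroup 2 (Subgroup.zpowers r) := IsPGroup.of_card (n := 1) (by
    rw [Nat.card_zpowers, pow_one]
    exact orderOf_eq_prime (by rw [pow_two]; exact h2) hr1)
  obtain ⟨P, hP⟩ := hp.exists_le_sylow
  have hcard : Nat.card twoSub = 2 ^ (Nat.card OrthLines.O6).factorization 2 := by
    rw [twoSub_card, show Nat.card OrthLines.O6 = 51840 from CfsgLib.Classical.LatticeSix.card_O6]
    have hne : (51840 : ℕ) ≠ 0 := by norm_num
    have h7 : (51840 : ℕ).factorization 2 = 7 := by
      rw [show (51840 : ℕ) = 2 ^ 7 * 405 from by norm_num,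
        Nat.factorization_mul (by norm_num) (by norm_num), Finsupp.add_apply,
        Nat.Prime.factorization_pow Nat.prime_two, Finsupp.single_eq_same,
        Nat.factorization_eq_zero_of_not_dvd (by norm_num)]
    rw [h7]; norm_num
  obtain ⟨c, hc⟩ := MulAction.exists_smul_eq OrthLines.O6 P (Sylow.ofCard twoSub hcard)
  have hm : c * r * c⁻¹ ∈ twoSub := by
    have hc' : (P : Subgroup OrthLines.O6).map (MulAut.conj c).toMonoidHom = twoSub := by
      have := congrArg (fun Q : Sylow 2 OrthLines.O6 => (Q : Subgroup OrthLines.O6)) hc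
      rw [Sylow.coe_subgroup_smul] at this
      exact this
    rw [← hc']
    exact ⟨r, hP (Subgroup.mem_zpowers r), rfl⟩
  obtain ⟨k, hk, e⟩ := twoSub_cases hm
  have hodd' : ¬ Even (twoWord k).length := by
    rw [← wordElt_omega, show OrthLines.wordElt (twoWord k) = c * r * c⁻¹ from e.symm]
    intro h
    apply hodd
    haveI : (Cfsg.Omega (ZMod 2) q2).Normal := inferInstance
    have := Subgroup.Normal.conj_mem (H := Cfsg.Omega (ZMod 2) q2) inferInstance _ h c⁻¹
    simpa [mul_assoc] using this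
  have hw := two_witness
  simp only [List.all_eq_true, List.mem_range, twoWitOK, strict_eq] at hw
  have hw' := hw k hk
  split at hw'
  · exfalso
    simp only [Bool.or_eq_true, Nat.beq_eq, List.any_eq_true, List.mem_range,
      Bool.not_eq_true'] at hw'
    rcases hw' with h | ⟨l, hl, h⟩
    · exact hodd' (Nat.even_iff.mpr h)
    · have he : OrthLines.wordElt (twoWord k ++ twoWord k) = 1 := by
        rw [wordElt_append, show OrthLines.wordElt (twoWord k) = c * r * c⁻¹ from e.symm]
        calc c * r * c⁻¹ * (c * r * c⁻¹) = c * (r * r) * c⁻¹ := by group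
          _ = 1 := by rw [h2, mul_one, mul_inv_cancel]
      have h3 := lineRun_eq (twoWord k ++ twoWord k) ⟨l, hl⟩
      rw [← OrthLines.mu_word, he, map_one, Equiv.Perm.one_apply] at h3
      rw [show lineRun (twoWord k ++ twoWord k) l = l from h3, Nat.beq_refl] at h
      exact Bool.noConfusion h
  · rename_i i d hne _
    rw [band_eq_true, Nat.ble_eq] at hw'
    obtain ⟨hi, he⟩ := hw'
    have hconj : OrthLines.wordElt d * (c * r * c⁻¹) * (OrthLines.wordElt d)⁻¹ =
        OrthLines.wordElt (outSigma.getD (i - 1) []) := by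
      rw [mul_inv_eq_iff_eq_mul, e, twoElt, ← wordElt_append, ← wordElt_append]
      exact wordElt_ext (by simpa only [List.all_eq_true, List.mem_range, strict_eq] using he)
    refine ⟨OrthLines.wordElt d * c, ?_⟩
    have hflat : OrthLines.wordElt d * c * r * (OrthLines.wordElt d * c)⁻¹ =
        OrthLines.wordElt (outSigma.getD (i - 1) []) := by rw [← hconj]; group
    rcases (show i - 1 = 0 ∨ i - 1 = 1 by omega) with h | h <;> rw [h] at hflat
    · exact Or.inl (hflat.trans (congrArg OrthLines.wordElt sigma_facts.1))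
    · refine Or.inr (hflat.trans ?_)
      rw [← wordElt_append]
      exact wordElt_ext sigma_facts.2

/-! ### The fibres -/

/-- the bits of a number as a member of the normal 2-subgroup -/
def bitsX (n : ℕ) : Multiplicative (ZMod 2) × XModel :=
  let b : ℕ → ZMod 2 := fun k => if n.testBit k then 1 else 0
  (Multiplicative.ofAdd (b 0), ⟨fun i => (b (2 + 2 * i), b (3 + 2 * i)), b 1⟩)

/-- decidable equality of the model -/
instance : DecidableEq XModel := fun x y =>
  decidable_of_iff (x.v = y.v ∧ x.a = y.a) ⟨fun h => CfsgLib.Extraspecial.Model.ext h.1 h.2,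
    fun h => by rw [h]; exact ⟨rfl, rfl⟩⟩

/-- the number of a member -/
def bitsEnc (q : Multiplicative (ZMod 2) × XModel) : ℕ :=
  q.1.toAdd.val + 2 * (q.2.a.val + 2 * ((q.2.v 0).1.val + 2 * ((q.2.v 0).2.val + 2 *
    ((q.2.v 1).1.val + 2 * ((q.2.v 1).2.val + 2 * ((q.2.v 2).1.val + 2 * ((q.2.v 2).2.val + 2 *
      ((q.2.v 3).1.val + 2 * (q.2.v 3).2.val))))))))

theorem bitsEnc_bits : ∀ n : Fin 1024, bitsEnc (bitsX n) = n := by decide +kernel

theorem bitsX_surjective (q : Multiplicative (ZMod 2) × XModel) : ∃ n : Fin 1024, bitsX n = q := by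
  haveI : Finite (Multiplicative (ZMod 2) × XModel) := inferInstance
  have hcard : Nat.card (Multiplicative (ZMod 2) × XModel) = 1024 := by
    rw [Nat.card_prod, Nat.card_congr Multiplicative.toAdd, Nat.card_zmod,
      CfsgLib.Extraspecial.Model.card]
    norm_num
  have hinj : Function.Injective fun n : Fin 1024 => bitsX n := fun a b h => Fin.ext (by
    rw [← bitsEnc_bits a, ← bitsEnc_bits b]; exact congrArg bitsEnc h)
  obtain ⟨n, hn⟩ := ((Nat.bijective_iff_injective_and_card _).mpr
    ⟨hinj, by rw [hcard, Nat.card_fin]⟩).2 q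
  exact ⟨n, hn⟩

theorem zPow_bit (x : Fi22) (n k : ℕ) :
    zPow x (if n.testBit k then (1 : ZMod 2) else 0) = if n.testBit k then x else 1 := by
  cases n.testBit k <;> simp [zPow]

theorem exWord_spec (n : ℕ) :
    prodW gen (exWord n) = exHom (bitsX n) := by
  have a0 : prodW gen (certA.conjWord 0 0) = dTr pt0 := (dTr_word pt0).2
  have hite : ∀ (k : ℕ) (w : List ℕ), prodW gen (if n.testBit k then w else []) =
      if n.testBit k then prodW gen w else 1 := fun k w => by
    cases n.testBit k <;> simp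
  rw [exWord, exHom_apply, SympBasis.hom_apply, SympBasis.toFun]
  simp only [prodW_append, hite, SympBasis.plane, bitsX, toAdd_ofAdd, zPow_bit, a0,
    pairWord_spec.2]
  rfl

theorem exWord_letters (n : ℕ) : ∀ g ∈ exWord n, g < 9 := by
  have hite : ∀ (k : ℕ) (w : List ℕ), (∀ g ∈ w, g < 9) →
      ∀ g ∈ (if n.testBit k then w else []), g < 9 := fun k w hw g hg => by
    cases h : n.testBit k <;> simp [h] at hg
    exact hw g hg
  have happ : ∀ u w : List ℕ, (∀ g ∈ u, g < 9) → (∀ g ∈ w, g < 9) → ∀ g ∈ u ++ w, g < 9 :=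
    fun u w hu hw g hg => (List.mem_append.mp hg).elim (hu g) (hw g)
  unfold exWord
  repeat' apply happ
  all_goals apply hite
  all_goals first
    | exact (dTr_word pt0).1
    | exact pairWord_spec.1
    | exact basis_lt (by norm_num)

/-- the images of the basis under a lift -/
def phiPt (i k : ℕ) : Multiplicative (ZMod 2) × XModel := bitsX ((outPhi.getD i []).getD k 0)

/-- the automorphism of the model given by the images of the basis -/
def phiX (P : ℕ → Multiplicative (ZMod 2) × XModel) (q : Multiplicative (ZMod 2) × XModel) :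
    Multiplicative (ZMod 2) × XModel :=
  zPow (P 0) q.1.toAdd *
    SympBasis.toFun (P 1) (fun j : Fin 4 => P (2 + 2 * j)) (fun j : Fin 4 => P (3 + 2 * j)) q.2

theorem map_zPow {A B : Type*} [Group A] [Group B] (f : A →* B) (a : A) (t : ZMod 2) :
    f (zPow a t) = zPow (f a) t := by
  unfold zPow; split <;> simp

theorem map_toFun {A B : Type*} [Group A] [Group B] (f : A →* B) (z : A) (a b : Fin 4 → A)
    (x : XModel) :
    f (SympBasis.toFun z a b x) = SympBasis.toFun (f z) (fun i => f (a i)) (fun i => f (b i)) x := by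
  simp only [SympBasis.toFun, SympBasis.plane, map_mul, map_zPow]

/-- An automorphism moves the model as the images of the basis say. -/
theorem phiX_spec (φ : MulAut Fi22) (P : ℕ → Multiplicative (ZMod 2) × XModel)
    (h : ∀ k < 10, φ (exHom (bitsX (2 ^ k))) = exHom (P k))
    (q : Multiplicative (ZMod 2) × XModel) : φ (exHom q) = exHom (phiX P q) := by
  have b0 : exHom (bitsX (2 ^ 0)) = dTr pt0 := by
    rw [← exWord_spec]
    exact (congrArg (prodW gen) (show exWord (2 ^ 0) = certA.conjWord 0 0 by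
      unfold exWord; norm_num [Nat.testBit_one_eq_true_iff_self_eq_zero])).trans (dTr_word pt0).2
  have b1 : exHom (bitsX (2 ^ 1)) = pairProd := by
    rw [← exWord_spec, ← pairWord_spec.2]
    congr 1
  have bA : ∀ j : Fin 4, exHom (bitsX (2 ^ (2 + 2 * (j : ℕ)))) = eA j := by
    intro j
    rw [← exWord_spec, eA]
    congr 1
    fin_cases j <;> simp [exWord, Nat.testBit_succ]
  have bB : ∀ j : Fin 4, exHom (bitsX (2 ^ (3 + 2 * (j : ℕ)))) = eB j := by
    intro j
    rw [← exWord_spec, eB]
    congr 1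
    fin_cases j <;> simp [exWord, Nat.testBit_succ]
  rw [exHom_apply, SympBasis.hom_apply]
  show φ.toMonoidHom _ = _
  rw [map_mul, map_zPow, map_toFun, phiX, map_mul, map_zPow, map_toFun]
  simp only [MulEquiv.coe_toMonoidHom]
  congr 1
  · rw [← b0, h 0 (by norm_num)]
  · congr 1
    · rw [← b1, h 1 (by norm_num)]
    · funext j; rw [← bA, h _ (by omega)]
    · funext j; rw [← bB, h _ (by omega)]

/-- the certificates of a lift -/
def certList (i : ℕ) : List (ℕ × ℕ × ℕ) := if i = 0 then outCert1 else outCert2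

/-- an element gives no involution, or is conjugate to a listed representative -/
def fibreOK (i n : ℕ) : Bool :=
  decide (bitsX n * phiX (phiPt i) (bitsX n) ≠ 1) ||
    (certList i).any fun p => decide (p.1 = n) &&
      (decide (bitsX p.2.1 * bitsX p.2.2 * (phiX (phiPt i) (bitsX p.2.1))⁻¹ = bitsX n) &&
        outReps.any fun q => decide (q.1 = (i, p.2.2)))

theorem fibre_ok : ∀ i : Fin 2, ∀ n : Fin 1024, fibreOK i n = true := by decide +kernel

/-- the lifts of the two representatives -/
noncomputable def tauAut : ℕ → MulAut Fi22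
  | 0 => sPair
  | _ => MulAut.conj (prodW gen outTauWord) * sPair

theorem tauAut_outer (i : ℕ) : tauAut i ∉ (MulAut.conj : Fi22 →* MulAut Fi22).range := by
  unfold tauAut
  split
  · exact sPair_not_inner
  · exact conj_mul_outer _ sPair_not_inner

theorem permOf_tauAut {i : ℕ} (hi : i < 2) (x : Fin certA.N) :
    (permOf (tauAut i) x : ℕ) = tauMap i x := by
  interval_cases i
  · simpa [tauAut, tauMap] using permOf_sPair x
  · simp only [tauAut, tauMap, show Nat.beq 1 0 = false from rfl, pick_false, map_mul, permOf_conj,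
      Equiv.Perm.mul_apply]
    rw [rho_wordMap (letters_of_all tau_word_facts.1), permOf_sPair]

theorem tauAut_sq {i : ℕ} (hi : i < 2) : tauAut i * tauAut i = 1 := by
  interval_cases i
  · exact sPair_sq
  · obtain ⟨g, hg⟩ : ∃ g : Fi22, tauAut 1 * tauAut 1 = MulAut.conj g := by
      rcases aut_cases (tauAut 1 * tauAut 1) with h | ⟨g, hg⟩
      · exact h
      · exfalso
        have h := (Subgroup.mul_mem_iff_of_index_two inner_index
          (a := tauAut 1) (b := tauAut 1)).mpr Iff.rfl
        rw [hg] at h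
        exact conj_mul_outer g sOuter_not_inner h
    rw [hg, eq_of_base (g := g) (h := 1) fun b hb => ?_, map_one]
    rw [← permOf_conj, ← hg, map_mul, map_one, Equiv.Perm.one_apply, Equiv.Perm.mul_apply]
    apply Fin.ext
    rw [permOf_tauAut one_lt_two, permOf_tauAut one_lt_two]
    exact Nat.eq_of_beq_eq_true (List.all_eq_true.mp tau_invol _ hb)

theorem tauAut_basis {i : ℕ} (hi : i < 2) {k : ℕ} (hk : k < 10) :
    tauAut i (exHom (bitsX (2 ^ k))) = exHom (phiPt i k) := by
  have h := phi_images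
  simp only [List.all_eq_true, List.mem_range] at h
  have h' := h i hi k hk
  refine eq_of_base fun b hb => ?_
  rw [← permOf_conj, ← conj_apply_eq, inv_eq_of_mul_eq_one_right (tauAut_sq hi), map_mul, map_mul,
    Equiv.Perm.mul_apply, Equiv.Perm.mul_apply, permOf_conj, ← exWord_spec]
  apply Fin.ext
  rw [permOf_tauAut hi, rho_wordMap (exWord_letters _), permOf_tauAut hi, phiPt, ← exWord_spec,
    rho_wordMap (exWord_letters _), ← nth_eq]
  exact Nat.eq_of_beq_eq_true (List.all_eq_true.mp h' _ hb)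

theorem fibre {i : ℕ} (hi : i < 2) {e : Fi22} (he : e ∈ exPart)
    (h2 : MulAut.conj e * tauAut i * (MulAut.conj e * tauAut i) = 1) :
    ∃ (k : ℕ) (g : Fi22), k ≤ 2 ∧
      MulAut.conj e * tauAut i = MulAut.conj g * typeAut k * (MulAut.conj g)⁻¹ := by
  obtain ⟨q, rfl⟩ := he
  obtain ⟨n, rfl⟩ := bitsX_surjective q
  have hτ := tauAut_sq hi
  have hτi : (tauAut i)⁻¹ = tauAut i := inv_eq_of_mul_eq_one_right hτ
  have hφ : ∀ q, tauAut i (exHom q) = exHom (phiX (phiPt i) q) :=
    phiX_spec _ _ fun k hk => tauAut_basis hi hk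
  have hmove : ∀ q, tauAut i * MulAut.conj (exHom q) =
      MulAut.conj (exHom (phiX (phiPt i) q)) * tauAut i := fun q => by
    rw [← hφ, ← conj_apply_eq, inv_mul_cancel_right]
  have h := fibre_ok ⟨i, hi⟩ n
  simp only [fibreOK, Bool.or_eq_true, decide_eq_true_eq, List.any_eq_true, Bool.and_eq_true] at h
  rcases h with h | ⟨⟨m, f, r⟩, -, -, hr, hrep⟩
  · exfalso
    apply h
    refine exHom_injective (conj_injective_Fi22 ?_)
    rw [map_mul, map_mul, map_one, map_one]
    rw [mul_assoc, ← mul_assoc (tauAut i), hmove, mul_assoc, hτ, mul_one] at h2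
    exact h2
  · obtain ⟨⟨⟨i', r'⟩, k, w⟩, hq, e⟩ := hrep
    simp only [Prod.mk.injEq] at e
    obtain ⟨rfl, rfl⟩ := e
    have hok := List.all_eq_true.mp rep_ok_all _ hq
    simp only [repOK, band_eq_true, Nat.ble_eq, List.all_eq_true, List.mem_map,
      forall_exists_index, and_imp, forall_apply_eq_imp_iff₂, Nat.blt_eq, strict_eq] at hok
    obtain ⟨hk, hw, hb⟩ := hok
    have heq : MulAut.conj (prodW gen w) * typeAut k =
        MulAut.conj (exHom (bitsX r')) * tauAut i' * MulAut.conj (prodW gen w) := by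
      refine outer_eq_of_base (conj_mul_outer _ (typeAut_outer k))
        (outer_mul_conj _ (conj_mul_outer _ (tauAut_outer i'))) fun b hb' => ?_
      obtain ⟨l, hl, e⟩ := List.mem_map.mp hb'
      have := hb l hl
      rw [e] at this
      simp only [map_mul, Equiv.Perm.mul_apply, permOf_conj]
      apply Fin.ext
      rw [rho_wordMap hw, permOf_typeAut hk, outerPerm_apply, ← exWord_spec,
        rho_wordMap (exWord_letters _), permOf_tauAut hi, rho_wordMap hw, outerPerm_apply]
      exact Nat.eq_of_beq_eq_true this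
    refine ⟨k, exHom (bitsX f) * prodW gen w, hk, ?_⟩
    have hgoal : MulAut.conj (exHom (bitsX n)) * tauAut i' =
        MulAut.conj (exHom (bitsX f)) * (MulAut.conj (exHom (bitsX r')) * tauAut i') *
          (MulAut.conj (exHom (bitsX f)))⁻¹ := by
      have hm' := congrArg (fun q => MulAut.conj (exHom q)) hr
      simp only [map_mul, map_inv] at hm'
      rw [← hm', eq_mul_inv_iff_mul_eq]
      calc MulAut.conj (exHom (bitsX f)) * MulAut.conj (exHom (bitsX r')) *
            (MulAut.conj (exHom (phiX (phiPt i') (bitsX f))))⁻¹ * tauAut i' *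
            MulAut.conj (exHom (bitsX f))
          = MulAut.conj (exHom (bitsX f)) * MulAut.conj (exHom (bitsX r')) *
            ((MulAut.conj (exHom (phiX (phiPt i') (bitsX f))))⁻¹ *
              (tauAut i' * MulAut.conj (exHom (bitsX f)))) := by group
        _ = _ := by rw [hmove]; group
    rw [hgoal, map_mul, ← mul_inv_eq_iff_eq_mul.mpr heq]
    group

set_option maxHeartbeats 1000000 in
/-- An outer automorphism of order two is conjugate to one of the three representatives. -/
theorem outer_class {t : MulAut Fi22} (ht : t ∉ (MulAut.conj : Fi22 →* MulAut Fi22).range)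
    (h2 : t * t = 1) :
    ∃ (k : ℕ) (g : Fi22), k ≤ 2 ∧ t = MulAut.conj g * typeAut k * (MulAut.conj g)⁻¹ := by
  have hconj : ∀ (g : Fi22) {u : MulAut Fi22}, u * u = 1 →
      (MulAut.conj g * u * (MulAut.conj g)⁻¹) * (MulAut.conj g * u * (MulAut.conj g)⁻¹) = 1 :=
    fun g u hu => by
      calc _ = MulAut.conj g * (u * u) * (MulAut.conj g)⁻¹ := by group
        _ = 1 := by rw [hu, mul_one, mul_inv_cancel]
  -- move a fixed pair to the standard one
  obtain ⟨x, y, hne, hc, fx, fy⟩ := involutory_pair h2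
  obtain ⟨g₁, gx, gy⟩ := pair_transitive hne hc
  obtain ⟨u, hu⟩ : ∃ u, u = MulAut.conj g₁⁻¹ * t * (MulAut.conj g₁⁻¹)⁻¹ := ⟨_, rfl⟩
  have hu2 : u * u = 1 := hu ▸ hconj _ h2
  have huo : u ∉ (MulAut.conj : Fi22 →* MulAut Fi22).range := hu ▸ outer_conj _ ht
  have huf : ∀ p z : Fin certA.N, rho g₁ p = z → permOf t z = z → permOf u p = p := fun p z hp hz => by
    rw [hu, map_inv, inv_inv, map_mul, map_mul, map_inv, permOf_conj, ← map_inv,
      Equiv.Perm.mul_apply, Equiv.Perm.mul_apply, hp, hz, ← hp, rho_inv_apply]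
  obtain ⟨x', hx'⟩ : ∃ x' : Fi22, u = MulAut.conj x' * sPair := by
    have : u * sPair ∈ (MulAut.conj : Fi22 →* MulAut Fi22).range :=
      (Subgroup.mul_mem_iff_of_index_two inner_index).mpr
        ⟨fun h => absurd h huo, fun h => absurd h sPair_not_inner⟩
    obtain ⟨g, hg⟩ := this
    exact ⟨g, by rw [hg, mul_assoc, sPair_sq, mul_one]⟩
  have hxs : x' ∈ pairStab := by
    have h0 := huf pt0 x gx fx
    have h7 := huf pt7 y gy fy
    rw [hx', map_mul, permOf_conj, Equiv.Perm.mul_apply] at h0 h7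
    rw [sPair_points.1] at h0
    rw [sPair_points.2] at h7
    exact ⟨h0, h7⟩
  have huC : u ∈ autCent :=
    hx' ▸ mul_mem (conj_mem_autCent.mpr (pairStab_le hxs)) sPair_cent
  obtain ⟨r, hr⟩ : ∃ r, r = autOrth ⟨u, huC⟩ := ⟨_, rfl⟩
  have hr2 : r * r = 1 := by
    rw [hr, ← map_mul, show (⟨u, huC⟩ : autCent) * ⟨u, huC⟩ = 1 from Subtype.ext hu2, map_one]
  have hreq : ∀ g : pairCent, autOrth ⟨MulAut.conj (g : Fi22) * sPair,
      mul_mem (conj_mem_autCent.mpr g.2) sPair_cent⟩ = toOrth g * OrthLines.wordElt outReflWord :=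
    fun g => by
      have h2 : (MulAut.conj (g : Fi22), toOrth g) * (sPair, OrthLines.wordElt outReflWord) ∈
          blockPairsAut := blockPairsAut.mul_mem (blockPairs_conj g) sPair_blocks
      rw [Prod.mk_mul_mk] at h2
      exact autOrth_eq h2
  have hodd0 : OrthLines.wordElt outReflWord ∉ Cfsg.Omega (ZMod 2) q2 := by
    rw [wordElt_omega]; decide
  have hodd : r ∉ Cfsg.Omega (ZMod 2) q2 := by
    have : r = toOrth ⟨x', pairStab_le hxs⟩ * OrthLines.wordElt outReflWord := by
      rw [hr, ← hreq]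
      exact congrArg autOrth (Subtype.ext hx')
    rw [this, Subgroup.mul_mem_cancel_left _ ((toOrth_omega _).mpr hxs)]
    exact hodd0
  -- conjugate its image to a representative
  obtain ⟨c, hc'⟩ := odd_involution hr2 hodd
  obtain ⟨g₂, rfl⟩ := toOrth_surjective c
  obtain ⟨v, hv⟩ : ∃ v, v = MulAut.conj (g₂ : Fi22) * u * (MulAut.conj (g₂ : Fi22))⁻¹ := ⟨_, rfl⟩
  have hv2 : v * v = 1 := hv ▸ hconj _ hu2
  have hvo : v ∉ (MulAut.conj : Fi22 →* MulAut Fi22).range := hv ▸ outer_conj _ huo
  have hgC : MulAut.conj (g₂ : Fi22) ∈ autCent := conj_mem_autCent.mpr g₂.2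
  have hvC : v ∈ autCent := hv ▸ mul_mem (mul_mem hgC huC) (inv_mem hgC)
  have hvr : autOrth ⟨v, hvC⟩ = toOrth g₂ * r * (toOrth g₂)⁻¹ := by
    rw [show (⟨v, hvC⟩ : autCent) = ⟨_, hgC⟩ * ⟨u, huC⟩ * (⟨_, hgC⟩)⁻¹ from Subtype.ext hv, map_mul,
      map_mul, map_inv, autOrth_conj, hr]
  obtain ⟨z, hz⟩ : ∃ z : pairCent, v = MulAut.conj (z : Fi22) * sPair := by
    obtain ⟨g, hg, h | h⟩ := autCent_cases hvC
    · exact absurd ⟨g, h.symm⟩ hvo
    · exact ⟨⟨g, hg⟩, h⟩
  have hvz : autOrth ⟨v, hvC⟩ = toOrth z * OrthLines.wordElt outReflWord := by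
    rw [← hreq]; exact congrArg autOrth (Subtype.ext hz)
  obtain ⟨i, e, hi, he, hve⟩ : ∃ (i : ℕ) (e : Fi22), i < 2 ∧ e ∈ exPart ∧
      v = MulAut.conj e * tauAut i := by
    rcases hc' with h | h
    · refine ⟨0, z, by norm_num, ?_, hz⟩
      have h1 : toOrth z = 1 := by
        rw [← hvr, hvz] at h
        exact mul_eq_right.mp h
      have : z ∈ toOrth.ker := h1
      rwa [toOrth_ker, Subgroup.mem_subgroupOf] at this
    · have hwf := letters_of_all tau_word_facts.1
      have hwC : prodW gen outTauWord ∈ pairCent := (pairCent_mem _).mpr (Or.inl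
        ⟨Fin.ext ((rho_wordMap hwf pt0).trans tau_word_facts.2.1),
          Fin.ext ((rho_wordMap hwf pt7).trans tau_word_facts.2.2)⟩)
      have hwr : toOrth ⟨_, hwC⟩ = OrthLines.wordElt outTauRefl :=
        blockPairs_unique (blockPairs_conj ⟨_, hwC⟩)
          (blockPairs_of_check (fun x => by rw [permOf_conj]; exact rho_wordMap hwf x) tau_blocks)
      have h1 : toOrth (z * (⟨_, hwC⟩ : pairCent)⁻¹) = 1 := by
        rw [← hvr, hvz] at h
        rw [map_mul, map_inv, hwr, mul_right_cancel h, mul_inv_cancel]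
      refine ⟨1, (z : Fi22) * (prodW gen outTauWord)⁻¹, by norm_num, ?_, ?_⟩
      · have : z * (⟨_, hwC⟩ : pairCent)⁻¹ ∈ toOrth.ker := h1
        rwa [toOrth_ker, Subgroup.mem_subgroupOf] at this
      · show v = _ * (MulAut.conj (prodW gen outTauWord) * sPair)
        rw [← mul_assoc, ← map_mul, inv_mul_cancel_right]
        exact hz
  obtain ⟨k, g, hk, hg⟩ := fibre hi he (hve ▸ hv2)
  refine ⟨k, g₁ * (g₂ : Fi22)⁻¹ * g, hk, ?_⟩
  rw [hv, hu, map_inv] at hve
  simp only [map_mul, map_inv] at hve ⊢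
  have ht' : t = MulAut.conj g₁ * (MulAut.conj (g₂ : Fi22))⁻¹ *
      (MulAut.conj e * tauAut i) * MulAut.conj (g₂ : Fi22) * (MulAut.conj g₁)⁻¹ := by
    rw [← hve]; group
  rw [ht', hg]
  group

end CfsgLib.Fi22Pres
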