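import Cfsg.Agent.Lib.Fi22Pres.OuterChecks

/-!
Kernel checks for the centralizers of the outer involutions of the presented Fischer group Fi22.
-/

set_option autoImplicit false
set_option Elab.async false
set_option maxRecDepth 20000

namespace CfsgLib.Fi22Pres

open CfsgLib.CosetEnum Matrix CfsgLib.Classical.LatticeSix

theorem fix_two : (Cert.allPts certA.N fun x => strict x fun x =>
    Nat.beq (typeMap 1 x) x == Nat.testBit outFixTwoMask x) = true := by decide +kernel

theorem fix_two_mask : maskOf outFixTwo = outFixTwoMask ∧ outFixTwo.Nodup ∧ outFixTwo.length = 64 := by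
  decide +kernel

theorem fix_three : (Cert.allPts certA.N fun x => strict x fun x =>
    Nat.beq (typeMap 2 x) x == Nat.testBit outFixThreeMask x) = true := by decide +kernel

theorem fix_three_mask :
    maskOf outFixThree = outFixThreeMask ∧ outFixThree.Nodup ∧ outFixThree.length = 72 := by
  decide +kernel

theorem fix_two_first : inList outFixTwo 0 = true ∧
    (outFixTwo.all fun x => certA.relB commMask 0 x) = true ∧
    (outFixTwo.all fun x => Nat.beq x 0 ||
      outFixTwo.any fun y => !(certA.relB commMask x y)) = true := by decide +kernel

/-- two fixed transpositions are mates: they commute and agree on the other ones -/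
noncomputable def mateB (x y : ℕ) : Bool :=
  band (!(Nat.beq x y)) (band (certA.relB commMask x y)
    (outFixThree.all fun z => Nat.beq z x || Nat.beq z y ||
      certA.relB commMask x z == certA.relB commMask y z))

theorem mate_first : inList outFixThree 0 = true ∧ inList outFixThree 11 = true ∧
    (outFixThree.all fun y => mateB 0 y == Nat.beq y 11) = true := by decide +kernel

/-- the number of the pair of a listed transposition -/
noncomputable def pairIdx (x : ℕ) : ℕ :=
  List.rec (motive := fun _ => ℕ → ℕ) (fun i => i / 2)
    (fun y _ ih i => pick (Nat.beq x y) (i / 2) (ih (i + 1))) outFixThree 0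

/-- the vector of a pair -/
def pairVec (i : Fin 36) : OrthLines.Co → ZMod 2 := OrthLines.vecOf (outVecNum.getD i 0)

theorem pair_vecs : (∀ v : OrthLines.Co → ZMod 2, q2 v = 1 → ∃ i, pairVec i = v) ∧
    (∀ i, q2 (pairVec i) = 1) ∧ (∀ i j, pairVec i = pairVec j → i = j) ∧
    ∀ k : OrthLines.Co, ∃ a b : Fin 36, pairVec a + pairVec b = Pi.single k 1 ∨
      pairVec a = Pi.single k 1 := by decide +kernel

theorem refl_pair_vecs : ∀ (j : Fin 6) (i : Fin 36),
    nth (outReflImg.getD j []) i 36 < 36 ∧
    OrthLines.vecOf (outVecNum.getD (nth (outReflImg.getD j []) i 36) 0) = m2 (refl j) *ᵥ pairVec i := by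
  decide +kernel

theorem refl_pts : outReflPts.length = 6 ∧ (outReflPts.all fun x => inList outFixThree x) = true ∧
    ((List.range 6).all fun j => (List.range 72).all fun m =>
      strict (wordMap (trWord (nth outReflPts j 0)) (nth outFixThree m 0)) fun y =>
        Nat.beq (pairIdx y) (nth (outReflImg.getD j []) (m / 2) 36)) = true ∧
    ((List.range 72).all fun m => Nat.beq (pairIdx (nth outFixThree m 0)) (m / 2)) = true := by
  decide +kernel

/-- the word of the product of a pair -/
noncomputable def coreWord (j : ℕ) : List ℕ :=
  trWord (nth outFixThree (2 * nth outCoreBasis j 0) 0) ++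
    trWord (nth outFixThree (2 * nth outCoreBasis j 0 + 1) 0)

/-- the word of a product of the six -/
noncomputable def coreProd (n : ℕ) : List ℕ :=
  (List.range 6).flatMap fun j => if n.testBit j then coreWord j else []

theorem core_trivial : ((List.range 6).all fun j => (List.range 72).all fun m =>
    Nat.beq (pairIdx (wordMap (coreWord j) (nth outFixThree m 0))) (m / 2)) = true := by
  decide +kernel

theorem core_idx : ((List.range 6).all fun j => Nat.blt (nth outCoreBasis j 36) 36) = true := by
  decide +kernel

theorem core_comm : ((List.range 6).all fun i => (List.range 6).all fun j =>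
    band (sameBase (coreWord i ++ coreWord j) (coreWord j ++ coreWord i))
      (sameBase (coreWord i ++ coreWord i) [])) = true := by decide +kernel

theorem core_indep : ((List.range 64).map fun n =>
    (levels.map Level.base).map fun b => wordMap (coreProd n) b).Nodup := by
  decide +kernel

theorem chain_move : (outChainMove.all fun z => inList autPts z) = true ∧
    wordMap (outChainMove.flatMap trWord) (nth autChain 0 0) = 0 ∧
    wordMap (outChainMove.flatMap trWord) (nth autChain 1 0) = 11 ∧
    inList autBlock 0 = true ∧ inList autBlock 11 = true ∧ certA.relB commMask 0 11 = true := by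
  decide +kernel

theorem q_word_facts : (outQWord.all fun g => Nat.blt g 9) = true ∧
    wordMap outQWord 0 = 7 ∧ wordMap outQWord 7 = 0 := by decide +kernel

theorem q_blocks : blockActOK (wordMap outQWord) outQRefl = true ∧ outQRefl = outReflWord := by
  decide +kernel

/-- the outer element of the large extraspecial subgroup as a map -/
noncomputable def qMap (x : ℕ) : ℕ := wordMap outQWord (frameMap x)

theorem q_invol : ((levels.map Level.base).all fun b => Nat.beq (qMap (qMap b)) b) = true := by
  decide +kernel

theorem q_images : ((List.range 10).all fun k => (levels.map Level.base).all fun b =>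
    Nat.beq (qMap (wordMap (exWord (2 ^ k)) (qMap b)))
      (wordMap (exWord (nth outQImg k 0)) b)) = true := by decide +kernel

theorem q_move : (outQMove.all fun g => Nat.blt g 9) = true ∧
    ((levels.map Level.base).all fun b => strict (outerMap b) fun x =>
      Nat.beq (wordMap outQMove (typeMap 2 x)) (qMap (wordMap outQMove x))) = true ∧
    ((List.range 72).all fun m =>
      Nat.beq (pairIdx (wordMap (certA.revInv outQMove ++ pairWord ++ outQMove) (nth outFixThree m 0)))
        (m / 2)) = true := by
  decide +kernel

end CfsgLib.Fi22Pres
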