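import Cfsg.Agent.Lib.Fi22Pres.OuterClasses
import Cfsg.Agent.Lib.Fi22Pres.OuterFixChecks
import Cfsg.Agent.Lib.Fi22Pres.OrthPointSix

/-!
The centralizers in Fi22 of the three outer involutions.
-/

set_option autoImplicit false
set_option Elab.async false
set_option maxRecDepth 20000
set_option linter.style.haveILetI false

namespace CfsgLib.Fi22Pres

open CfsgLib.CosetEnum Cfsg.Spor CfsgLib.Fi22USix
open CfsgLib.Classical.LatticeSix (q2)

/-- the fixed subgroup of an automorphism -/
def fixSub (φ : MulAut Fi22) : Subgroup Fi22 where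
  carrier := {g | φ g = g}
  one_mem' := map_one φ
  mul_mem' := fun {a b} ha hb => by
    simp only [Set.mem_ofPred_eq] at ha hb ⊢
    rw [map_mul, ha, hb]
  inv_mem' := fun {a} ha => by
    simp only [Set.mem_ofPred_eq] at ha ⊢
    rw [map_inv, ha]

theorem mem_fixSub {φ : MulAut Fi22} {g : Fi22} : g ∈ fixSub φ ↔ φ g = g := Iff.rfl

theorem fixSub_points {φ : MulAut Fi22} {g : Fi22} (hg : g ∈ fixSub φ) {x : Fin certA.N}
    (hx : permOf φ x = x) : permOf φ (rho g x) = rho g x := by
  rw [← Equiv.Perm.mul_apply, ← (fixed_iff φ g).mp hg, Equiv.Perm.mul_apply, hx]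

theorem comm_of_fix {g : Fi22} {x : Fin certA.N} (h : rho g x = x) : Commute g (dTr x) := by
  have := dTr_conj g x
  rw [h] at this
  exact mul_inv_eq_iff_eq_mul.mp this

theorem fixed_mem_two (x : Fin certA.N) :
    permOf (typeAut 1) x = x ↔ (x : ℕ) ∈ outFixTwo := by
  have h := Cert.allPts_spec fix_two x x.2
  simp only [strict_eq, beq_iff_eq] at h
  rw [Fin.ext_iff, permOf_typeAut one_le_two, ← testBit_maskOf, fix_two_mask.1, ← h, Nat.beq_eq]

theorem fixed_mem_three (x : Fin certA.N) :
    permOf (typeAut 2) x = x ↔ (x : ℕ) ∈ outFixThree := by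
  have h := Cert.allPts_spec fix_three x x.2
  simp only [strict_eq, beq_iff_eq] at h
  rw [Fin.ext_iff, permOf_typeAut le_rfl, ← testBit_maskOf, fix_three_mask.1, ← h, Nat.beq_eq]

theorem fixed_card :
    {x : Fin certA.N | permOf (typeAut 0) x = x}.ncard = 360 ∧
    {x : Fin certA.N | permOf (typeAut 1) x = x}.ncard = 64 ∧
    {x : Fin certA.N | permOf (typeAut 2) x = x}.ncard = 72 := by
  have key : ∀ l : List ℕ, l.Nodup → (∀ y ∈ l, y < certA.N) →
      {x : Fin certA.N | (x : ℕ) ∈ l}.ncard = l.length := by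
    intro l hnd hlt
    have e : {x : Fin certA.N | (x : ℕ) ∈ l} =
        Set.range fun i : Fin l.length => (⟨l[i], hlt _ (List.getElem_mem _)⟩ : Fin certA.N) := by
      ext x
      simp only [Set.mem_ofPred_eq, Set.mem_range]
      constructor
      · intro h
        obtain ⟨i, hi, he⟩ := List.mem_iff_getElem.mp h
        exact ⟨⟨i, hi⟩, Fin.ext he⟩
      · rintro ⟨i, rfl⟩
        exact List.getElem_mem _
    rw [e, ← Nat.card_coe_set_eq, Nat.card_range_of_injective fun i j h =>
      Fin.ext (hnd.getElem_inj_iff.mp (congrArg Fin.val h)), Nat.card_fin]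
  refine ⟨?_, ?_, ?_⟩
  · rw [show {x : Fin certA.N | permOf (typeAut 0) x = x} = {x : Fin certA.N | (x : ℕ) ∈ autPts} from
      Set.ext fun x => by simp only [Set.mem_ofPred_eq, typeAut, permOf_sOuter, outer_fix_iff]]
    obtain ⟨-, -, -, -, -, -, -, -, -, -, hlt⟩ := aut_basic
    have hf : autPts.Nodup ∧ autPts.length = 360 := by decide +kernel
    rw [key _ hf.1 hlt, hf.2]
  · simp only [fixed_mem_two]
    have hlt : (outFixTwo.all fun y => Nat.blt y certA.N) = true := by decide +kernel
    rw [key _ fix_two_mask.2.1 (by simpa only [List.all_eq_true, Nat.blt_eq] using hlt),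
      fix_two_mask.2.2]
  · simp only [fixed_mem_three]
    have hlt : (outFixThree.all fun y => Nat.blt y certA.N) = true := by decide +kernel
    rw [key _ fix_three_mask.2.1 (by simpa only [List.all_eq_true, Nat.blt_eq] using hlt),
      fix_three_mask.2.2]

/-! ### The second class -/

theorem fix_two_center {g : Fi22} (hg : g ∈ fixSub (typeAut 1)) : rho g pt0 = pt0 := by
  obtain ⟨h0, hall, hnone⟩ := fix_two_first
  simp only [List.all_eq_true, inList_iff, Bool.or_eq_true, Nat.beq_eq, List.any_eq_true,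
    Bool.not_eq_true'] at h0 hall hnone
  have p0 : permOf (typeAut 1) pt0 = pt0 := (fixed_mem_two pt0).mpr h0
  by_contra hne
  rcases hnone (rho g pt0 : ℕ) ((fixed_mem_two _).mp (fixSub_points hg p0)) with h | ⟨y, hy, h⟩
  · exact hne (Fin.ext h)
  · have hlt : (outFixTwo.all fun y => Nat.blt y certA.N) = true := by decide +kernel
    simp only [List.all_eq_true, Nat.blt_eq] at hlt
    set Y : Fin certA.N := ⟨y, hlt y hy⟩
    have hY' : permOf (typeAut 1) (rho g⁻¹ Y) = rho g⁻¹ Y :=
      fixSub_points (inv_mem hg) ((fixed_mem_two Y).mpr hy)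
    have hc := (graph.commute_iff repWords pt0 _).mp (hall _ ((fixed_mem_two _).mp hY'))
    rw [show certA.relB commMask (rho g pt0 : ℕ) y = true from
      (graph.commute_iff repWords (rho g pt0) Y).mpr (by
        have := (conj_commute_iff g _ _).mpr hc
        change Commute (g * dTr pt0 * g⁻¹) (g * dTr (rho g⁻¹ Y) * g⁻¹) at this
        rwa [dTr_conj, dTr_conj, rho_apply_inv] at this)] at h
    exact Bool.noConfusion h

theorem typeTwo_fixed (g : Fi22) : typeAut 1 g = g ↔
    g ∈ fixOuter ⊓ Subgroup.centralizer ({dTr pt0} : Set Fi22) := by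
  rw [Subgroup.mem_inf, ← sOuter_fix_iff, Subgroup.mem_centralizer_singleton_iff]
  show sOuter (dTr pt0 * g * (dTr pt0)⁻¹) = g ↔ _
  constructor
  · intro h
    have hc : Commute g (dTr pt0) := comm_of_fix (fix_two_center (mem_fixSub.mpr h))
    exact ⟨by rwa [← hc.eq, mul_inv_cancel_right] at h, hc.eq⟩
  · rintro ⟨h1, h2⟩
    rw [← h2, mul_inv_cancel_right, h1]

theorem autBlockPt_zero : autBlockPt 0 = pt0 := Fin.ext (by
  show nth autBlock 0 0 = 0
  decide +kernel)

theorem blockVec_zero : blockVec 0 = PointSix.point := by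
  have : ∀ k : Fin 4 ⊕ Fin 4, blockVec 0 k = PointSix.point k := by decide +kernel
  exact funext this

theorem autBlk_zero (i : Fin 120) (h : (autBlockPt i : ℕ) ∈ autPts) :
    blk ⟨autBlockPt i, h⟩ = 0 := by
  apply Fin.ext
  show blockIdx (autBlockPt i) = 0
  rw [blockIdx, (masks_spec _).2.mpr (autBlockPt_mem i), pick_true]

theorem first_in_block : dTr pt0 ∈ blockGroup :=
  dTr_mem_symPart (by rw [← autBlockPt_zero]; exact autBlockPt_mem 0)

theorem toO8_first : toO8 ⟨dTr pt0, first_in_block⟩ = PointSix.pointRefl := by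
  obtain ⟨hx, hm⟩ := eight_mem 0
  have e : (⟨nth autEight ((0 : Fin 8) : ℕ) 0, hx⟩ : Fin certA.N) = pt0 := by
    rw [← autBlockPt_zero]
    exact Fin.ext (autBlock_len.2.2.2 0 (by norm_num)).symm
  have h := toO8_eight 0 hx hm
  rw [show (⟨dTr pt0, first_in_block⟩ : blockGroup) = ⟨_, hm⟩ from Subtype.ext (congrArg dTr e).symm, h]
  have hv : blockVec (eightIdx 0) = PointSix.point := blockVec_zero
  have hs : CfsgLib.Orth.IsRefl (blockVec (eightIdx 0)) (eightRefl 0) :=
    (exists_eightRefl 0).choose_spec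
  rw [hv] at hs
  exact CfsgLib.Orth.ext_ap fun x => by rw [hs.2, PointSix.pointRefl_spec.2]

theorem stab_le_block {g : Fi22} (hg : g ∈ fixOuter) (h0 : rho g pt0 = pt0) : g ∈ blockGroup := by
  have hga : g ∈ autGroup := autGroup_structure.1 ▸ hg
  have hy : (autBlockPt 0 : ℕ) ∈ autPts :=
    aut_basic.2.2.2.2.2.2.2.2.1 _ (autBlockPt_mem 0)
  have fix0 : ∀ k : autGroup, rho (k : Fi22) pt0 = pt0 → blockHom k 0 = 0 := by
    intro k hk
    rw [← autBlk_zero 0 hy, ← blockHom_spec]
    refine congrArg blk (Subtype.ext ?_)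
    rw [autAct_val]
    show rho (k : Fi22) (autBlockPt 0) = autBlockPt 0
    rw [autBlockPt_zero]; exact hk
  set d : autGroup := ⟨dTr pt0, blockGroup_le first_in_block⟩
  have hd : blockHom d 0 = 0 := fix0 d (rho_of_gen (Commute.refl _))
  have hd1 : blockHom d ≠ 1 := by
    intro h
    have hmem : dTr pt0 ∈ omegaPart := autGroup_structure.2.2 ▸ ⟨d, h, rfl⟩
    rw [omegaPart_eq] at hmem
    obtain ⟨u, hu, e⟩ := hmem
    have : u = ⟨dTr pt0, first_in_block⟩ := Subtype.ext e
    rw [this] at hu
    exact PointSix.pointRefl_not_omega (toO8_first ▸ hu)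
  have hker : ∀ k : autGroup, blockHom k = 1 → (k : Fi22) ∈ blockGroup := fun k hk => by
    have : (k : Fi22) ∈ omegaPart := autGroup_structure.2.2 ▸ ⟨k, hk, rfl⟩
    exact Subgroup.commutator_le_self blockGroup this
  have hg0 := fix0 ⟨g, hga⟩ h0
  have hcases : ∀ σ τ : Equiv.Perm (Fin 3), σ 0 = 0 → τ 0 = 0 → τ ≠ 1 → σ = 1 ∨ σ * τ = 1 := by
    decide +kernel
  rcases hcases _ _ hg0 hd hd1 with h | h
  · exact hker _ h
  · have := hker (⟨g, hga⟩ * d) (by rw [map_mul, h])
    have h2 := mul_mem this (inv_mem first_in_block)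
    simpa [d] using h2

theorem typeTwo_iso : Nonempty (↥(fixOuter ⊓ Subgroup.centralizer ({dTr pt0} : Set Fi22)) ≃*
    Multiplicative (ZMod 2) × Cfsg.PSp 3 (ZMod 2)) := by
  obtain ⟨e⟩ := PointSix.stab_iso
  set C := fixOuter ⊓ Subgroup.centralizer ({dTr pt0} : Set Fi22)
  have h0 : ∀ g : C, rho (g : Fi22) pt0 = pt0 := fun g =>
    rho_of_gen (show Commute (dTr pt0) (g : Fi22) from
      (Subgroup.mem_centralizer_singleton_iff.mp g.2.2).symm)
  have hle : C ≤ blockGroup := fun g hg => stab_le_block hg.1 (h0 ⟨g, hg⟩)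
  have hfix : ∀ r : O8, vecPerm r 0 = 0 ↔ r ∈ PointSix.stabPt := by
    intro r
    show idxImg r 0 = 0 ↔ CfsgLib.Orth.ap r PointSix.point = PointSix.point
    rw [← blockVec_facts.2.2.eq_iff, idxImg_spec, blockVec_zero]
  have hmem : ∀ g : C, toO8 (Subgroup.inclusion hle g) ∈ PointSix.stabPt := fun g => by
    rw [← hfix]
    refine autBlockPt_injective ?_
    rw [← toO8_spec, autBlockPt_zero]
    exact h0 g
  let f : C →* PointSix.stabPt := (toO8.comp (Subgroup.inclusion hle)).codRestrict _ hmem
  have hinj : Function.Injective f := fun a b h =>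
    Subgroup.inclusion_injective hle (toO8_injective (congrArg Subtype.val h))
  have hsurj : Function.Surjective f := by
    rintro ⟨r, hr⟩
    obtain ⟨b, rfl⟩ := toO8_surjective r
    have hb0 : rho (b : Fi22) pt0 = pt0 := by
      rw [← autBlockPt_zero, toO8_spec, (hfix _).mpr hr]
    exact ⟨⟨b, autGroup_le (blockGroup_le b.2),
      Subgroup.mem_centralizer_singleton_iff.mpr (comm_of_fix hb0).eq⟩, rfl⟩
  exact ⟨(MulEquiv.ofBijective f ⟨hinj, hsurj⟩).trans e⟩

/-! ### The third class -/

/-- the centralizer of the third class -/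
noncomputable def fixThree : Subgroup Fi22 := fixSub (typeAut 2)

theorem three_points : permOf (typeAut 2) pt0 = pt0 ∧ permOf (typeAut 2) pt11 = pt11 := by
  obtain ⟨h0, h11, -⟩ := mate_first
  rw [inList_iff] at h0 h11
  exact ⟨(fixed_mem_three pt0).mpr h0, (fixed_mem_three pt11).mpr h11⟩

theorem fixThree_perm {g : Fi22} (hg : g ∈ fixThree) {x : Fin certA.N}
    (hx : (x : ℕ) ∈ outFixThree) : (rho g x : ℕ) ∈ outFixThree :=
  (fixed_mem_three _).mp (fixSub_points hg ((fixed_mem_three x).mpr hx))

theorem relB_rho (g : Fi22) (x y : Fin certA.N) :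
    certA.relB commMask (rho g x : ℕ) (rho g y : ℕ) = certA.relB commMask x y :=
  setupA.relB_smul repWords graph.inv g x y

theorem fix_three_lt : ∀ y ∈ outFixThree, y < certA.N := by
  have hlt : (outFixThree.all fun y => Nat.blt y certA.N) = true := by decide +kernel
  simpa only [List.all_eq_true, Nat.blt_eq] using hlt

theorem fixThree_mate {g : Fi22} (hg : g ∈ fixThree) (h0 : rho g pt0 = pt0) :
    rho g pt11 = pt11 := by
  obtain ⟨-, h11, hall⟩ := mate_first
  rw [inList_iff] at h11
  simp only [List.all_eq_true, beq_iff_eq] at hall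
  have hm : mateB 0 11 = true := (hall 11 h11).trans (Nat.beq_refl 11)
  have himg := fixThree_perm hg (x := pt11) h11
  have hgoal : mateB 0 (rho g pt11 : ℕ) = true := by
    simp only [mateB, band_eq_true, Bool.not_eq_true', List.all_eq_true, Bool.or_eq_true,
      Nat.beq_eq, beq_iff_eq] at hm ⊢
    obtain ⟨-, hm2, hm3⟩ := hm
    refine ⟨?_, ?_, fun z hz => ?_⟩
    · rw [← Bool.not_eq_true, Nat.beq_eq]
      intro e
      have : rho g pt11 = rho g pt0 := by rw [h0]; exact Fin.ext e.symm
      exact absurd (congrArg Fin.val ((rho g).injective this)) (by decide)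
    · have := relB_rho g pt0 pt11
      rw [h0] at this
      exact this.trans hm2
    · set Z : Fin certA.N := ⟨z, fix_three_lt z hz⟩
      have hz' := fixThree_perm (inv_mem hg) (x := Z) hz
      rcases hm3 _ hz' with (e | e) | e
      · refine Or.inl (Or.inl ?_)
        have : Z = pt0 := by
          rw [← rho_apply_inv g Z, show rho g⁻¹ Z = pt0 from Fin.ext e, h0]
        exact congrArg Fin.val this
      · refine Or.inl (Or.inr ?_)
        have : Z = rho g pt11 := by
          rw [← rho_apply_inv g Z, show rho g⁻¹ Z = pt11 from Fin.ext e]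
        exact congrArg Fin.val this
      · refine Or.inr ?_
        have a := relB_rho g pt0 (rho g⁻¹ Z)
        have b := relB_rho g pt11 (rho g⁻¹ Z)
        rw [rho_apply_inv] at a b
        rw [h0] at a
        exact a.trans (e.trans b.symm)
  have := hall _ himg
  rw [hgoal] at this
  exact Fin.ext (Nat.eq_of_beq_eq_true this.symm)

theorem fixThree_stab_le {g : Fi22} (hg : g ∈ fixThree) (h0 : rho g pt0 = pt0) : g ∈ fixOuter := by
  rw [← sOuter_fix_iff]
  have hc : Commute g (dTr pt0 * dTr pt11) :=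
    (comm_of_fix h0).mul_right (comm_of_fix (fixThree_mate hg h0))
  have h : sOuter (dTr pt0 * dTr pt11 * g * (dTr pt0 * dTr pt11)⁻¹) = g := hg
  rwa [← hc.eq, mul_inv_cancel_right] at h

theorem fix_pair_card (S : Subgroup Fi22)
    (hS : ∀ g ∈ S, g ∈ fixOuter ∧ rho g pt0 = pt0 ∧ rho g pt11 = pt11) :
    Nat.card S ≤ 46080 := by
  haveI : Finite Fi22 := finite_and_card.1
  obtain ⟨hm, h0, h1, -⟩ := chain_move
  simp only [List.all_eq_true, inList_iff] at hm
  set w := outChainMove.flatMap trWord with hw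
  obtain ⟨-, -, -, -, -, -, hc, -, -, -, hlt⟩ := aut_basic
  have hlet : ∀ g ∈ w, g < 9 := by
    intro g hg
    obtain ⟨z, hz, hgz⟩ := List.mem_flatMap.mp hg
    exact (trWord_spec (hlt z (hm z hz))).1 g hgz
  have hmem : ∀ l : List ℕ, (∀ z ∈ l, z ∈ autPts) → prodW gen (l.flatMap trWord) ∈ fixOuter := by
    intro l
    induction l with
    | nil => intro _; exact one_mem _
    | cons a l ih =>
      intro h
      rw [List.flatMap_cons, prodW_append]
      have ha := h a List.mem_cons_self
      refine mul_mem ?_ (ih fun z hz => h z (List.mem_cons_of_mem _ hz))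
      rw [(trWord_spec (hlt a ha)).2]
      exact autGroup_le (dTr_mem_symPart (x := ⟨a, hlt a ha⟩) ha)
  set m := prodW gen w
  have hmo : m ∈ fixOuter := hmem _ hm
  have hbound : Nat.card (chainFix 2) ≤ 46080 := by
    have hcn := aut_counts
    simp only [List.range, List.range.loop, List.map_cons, List.map_nil, List.cons.injEq,
      and_true] at hcn
    obtain ⟨c0, c1, c2, c3, c4, c5, c6, c7⟩ := hcn
    have key : ∀ k (h : k < 8) (B : ℕ), Nat.card (chainFix (k + 1)) ≤ B →
        Nat.card (chainFix k) ≤ (chainCands k).length * B := fun k h B hB =>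
      (chainFix_step h).trans (Nat.mul_le_mul_left _ hB)
    have e8 : Nat.card (chainFix 8) ≤ 1 := by rw [chainFix_last, Subgroup.card_bot]
    have := key 2 (by norm_num) _ (key 3 (by norm_num) _ (key 4 (by norm_num) _
      (key 5 (by norm_num) _ (key 6 (by norm_num) _ (key 7 (by norm_num) _ e8)))))
    rw [c2, c3, c4, c5, c6, c7] at this
    exact this
  have hin : ∀ g : S, m⁻¹ * (g : Fi22) * m ∈ chainFix 2 := by
    intro g
    obtain ⟨g1, g0, g11⟩ := hS g g.2
    refine ⟨mul_mem (mul_mem (inv_mem hmo) g1) hmo, fun x hx => ?_⟩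
    obtain ⟨i, hi, hix⟩ := List.mem_take_iff_getElem.mp hx
    rw [chain_len] at hi
    have hi2 : i < 2 := by omega
    have hxe : (x : ℕ) = nth autChain i 0 := by
      rw [nth_eq, List.getD_eq_getElem _ _ (by rw [chain_len]; omega), hix]
    have hmx : rho m x = pt0 ∨ rho m x = pt11 := by
      interval_cases i
      · exact Or.inl (Fin.ext ((rho_wordMap hlet x).trans (by rw [hxe]; exact h0)))
      · exact Or.inr (Fin.ext ((rho_wordMap hlet x).trans (by rw [hxe]; exact h1)))
    rw [rho_mul_apply, rho_mul_apply]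
    rcases hmx with h | h <;> rw [h]
    · rw [g0, ← h, rho_inv_apply]
    · rw [g11, ← h, rho_inv_apply]
  refine (Nat.card_le_card_of_injective (fun g : S => (⟨_, hin g⟩ : chainFix 2)) ?_).trans hbound
  intro a b h
  exact Subtype.ext (mul_left_cancel (mul_right_cancel (congrArg Subtype.val h)))

theorem fixThree_card_le : Nat.card fixThree ≤ 3317760 := by
  haveI : Finite Fi22 := finite_and_card.1
  have e := card_stab_tuple (rho.comp fixThree.subtype) pt0
    ((MulAction.stabilizer (Equiv.Perm (Fin certA.N)) pt0).comap (rho.comp fixThree.subtype))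
    fun g => Iff.rfl
  rw [e]
  have h1 : (Set.range fun g : fixThree => (rho.comp fixThree.subtype) g pt0).ncard ≤ 72 := by
    refine le_trans (Set.ncard_le_ncard ?_ (Set.toFinite _)) (le_of_eq fixed_card.2.2)
    rintro _ ⟨g, rfl⟩
    exact fixSub_points g.2 three_points.1
  have h2 := fix_pair_card
    (((MulAction.stabilizer (Equiv.Perm (Fin certA.N)) pt0).comap
      (rho.comp fixThree.subtype)).map fixThree.subtype) (by
      rintro _ ⟨g, hg, rfl⟩
      have h0 : rho (g : Fi22) pt0 = pt0 := hg
      exact ⟨fixThree_stab_le g.2 h0, h0, fixThree_mate g.2 h0⟩)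
  rw [← Nat.card_congr (Subgroup.equivMapOfInjective _ _ fixThree.subtype_injective).toEquiv] at h2
  exact (Nat.mul_le_mul h1 h2).trans (by norm_num)

/-! ### The action on the thirty-six pairs -/

theorem exists_vecIdx (r : OrthLines.O6) (i : Fin 36) :
    ∃ j, pairVec j = ((r : Matrix.GeneralLinearGroup OrthLines.Co (ZMod 2)) :
      Matrix OrthLines.Co OrthLines.Co (ZMod 2)).mulVec (pairVec i) :=
  pair_vecs.1 _ ((r.2 (pairVec i) (pairVec i)).trans (pair_vecs.2.1 i))

/-- the image of a pair -/
noncomputable def vecIdx (r : OrthLines.O6) (i : Fin 36) : Fin 36 := (exists_vecIdx r i).choose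

theorem vecIdx_spec (r : OrthLines.O6) (i : Fin 36) :
    pairVec (vecIdx r i) = ((r : Matrix.GeneralLinearGroup OrthLines.Co (ZMod 2)) :
      Matrix OrthLines.Co OrthLines.Co (ZMod 2)).mulVec (pairVec i) :=
  (exists_vecIdx r i).choose_spec

/-- the action on the pairs -/
noncomputable def pairPerm : OrthLines.O6 →* Equiv.Perm (Fin 36) :=
  MonoidHom.toHomPerm
    { toFun := fun r => vecIdx r
      map_one' := funext fun i => pair_vecs.2.2.1 _ _ (by
        rw [vecIdx_spec]; exact Matrix.one_mulVec _)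
      map_mul' := fun r s => funext fun i => pair_vecs.2.2.1 _ _ (by
        show pairVec (vecIdx (r * s) i) = pairVec (vecIdx r (vecIdx s i))
        rw [vecIdx_spec, vecIdx_spec, vecIdx_spec, Matrix.mulVec_mulVec]; rfl) }

theorem pairPerm_apply (r : OrthLines.O6) (i : Fin 36) : pairPerm r i = vecIdx r i := rfl

theorem pairPerm_injective : Function.Injective pairPerm := by
  refine (injective_iff_map_eq_one pairPerm).2 fun r hr => ?_
  have hfix : ∀ i, ((r : Matrix.GeneralLinearGroup OrthLines.Co (ZMod 2)) :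
      Matrix OrthLines.Co OrthLines.Co (ZMod 2)).mulVec (pairVec i) = pairVec i := fun i => by
    rw [← vecIdx_spec, ← pairPerm_apply, hr, Equiv.Perm.one_apply]
  refine Subtype.ext (Units.ext (Matrix.ext_of_mulVec_single fun k => ?_))
  obtain ⟨a, b, e | e⟩ := pair_vecs.2.2.2 k <;>
    simp only [OneMemClass.coe_one, Units.val_one, Matrix.one_mulVec] <;> rw [← e]
  · rw [Matrix.mulVec_add, hfix, hfix]
  · rw [hfix]

/-- the pair of a transposition -/
noncomputable def pIdx (x : Fin certA.N) : Fin 36 := ⟨pairIdx x % 36, Nat.mod_lt _ (by norm_num)⟩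

theorem pIdx_surjective (i : Fin 36) :
    ∃ x : Fin certA.N, (x : ℕ) ∈ outFixThree ∧ pIdx x = i := by
  have h := refl_pts.2.2.2
  simp only [List.all_eq_true, List.mem_range, Nat.beq_eq] at h
  have hi : 2 * (i : ℕ) < outFixThree.length := by rw [fix_three_mask.2.2]; omega
  have hm : nth outFixThree (2 * i) 0 ∈ outFixThree := by
    rw [nth_eq, List.getD_eq_getElem _ _ hi]; exact List.getElem_mem _
  refine ⟨⟨_, fix_three_lt _ hm⟩, hm, Fin.ext ?_⟩
  show pairIdx (nth outFixThree (2 * i) 0) % 36 = i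
  rw [h (2 * i) (by omega)]
  omega

theorem listed_three {x : Fin certA.N} (hx : (x : ℕ) ∈ outFixThree) :
    ∃ m < 72, nth outFixThree m 0 = (x : ℕ) := by
  obtain ⟨m, hm, e⟩ := List.mem_iff_getElem.mp hx
  exact ⟨m, fix_three_mask.2.2 ▸ hm, by rw [nth_eq, List.getD_eq_getElem _ _ hm, e]⟩

/-- the elements moving the pairs as an isometry does -/
noncomputable def threePairs : Subgroup (Fi22 × OrthLines.O6) where
  carrier := {p | p.1 ∈ fixThree ∧ ∀ x : Fin certA.N, (x : ℕ) ∈ outFixThree →
    pIdx (rho p.1 x) = pairPerm p.2 (pIdx x)}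
  one_mem' := ⟨one_mem _, fun x _ => by simp⟩
  mul_mem' := fun {a b} ha hb => ⟨mul_mem ha.1 hb.1, fun x hx => by
    rw [Prod.fst_mul, Prod.snd_mul, rho_mul_apply, map_mul, Equiv.Perm.mul_apply,
      ha.2 _ (fixThree_perm hb.1 hx), hb.2 x hx]⟩
  inv_mem' := fun {a} ha => ⟨inv_mem ha.1, fun x hx => by
    have h := ha.2 _ (fixThree_perm (inv_mem ha.1) hx)
    rw [rho_apply_inv] at h
    rw [Prod.fst_inv, Prod.snd_inv, h, map_inv pairPerm]
    simp⟩

theorem threePairs_unique {g : Fi22} {r r' : OrthLines.O6} (h : (g, r) ∈ threePairs)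
    (h' : (g, r') ∈ threePairs) : r = r' := by
  refine pairPerm_injective (Equiv.ext fun i => ?_)
  obtain ⟨x, hx, rfl⟩ := pIdx_surjective i
  exact (h.2 x hx).symm.trans (h'.2 x hx)

theorem dTr_mem_three {x : Fin certA.N} (hx : (x : ℕ) ∈ outFixThree) : dTr x ∈ fixThree := by
  show typeAut 2 (dTr x) = dTr x
  rw [← permOf_spec, (fixed_mem_three x).mpr hx]

/-- a transposition acting as a reflection -/
noncomputable def reflPt (j : Fin 6) : Fin certA.N := ⟨nth outReflPts j 0, by
  have h := refl_pts.2.1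
  simp only [List.all_eq_true, inList_iff] at h
  refine fix_three_lt _ (h _ ?_)
  rw [nth_eq, List.getD_eq_getElem _ _ (by rw [refl_pts.1]; exact j.2)]
  exact List.getElem_mem _⟩

theorem reflPt_mem (j : Fin 6) : (reflPt j : ℕ) ∈ outFixThree := by
  have h := refl_pts.2.1
  simp only [List.all_eq_true, inList_iff] at h
  refine h _ ?_
  show nth outReflPts j 0 ∈ _
  rw [nth_eq, List.getD_eq_getElem _ _ (by rw [refl_pts.1]; exact j.2)]
  exact List.getElem_mem _

theorem refl_three (j : Fin 6) : (dTr (reflPt j), OrthLines.s6 j) ∈ threePairs := by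
  refine ⟨dTr_mem_three (reflPt_mem j), fun x hx => pair_vecs.2.2.1 _ _ ?_⟩
  obtain ⟨m, hm, e⟩ := listed_three hx
  have h := refl_pts.2.2.1
  have h' := refl_pts.2.2.2
  simp only [List.all_eq_true, List.mem_range, strict_eq, Nat.beq_eq] at h h'
  have hy := h j j.2 m hm
  rw [e] at hy
  have hx' := h' m hm
  rw [e] at hx'
  have hp : pIdx x = ⟨m / 2, by omega⟩ := Fin.ext (by
    show pairIdx x % 36 = m / 2
    rw [hx']; exact Nat.mod_eq_of_lt (by omega))
  obtain ⟨hl, hv⟩ := refl_pair_vecs j ⟨m / 2, by omega⟩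
  have hq : pIdx (rho (dTr (reflPt j)) x) =
      ⟨nth (outReflImg.getD j []) (m / 2) 36, hl⟩ := Fin.ext (by
    show pairIdx (rho (dTr (reflPt j)) x : ℕ) % 36 = _
    rw [← (trWord_spec (reflPt j).2).2, rho_wordMap (trWord_spec (reflPt j).2).1]
    rw [show wordMap (trWord (reflPt j)) x = wordMap (trWord (nth outReflPts j 0)) x from rfl, hy]
    exact Nat.mod_eq_of_lt hl)
  rw [hq, pairPerm_apply, vecIdx_spec, hp]
  exact hv

/-- the word of a product -/
noncomputable def coreElt (j : Fin 6) : Fi22 := prodW gen (coreWord j)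

theorem coreWord_spec (j : ℕ) (hj : j < 6) : (∀ g ∈ coreWord j, g < 9) ∧
    prodW gen (coreWord j) ∈ fixThree := by
  have hb := core_idx
  simp only [List.all_eq_true, List.mem_range, Nat.blt_eq] at hb
  have hb' := hb j hj
  have e : nth outCoreBasis j 36 = nth outCoreBasis j 0 := by
    rw [nth_eq, nth_eq, List.getD_eq_getElem?_getD, List.getD_eq_getElem?_getD]
    rcases hopt : outCoreBasis[j]? with _ | v
    · rw [nth_eq, List.getD_eq_getElem?_getD, hopt] at hb'
      exact absurd hb' (by simp)
    · rfl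
  rw [e] at hb'
  have hmem : ∀ k, k < 72 → nth outFixThree k 0 ∈ outFixThree := fun k hk => by
    rw [nth_eq, List.getD_eq_getElem _ _ (by rw [fix_three_mask.2.2]; exact hk)]
    exact List.getElem_mem _
  have h1 := hmem (2 * nth outCoreBasis j 0) (by omega)
  have h2 := hmem (2 * nth outCoreBasis j 0 + 1) (by omega)
  obtain ⟨l1, w1⟩ := trWord_spec (fix_three_lt _ h1)
  obtain ⟨l2, w2⟩ := trWord_spec (fix_three_lt _ h2)
  refine ⟨fun g hg => (List.mem_append.mp hg).elim (l1 g) (l2 g), ?_⟩
  rw [coreWord, prodW_append, w1, w2]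
  exact mul_mem (dTr_mem_three h1) (dTr_mem_three h2)

theorem core_three (j : Fin 6) : (coreElt j, (1 : OrthLines.O6)) ∈ threePairs := by
  obtain ⟨hl, hm⟩ := coreWord_spec j j.2
  refine ⟨hm, fun x hx => ?_⟩
  obtain ⟨m, hm', e⟩ := listed_three hx
  have h := core_trivial
  have h' := refl_pts.2.2.2
  simp only [List.all_eq_true, List.mem_range, Nat.beq_eq] at h h'
  rw [map_one, Equiv.Perm.one_apply]
  apply Fin.ext
  show pairIdx (rho (coreElt j) x : ℕ) % 36 = pairIdx x % 36
  rw [coreElt, rho_wordMap hl, ← e, h j j.2 m hm', h' m hm']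

/-- the normal 2-subgroup -/
noncomputable def threeCore : Subgroup Fi22 := Subgroup.closure (Set.range coreElt)

theorem coreElt_comm (i j : Fin 6) : coreElt i * coreElt j = coreElt j * coreElt i ∧
    coreElt i * coreElt i = 1 := by
  have h := core_comm
  simp only [List.all_eq_true, List.mem_range, band_eq_true] at h
  obtain ⟨h1, h2⟩ := h i i.2 j j.2
  have l := fun k : Fin 6 => (coreWord_spec k k.2).1
  constructor
  · rw [coreElt, coreElt, ← prodW_append, ← prodW_append]
    exact eq_of_sameBase (fun g hg => (List.mem_append.mp hg).elim (l i g) (l j g))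
      (fun g hg => (List.mem_append.mp hg).elim (l j g) (l i g)) h1
  · rw [coreElt, ← prodW_append, ← prodW_nil (gen := gen)]
    exact eq_of_sameBase (fun g hg => (List.mem_append.mp hg).elim (l i g) (l i g)) (by simp) h2

theorem threeCore_comm : IsMulCommutative threeCore :=
  Subgroup.isMulCommutative_closure (k := Set.range coreElt) (by
    rintro _ ⟨i, rfl⟩ _ ⟨j, rfl⟩; exact (coreElt_comm i j).1)

theorem threeCore_elem : Cfsg.IsElementaryAbelian 2 threeCore := by
  refine ⟨threeCore_comm, fun a ha => ?_⟩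
  induction ha using Subgroup.closure_induction with
  | mem x hx => obtain ⟨i, rfl⟩ := hx; rw [pow_two]; exact (coreElt_comm i i).2
  | one => exact one_pow _
  | mul x y hx hy ihx ihy =>
    have hc : Commute x y := congrArg Subtype.val
      (threeCore_comm.is_comm.comm (⟨x, hx⟩ : threeCore) ⟨y, hy⟩)
    rw [hc.mul_pow, ihx, ihy, one_mul]
  | inv x _ ih => rw [inv_pow, ih, inv_one]

theorem threeCore_large : 64 ≤ Nat.card threeCore := by
  haveI : Finite Fi22 := finite_and_card.1
  have hmem : ∀ (l : List ℕ) (n : ℕ), (∀ j ∈ l, j < 6) →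
      (∀ g ∈ l.flatMap (fun j => if n.testBit j then coreWord j else []), g < 9) ∧
      prodW gen (l.flatMap fun j => if n.testBit j then coreWord j else []) ∈ threeCore := by
    intro l n
    induction l with
    | nil => intro _; exact ⟨by simp, one_mem _⟩
    | cons a l ih =>
      intro h
      obtain ⟨i1, i2⟩ := ih fun j hj => h j (List.mem_cons_of_mem _ hj)
      have ha := h a List.mem_cons_self
      rw [List.flatMap_cons, prodW_append]
      constructor
      · intro g hg
        rcases List.mem_append.mp hg with hg | hg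
        · cases hb : n.testBit a <;> simp [hb] at hg
          exact (coreWord_spec a ha).1 g hg
        · exact i1 g hg
      · refine mul_mem ?_ i2
        cases hb : n.testBit a
        · exact one_mem _
        · exact Subgroup.subset_closure ⟨⟨a, ha⟩, rfl⟩
  have hp : ∀ n, (∀ g ∈ coreProd n, g < 9) ∧ prodW gen (coreProd n) ∈ threeCore := fun n =>
    hmem (List.range 6) n fun j hj => List.mem_range.mp hj
  refine le_of_eq_of_le (Nat.card_fin 64).symm
    (Nat.card_le_card_of_injective (fun n : Fin 64 => (⟨_, (hp n).2⟩ : threeCore)) ?_)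
  intro a b e
  refine Fin.ext (List.inj_on_of_nodup_map core_indep (List.mem_range.mpr a.2)
    (List.mem_range.mpr b.2) (List.map_congr_left fun c hc => ?_))
  have hc' : c < certA.N := by
    have := base_lt
    simp only [List.all_eq_true, Nat.blt_eq] at this
    exact this c hc
  rw [show c = ((⟨c, hc'⟩ : Fin certA.N) : ℕ) from rfl, ← rho_wordMap (hp a).1,
    ← rho_wordMap (hp b).1]
  exact congrArg (fun t : threeCore => (rho (t : Fi22) ⟨c, hc'⟩ : ℕ)) e

/-- the subgroup generated by the listed elements -/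
noncomputable def threeGen : Subgroup Fi22 :=
  Subgroup.closure (Set.range (fun j => dTr (reflPt j)) ∪ Set.range coreElt)

theorem exists_three (g : threeGen) : ∃ r, ((g : Fi22), r) ∈ threePairs := by
  have hle : threeGen ≤ threePairs.map (MonoidHom.fst Fi22 OrthLines.O6) := by
    rw [threeGen, Subgroup.closure_le]
    rintro _ (⟨j, rfl⟩ | ⟨j, rfl⟩)
    · exact ⟨_, refl_three j, rfl⟩
    · exact ⟨_, core_three j, rfl⟩
  obtain ⟨⟨a, r⟩, hr, e⟩ := hle g.2
  exact ⟨r, by rw [show ((g : Fi22), r) = (a, r) from by rw [← e]; rfl]; exact hr⟩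

/-- the generated subgroup in the orthogonal group -/
noncomputable def threeHom : threeGen →* OrthLines.O6 :=
  MonoidHom.mk' (fun g => (exists_three g).choose) fun a b =>
    threePairs_unique (g := ((a : Fi22) * (b : Fi22))) (exists_three (a * b)).choose_spec (by
      have h2 : ((a : Fi22), (exists_three a).choose) * ((b : Fi22), (exists_three b).choose) ∈
          threePairs := threePairs.mul_mem (exists_three a).choose_spec (exists_three b).choose_spec
      rw [Prod.mk_mul_mk] at h2
      exact h2)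

theorem threeHom_eq {g : threeGen} {r : OrthLines.O6} (h : ((g : Fi22), r) ∈ threePairs) :
    threeHom g = r := threePairs_unique (exists_three g).choose_spec h

theorem threeHom_surjective : Function.Surjective threeHom := by
  rw [← MonoidHom.range_eq_top, eq_top_iff, ← OrthLines.gens_top, Subgroup.closure_le]
  rintro _ ⟨j, rfl⟩
  exact ⟨⟨dTr (reflPt j), Subgroup.subset_closure (Or.inl ⟨j, rfl⟩)⟩, threeHom_eq (refl_three j)⟩

theorem threeCore_le_gen : threeCore ≤ threeGen := Subgroup.closure_mono Set.subset_union_right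

theorem three_structure : threeGen = fixThree ∧ Nat.card threeCore = 64 ∧
    threeHom.ker = threeCore.subgroupOf threeGen := by
  haveI : Finite Fi22 := finite_and_card.1
  have hle : threeGen ≤ fixThree := fun g hg => ((exists_three ⟨g, hg⟩).choose_spec).1
  have hker : threeCore.subgroupOf threeGen ≤ threeHom.ker := by
    intro g hg
    have hle' : threeCore ≤ (threePairs ⊓ (⊤ : Subgroup Fi22).prod ⊥).map
        (MonoidHom.fst Fi22 OrthLines.O6) := by
      rw [threeCore, Subgroup.closure_le]
      rintro _ ⟨j, rfl⟩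
      exact ⟨_, ⟨core_three j, Subgroup.mem_prod.mpr ⟨trivial, Subgroup.mem_bot.mpr rfl⟩⟩, rfl⟩
    obtain ⟨⟨a, r⟩, ⟨hr, hr'⟩, e⟩ := hle' (Subgroup.mem_subgroupOf.mp hg)
    have hr1 : r = 1 := Subgroup.mem_bot.mp (Subgroup.mem_prod.mp hr').2
    subst hr1
    exact threeHom_eq (by rw [show ((g : Fi22), (1 : OrthLines.O6)) = (a, 1) from by rw [← e]; rfl]; exact hr)
  have hc : Nat.card threeGen = Nat.card threeHom.ker * 51840 := by
    rw [← threeHom.ker.card_mul_index, Subgroup.index_ker,
      MonoidHom.range_eq_top.mpr threeHom_surjective, Subgroup.card_top]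
    rw [show Nat.card OrthLines.O6 = 51840 from CfsgLib.Classical.LatticeSix.card_O6]
  have h1 := Subgroup.card_le_of_le hker
  rw [Nat.card_congr (Subgroup.subgroupOfEquivOfLe threeCore_le_gen).toEquiv] at h1
  have h2 := threeCore_large
  have h3 := Subgroup.card_le_of_le hle
  have h4 := fixThree_card_le
  refine ⟨Subgroup.eq_of_le_of_card_ge hle (by omega), by omega, (Subgroup.eq_of_le_of_card_ge hker ?_).symm⟩
  rw [Nat.card_congr (Subgroup.subgroupOfEquivOfLe threeCore_le_gen).toEquiv]
  omega

theorem threeCore_le : threeCore ≤ fixThree := three_structure.1 ▸ threeCore_le_gen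

theorem three_normal : (threeCore.subgroupOf threeGen).Normal :=
  three_structure.2.2 ▸ MonoidHom.normal_ker _

theorem three_pCore : Cfsg.pCore 2 ↥threeGen = threeCore.subgroupOf threeGen := by
  haveI : Fact (Nat.Prime 2) := ⟨Nat.prime_two⟩
  haveI : Finite Fi22 := finite_and_card.1
  have hp : IsPGroup 2 (threeCore.subgroupOf threeGen) := IsPGroup.of_card (n := 6) (by
    rw [Nat.card_congr (Subgroup.subgroupOfEquivOfLe threeCore_le_gen).toEquiv,
      three_structure.2.1]; norm_num)
  refine le_antisymm ?_ (CfsgLib.Fitting.le_pCore three_normal hp)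
  haveI := CfsgLib.Fitting.pCore_normal (G := ↥threeGen) 2
  haveI : ((Cfsg.pCore 2 ↥threeGen).map threeHom).Normal :=
    Subgroup.Normal.map inferInstance _ threeHom_surjective
  rcases OrthLines.normal_bot_or_le ((Cfsg.pCore 2 ↥threeGen).map threeHom) with h | h
  · rw [Subgroup.map_eq_bot_iff, three_structure.2.2] at h; exact h
  · exfalso
    have h2 := ((CfsgLib.Fitting.pCore_isPGroup (G := ↥threeGen) 2).map threeHom).to_le h
    obtain ⟨n, hn⟩ := IsPGroup.iff_card.mp h2
    have h5 : 5 ∣ 2 ^ n := by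
      rw [← hn]
      have h1 := (Cfsg.Omega (ZMod 2) q2).card_mul_index
      rw [CfsgLib.Classical.LatticeSix.index_O6,
        show Nat.card OrthLines.O6 = 51840 from CfsgLib.Classical.LatticeSix.card_O6] at h1
      exact ⟨5184, Nat.eq_of_mul_eq_mul_right two_pos (h1.trans (by norm_num))⟩
    have := (Nat.prime_dvd_prime_iff_eq (by norm_num) Nat.prime_two).mp
      ((by norm_num : Nat.Prime 5).dvd_of_dvd_pow h5)
    omega

theorem fixThree_structure :
    (Cfsg.pCore 2 ↥fixThree).map fixThree.subtype = threeCore ∧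
      Cfsg.IsElementaryAbelian 2 threeCore ∧ Nat.card threeCore = 64 ∧
      ∃ _ : (threeCore.subgroupOf fixThree).Normal,
        Nonempty (↥fixThree ⧸ threeCore.subgroupOf fixThree ≃* OrthLines.O6) := by
  obtain ⟨e, hc, hk⟩ := three_structure
  haveI := three_normal
  refine ⟨?_, threeCore_elem, hc, ?_⟩
  · rw [← e, three_pCore, Subgroup.map_subgroupOf_eq_of_le threeCore_le_gen]
  · rw [← e]
    exact ⟨three_normal, ⟨(QuotientGroup.quotientMulEquivOfEq hk.symm).trans
      (QuotientGroup.quotientKerEquivOfSurjective _ threeHom_surjective)⟩⟩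

end CfsgLib.Fi22Pres
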