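import Cfsg.Agent.Lib.Fi22Pres.AutPerm
import Cfsg.Agent.Lib.Fi22Pres.PairCent
import Cfsg.Agent.Lib.Fi22Pres.OuterChecks

/-!
The centralizer in the automorphism group of Fi22 of the product of the standard commuting pair,
and its map onto the orthogonal group on the 45 blocks.
-/

set_option autoImplicit false
set_option Elab.async false
set_option maxRecDepth 20000

namespace CfsgLib.Fi22Pres

open CfsgLib.CosetEnum Cfsg.Spor CfsgLib.Fi22USix
open CfsgLib.Classical.LatticeSix (q2)

theorem rho_wordMap {w : List ℕ} (hw : ∀ g ∈ w, g < 9) (x : Fin certA.N) :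
    (rho (prodW gen w) x : ℕ) = wordMap w x := setupA.rho_prodW hw x

theorem letters_of_all {w : List ℕ} (h : (w.all fun g => Nat.blt g 9) = true) : ∀ g ∈ w, g < 9 := by
  simpa only [List.all_eq_true, Nat.blt_eq] using h

/-- the element carrying the standard pair to the fixed pair -/
noncomputable def hFrame : Fi22 := prodW gen outFrame

/-- the outer involution in the frame of the standard pair -/
noncomputable def sPair : MulAut Fi22 := (MulAut.conj hFrame)⁻¹ * sOuter * MulAut.conj hFrame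

theorem permOf_sPair (x : Fin certA.N) : (permOf sPair x : ℕ) = frameMap x := by
  have hw := letters_of_all outFrame_facts.1
  have hwr : ∀ g ∈ certA.revInv outFrame, g < 9 := by
    have : ((certA.revInv outFrame).all fun g => Nat.blt g 9) = true := by decide +kernel
    exact letters_of_all this
  rw [sPair, map_mul, map_mul, map_inv, permOf_conj, permOf_sOuter, Equiv.Perm.mul_apply,
    Equiv.Perm.mul_apply, ← map_inv, hFrame, ← setupA.model.revInv_eq, rho_wordMap hwr,
    outerPerm_apply, rho_wordMap hw, frameMap, wordMap, outFrame_facts.2.1]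

theorem sPair_sq : sPair * sPair = 1 := by
  rw [sPair]
  calc (MulAut.conj hFrame)⁻¹ * sOuter * MulAut.conj hFrame *
        ((MulAut.conj hFrame)⁻¹ * sOuter * MulAut.conj hFrame)
      = (MulAut.conj hFrame)⁻¹ * (sOuter * sOuter) * MulAut.conj hFrame := by group
    _ = 1 := by rw [sOuter_sq]; group

theorem sPair_inv : sPair⁻¹ = sPair := inv_eq_of_mul_eq_one_right sPair_sq

theorem conj_mul_outer (g : Fi22) {φ : MulAut Fi22}
    (h : φ ∉ (MulAut.conj : Fi22 →* MulAut Fi22).range) :
    MulAut.conj g * φ ∉ (MulAut.conj : Fi22 →* MulAut Fi22).range := by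
  rwa [Subgroup.mul_mem_cancel_left _ (MonoidHom.mem_range.mpr ⟨g, rfl⟩)]

theorem outer_conj (g : Fi22) {φ : MulAut Fi22}
    (h : φ ∉ (MulAut.conj : Fi22 →* MulAut Fi22).range) :
    MulAut.conj g * φ * (MulAut.conj g)⁻¹ ∉ (MulAut.conj : Fi22 →* MulAut Fi22).range := by
  rw [Subgroup.mul_mem_cancel_right _ (inv_mem (MonoidHom.mem_range.mpr ⟨g, rfl⟩))]
  exact conj_mul_outer g h

theorem outer_mul_conj (g : Fi22) {φ : MulAut Fi22}
    (h : φ ∉ (MulAut.conj : Fi22 →* MulAut Fi22).range) :
    φ * MulAut.conj g ∉ (MulAut.conj : Fi22 →* MulAut Fi22).range := by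
  rwa [Subgroup.mul_mem_cancel_right _ (MonoidHom.mem_range.mpr ⟨g, rfl⟩)]

theorem sPair_not_inner : sPair ∉ (MulAut.conj : Fi22 →* MulAut Fi22).range := by
  have h := outer_conj hFrame⁻¹ sOuter_not_inner
  rwa [map_inv, inv_inv] at h

theorem sPair_points : permOf sPair pt0 = pt0 ∧ permOf sPair pt7 = pt7 :=
  ⟨Fin.ext ((permOf_sPair pt0).trans outFrame_facts.2.2.1),
    Fin.ext ((permOf_sPair pt7).trans outFrame_facts.2.2.2)⟩

/-- the centralizer of the inner automorphism of the pair product -/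
noncomputable def autCent : Subgroup (MulAut Fi22) :=
  Subgroup.centralizer ({MulAut.conj pairProd} : Set (MulAut Fi22))

theorem mem_autCent {φ : MulAut Fi22} : φ ∈ autCent ↔ φ pairProd = pairProd := by
  rw [autCent, Subgroup.mem_centralizer_singleton_iff, ← mul_inv_eq_iff_eq_mul, conj_apply_eq,
    conj_injective_Fi22.eq_iff]

theorem autCent_iff {φ : MulAut Fi22} : φ ∈ autCent ↔
    (permOf φ pt0 = pt0 ∧ permOf φ pt7 = pt7) ∨ (permOf φ pt0 = pt7 ∧ permOf φ pt7 = pt0) := by
  have himg : φ pairProd = dTr (permOf φ pt0) * dTr (permOf φ pt7) := by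
    rw [permOf_spec, permOf_spec, pairProd, map_mul]
  rw [mem_autCent, himg]
  constructor
  · intro e
    have hne : permOf φ pt0 ≠ permOf φ pt7 := (permOf φ).injective.ne c07.1
    obtain ⟨h1, h2⟩ := pair_unique hne (by
      rw [permOf_spec, permOf_spec]; exact c07.2.map φ) e
    rcases h1 with h1 | h1 <;> rcases h2 with h2 | h2
    · exact absurd (h1.trans h2.symm) hne
    · exact Or.inl ⟨h1, h2⟩
    · exact Or.inr ⟨h1, h2⟩
    · exact absurd (h1.trans h2.symm) hne
  · rintro (⟨h1, h2⟩ | ⟨h1, h2⟩) <;> rw [h1, h2]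
    · rfl
    · exact c07.2.symm.eq

theorem sPair_cent : sPair ∈ autCent := autCent_iff.mpr (Or.inl sPair_points)

theorem conj_mem_autCent {g : Fi22} : MulAut.conj g ∈ autCent ↔ g ∈ pairCent := by
  rw [autCent_iff, permOf_conj, pairCent_mem]

/-- Every element is an inner one of the pair centralizer, possibly times the outer involution. -/
theorem autCent_cases {φ : MulAut Fi22} (hφ : φ ∈ autCent) :
    ∃ g ∈ pairCent, φ = MulAut.conj g ∨ φ = MulAut.conj g * sPair := by
  by_cases h : φ ∈ (MulAut.conj : Fi22 →* MulAut Fi22).range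
  · obtain ⟨g, rfl⟩ := h
    exact ⟨g, conj_mem_autCent.mp hφ, Or.inl rfl⟩
  · have h' : φ * sPair ∈ (MulAut.conj : Fi22 →* MulAut Fi22).range :=
      (Subgroup.mul_mem_iff_of_index_two inner_index).mpr
        ⟨fun h' => absurd h' h, fun h' => absurd h' sPair_not_inner⟩
    obtain ⟨g, hg⟩ := h'
    refine ⟨g, conj_mem_autCent.mp (hg ▸ mul_mem hφ sPair_cent), Or.inr ?_⟩
    rw [hg, mul_assoc, sPair_sq, mul_one]

theorem autCent_card : Nat.card autCent = 2 * Nat.card pairCent := by
  let f : Bool × pairCent → autCent := fun p =>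
    ⟨MulAut.conj (p.2 : Fi22) * (if p.1 then sPair else 1),
      mul_mem (conj_mem_autCent.mpr p.2.2) (by split; exacts [sPair_cent, one_mem _])⟩
  have hf : Function.Bijective f := by
    constructor
    · rintro ⟨a, g⟩ ⟨b, h⟩ e
      have e : MulAut.conj (g : Fi22) * (if a then sPair else 1) =
          MulAut.conj (h : Fi22) * (if b then sPair else 1) := congrArg Subtype.val e
      cases a <;> cases b <;> simp only [if_true, Bool.false_eq_true, if_false, mul_one] at e
      · rw [Subtype.ext (conj_injective_Fi22 e)]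
      · exact absurd ⟨(g : Fi22), e⟩ (conj_mul_outer _ sPair_not_inner)
      · exact absurd ⟨(h : Fi22), e.symm⟩ (conj_mul_outer _ sPair_not_inner)
      · rw [Subtype.ext (conj_injective_Fi22 (mul_right_cancel e))]
    · rintro ⟨φ, hφ⟩
      obtain ⟨g, hg, rfl | rfl⟩ := autCent_cases hφ
      · exact ⟨(false, ⟨g, hg⟩), Subtype.ext (by simp [f])⟩
      · exact ⟨(true, ⟨g, hg⟩), Subtype.ext (by simp [f])⟩
  rw [← Nat.card_congr (Equiv.ofBijective f hf), Nat.card_prod]
  simp

/-! ### The action on the blocks -/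

/-- the automorphisms moving the blocks as an isometry moves the lines -/
noncomputable def blockPairsAut : Subgroup (MulAut Fi22 × OrthLines.O6) where
  carrier := {p | p.1 ∈ autCent ∧ ∀ i : Fin 180, ∃ k, bPt k = permOf p.1 (bPt i) ∧
    blockOf k = muBlocks p.2 (blockOf i)}
  one_mem' := ⟨one_mem _, fun i => ⟨i, by simp, by simp⟩⟩
  mul_mem' := fun {a b} ha hb => ⟨mul_mem ha.1 hb.1, fun i => by
    obtain ⟨k, hk, hk'⟩ := hb.2 i
    obtain ⟨m, hm, hm'⟩ := ha.2 k
    exact ⟨m, by rw [hm, hk, Prod.fst_mul, map_mul, Equiv.Perm.mul_apply],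
      by rw [hm', hk', Prod.snd_mul, map_mul, Equiv.Perm.mul_apply]⟩⟩
  inv_mem' := fun {a} ha => ⟨inv_mem ha.1, fun i => by
    choose f hf hf' using ha.2
    have hinj : Function.Injective f := fun x y h => bPt_inj ((permOf a.1).injective (by
      rw [← hf, ← hf, h]))
    obtain ⟨k, rfl⟩ := Finite.injective_iff_surjective.mp hinj i
    refine ⟨k, ?_, ?_⟩
    · rw [Prod.fst_inv, map_inv, hf, Equiv.Perm.inv_def, Equiv.symm_apply_apply]
    · rw [Prod.snd_inv, map_inv, hf', Equiv.Perm.inv_def, Equiv.symm_apply_apply]⟩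

theorem blockPairs_unique {φ : MulAut Fi22} {r r' : OrthLines.O6} (h : (φ, r) ∈ blockPairsAut)
    (h' : (φ, r') ∈ blockPairsAut) : r = r' := by
  refine muBlocks_injective (Equiv.ext fun b => ?_)
  obtain ⟨k, hk, e⟩ := h.2 (blockHead b)
  obtain ⟨k', hk', e'⟩ := h'.2 (blockHead b)
  rw [← blockOf_head b, ← e, ← e', bPt_inj (hk.trans hk'.symm)]

theorem blockPairs_conj (g : pairCent) :
    (MulAut.conj (g : Fi22), toOrth g) ∈ blockPairsAut := by
  refine ⟨conj_mem_autCent.mpr g.2, fun i => ⟨idxMove g i, ?_, ?_⟩⟩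
  · rw [idxMove_spec, permOf_conj]
  · rw [toOrth_spec, psi_apply]
    exact block_move g (blockOf_head _).symm

theorem lineRun_eq (w : List ℕ) (l : Fin 45) : lineRun w l = (OrthLines.wordImg w l : ℕ) := by
  induction w with
  | nil => rfl
  | cons i w ih =>
    show nth (lineImg.getD (i % 6) []) (lineRun w l) 0 = _
    rw [ih]
    have h := refl_word_spec.img_lt ⟨i % 6, Nat.mod_lt _ (by norm_num)⟩ (OrthLines.wordImg w l)
    rw [← Nat.mod_eq_of_lt h]
    show nth (lineImg.getD (i % 6) []) (OrthLines.wordImg w l) 0 % 45 =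
      (lineImg.getD (i % 6) []).getD (OrthLines.wordImg w l) 0 % 45
    rw [nth_eq]

theorem blockPairs_of_check {φ : MulAut Fi22} {f : ℕ → ℕ}
    (hf : ∀ x : Fin certA.N, (permOf φ x : ℕ) = f x) {w : List ℕ} (h : blockActOK f w = true) :
    (φ, OrthLines.wordElt w) ∈ blockPairsAut := by
  simp only [blockActOK, band_eq_true, List.all_eq_true, List.any_eq_true, List.mem_range,
    strict_eq, Nat.beq_eq] at h
  obtain ⟨hp, hb⟩ := h
  have hc : φ ∈ autCent := by
    have cases2 : ∀ z : Fin certA.N, ((z : ℕ) = 0 ∨ (z : ℕ) = 7) → z = pt0 ∨ z = pt7 := fun z hz =>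
      hz.imp Fin.ext Fin.ext
    have a := hp 0 (by simp)
    have b := hp 7 (by simp)
    simp only [List.mem_cons, List.not_mem_nil, or_false, exists_eq_or_imp, exists_eq_left] at a b
    have a' := cases2 (permOf φ pt0) (by rw [hf]; exact a)
    have b' := cases2 (permOf φ pt7) (by rw [hf]; exact b)
    have hne := (permOf φ).injective.ne c07.1
    rw [autCent_iff]
    rcases a' with a' | a' <;> rcases b' with b' | b'
    · exact absurd (a'.trans b'.symm) hne
    · exact Or.inl ⟨a', b'⟩
    · exact Or.inr ⟨a', b'⟩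
    · exact absurd (a'.trans b'.symm) hne
  refine ⟨hc, fun i => ?_⟩
  set b := blockOf i
  obtain ⟨m, hm, e⟩ := hb b b.2 ((i : ℕ) % 4) (Nat.mod_lt _ (by norm_num))
  have hi : 4 * (b : ℕ) + (i : ℕ) % 4 = i := Nat.div_add_mod _ _
  rw [hi] at e
  have hl := line_block
  simp only [List.all_eq_true, List.mem_range, strict_eq, band_eq_true, ltB_iff, Nat.beq_eq] at hl
  have hc0 : nth lineBlock (lineRun w (nth blockLine b 0)) 0 =
      (muBlocks (OrthLines.wordElt w) b : ℕ) := by
    rw [muBlocks_apply, OrthLines.mu_word]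
    set l := blockEquiv b
    have e1 : nth blockLine b 0 = (l : ℕ) := (Nat.mod_eq_of_lt (hl b b.2).1).symm
    rw [e1, lineRun_eq]
    exact (Nat.mod_eq_of_lt (hl _ (OrthLines.wordImg w l).2).2.1).symm
  rw [hc0] at e
  refine ⟨⟨4 * (muBlocks (OrthLines.wordElt w) b : ℕ) + m, by omega⟩, Fin.ext ?_, Fin.ext ?_⟩
  · rw [hf]; exact e.symm
  · show (4 * (muBlocks (OrthLines.wordElt w) b : ℕ) + m) / 4 = (muBlocks (OrthLines.wordElt w) b : ℕ)
    omega

theorem sPair_blocks : (sPair, OrthLines.wordElt outReflWord) ∈ blockPairsAut :=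
  blockPairs_of_check permOf_sPair frame_blocks

theorem exists_blockPair (φ : autCent) : ∃ r, ((φ : MulAut Fi22), r) ∈ blockPairsAut := by
  obtain ⟨g, hg, h | h⟩ := autCent_cases φ.2 <;> rw [h]
  · exact ⟨_, blockPairs_conj ⟨g, hg⟩⟩
  · have h2 : (MulAut.conj ((⟨g, hg⟩ : pairCent) : Fi22), toOrth ⟨g, hg⟩) *
        (sPair, OrthLines.wordElt outReflWord) ∈ blockPairsAut :=
      blockPairsAut.mul_mem (blockPairs_conj ⟨g, hg⟩) sPair_blocks
    rw [Prod.mk_mul_mk] at h2
    exact ⟨_, h2⟩

/-- the map onto the orthogonal group -/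
noncomputable def autOrth : autCent →* OrthLines.O6 :=
  MonoidHom.mk' (fun φ => (exists_blockPair φ).choose) fun a b =>
    blockPairs_unique (exists_blockPair (a * b)).choose_spec
      (blockPairsAut.mul_mem (exists_blockPair a).choose_spec (exists_blockPair b).choose_spec)

theorem autOrth_eq {φ : autCent} {r : OrthLines.O6} (h : ((φ : MulAut Fi22), r) ∈ blockPairsAut) :
    autOrth φ = r := blockPairs_unique (exists_blockPair φ).choose_spec h

theorem autOrth_conj (g : pairCent) :
    autOrth ⟨MulAut.conj (g : Fi22), conj_mem_autCent.mpr g.2⟩ = toOrth g :=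
  autOrth_eq (blockPairs_conj g)

theorem autOrth_surjective : Function.Surjective autOrth := fun r => by
  obtain ⟨g, rfl⟩ := toOrth_surjective r
  exact ⟨_, autOrth_conj g⟩

/-! ### The parity of a product of reflections -/

theorem refl_swaps : ((List.range 6).all fun i =>
    Nat.beq (wordMap (pairRefl.getD i []) 0) 7) = true := by decide +kernel

theorem refl_lift (i : Fin 6) : ∃ g : pairCent, toOrth g = OrthLines.s6 i ∧
    g ∉ pairStab.subgroupOf pairCent := by
  obtain ⟨hw, hm, hb⟩ := refl_word_spec i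
  refine ⟨⟨_, hm⟩, muBlocks_injective (Equiv.ext fun b => ?_), fun hs => ?_⟩
  · rw [toOrth_spec, hb, muBlocks_apply, OrthLines.mu_s6]
    rfl
  · have h7 := refl_swaps
    simp only [List.all_eq_true, List.mem_range, Nat.beq_eq] at h7
    have h0 : rho (prodW gen (pairRefl.getD i [])) pt0 = pt0 := (Subgroup.mem_subgroupOf.mp hs).1
    have := congrArg Fin.val h0
    rw [rho_wordMap hw] at this
    exact absurd ((h7 i i.2).symm.trans this) (by decide)

theorem toOrth_omega (g : pairCent) : toOrth g ∈ Cfsg.Omega (ZMod 2) q2 ↔ (g : Fi22) ∈ pairStab := by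
  constructor
  · intro hg
    rw [← stab_image] at hg
    obtain ⟨h, hh, e⟩ := hg
    have hk : h⁻¹ * g ∈ toOrth.ker := by rw [MonoidHom.mem_ker, map_mul, map_inv, e, inv_mul_cancel]
    rw [toOrth_ker] at hk
    obtain ⟨-, hs, -⟩ := exPart_mem (Subgroup.mem_subgroupOf.mp hk)
    have hgg : (g : Fi22) = h * ((h⁻¹ * g : pairCent) : Fi22) := by
      simp [mul_inv_cancel_left]
    rw [hgg]
    exact mul_mem (Subgroup.mem_subgroupOf.mp hh) hs
  · intro hg
    rw [← stab_image]
    exact ⟨g, hg, rfl⟩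

theorem wordElt_append (u w : List ℕ) :
    OrthLines.wordElt (u ++ w) = OrthLines.wordElt u * OrthLines.wordElt w := by
  rw [OrthLines.wordElt, OrthLines.wordElt, OrthLines.wordElt, List.map_append, List.prod_append]

theorem wordElt_omega (w : List ℕ) :
    OrthLines.wordElt w ∈ Cfsg.Omega (ZMod 2) q2 ↔ Even w.length := by
  induction w with
  | nil =>
    exact ⟨fun _ => Even.zero, fun _ => one_mem _⟩
  | cons i w ih =>
    rw [show OrthLines.wordElt (i :: w) = OrthLines.s6 ⟨i % 6, Nat.mod_lt _ (by norm_num)⟩ *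
      OrthLines.wordElt w from rfl,
      Subgroup.mul_mem_iff_of_index_two CfsgLib.Classical.LatticeSix.index_O6, ih, List.length_cons,
      Nat.even_add_one]
    obtain ⟨g, hg, hs⟩ := refl_lift ⟨i % 6, Nat.mod_lt _ (by norm_num)⟩
    have : OrthLines.s6 ⟨i % 6, Nat.mod_lt _ (by norm_num)⟩ ∉ Cfsg.Omega (ZMod 2) q2 := by
      rw [← hg, toOrth_omega]; exact hs
    exact ⟨fun h e => this (h.mpr e), fun h => ⟨fun e => absurd e this, fun e => absurd e h⟩⟩

theorem wordElt_ext {u w : List ℕ}
    (h : ((List.range 45).all fun l => Nat.beq (lineRun u l) (lineRun w l)) = true) :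
    OrthLines.wordElt u = OrthLines.wordElt w := by
  simp only [List.all_eq_true, List.mem_range, Nat.beq_eq] at h
  refine OrthLines.mu_injective (Equiv.ext fun l => ?_)
  rw [OrthLines.mu_word, OrthLines.mu_word]
  apply Fin.ext
  rw [← lineRun_eq, ← lineRun_eq]
  exact h l l.2

end CfsgLib.Fi22Pres
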