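import Cfsg.Agent.Lib.Fi22Pres.TriplesCount

/-!
Commuting pairs and triples of transpositions in a group isomorphic to Fi22.
-/

set_option autoImplicit false
set_option Elab.async false

namespace CfsgLib.Fi22Pres

open CfsgLib.CosetEnum Cfsg.Spor CfsgLib.Fi22USix

variable {G : Type*} [Group G] {D : Set G}

theorem mem_D_iff (e : Fi22 ≃* G) (hD : e '' transClass = D) {a : G} :
    a ∈ D ↔ ∃ x : Fin certA.N, e (dTr x) = a := by
  rw [← hD, Set.mem_image]
  constructor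
  · rintro ⟨d, hd, rfl⟩
    obtain ⟨x, rfl⟩ := mem_transClass.mp hd
    exact ⟨x, rfl⟩
  · rintro ⟨x, rfl⟩
    exact ⟨dTr x, mem_transClass.mpr ⟨x, rfl⟩, rfl⟩

theorem commute_map_iff (e : Fi22 ≃* G) {a b : Fi22} : Commute (e a) (e b) ↔ Commute a b :=
  ⟨fun h => e.injective (by rw [map_mul, map_mul]; exact h.eq), fun h => h.map e⟩

/-- the standard pair, as a set, in `G` -/
theorem pair_set (e : Fi22 ≃* G) (hD : e '' transClass = D) {j : G} {l : List G}
    (hl : l.Nodup ∧ l.length = 2 ∧ (∀ a ∈ l, a ∈ D) ∧ (∀ a ∈ l, ∀ b ∈ l, Commute a b) ∧ l.prod = j)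
    {g : Fi22} (hg : e (g * pairProd * g⁻¹) = j) :
    ∀ a, a ∈ l ↔ a = e (g * dTr pt0 * g⁻¹) ∨ a = e (g * dTr pt7 * g⁻¹) := by
  obtain ⟨hn, hlen, hmem, hcomm, hprod⟩ := hl
  obtain ⟨a, b, rfl⟩ := List.length_eq_two.mp hlen
  obtain ⟨x, rfl⟩ := (mem_D_iff e hD).mp (hmem _ List.mem_cons_self)
  obtain ⟨y, rfl⟩ := (mem_D_iff e hD).mp (hmem _ (List.mem_cons_of_mem _ List.mem_cons_self))
  have hne : x ≠ y := fun h => by simp [h] at hn
  have hc : Commute (dTr x) (dTr y) := (commute_map_iff e).mp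
    (hcomm _ List.mem_cons_self _ (List.mem_cons_of_mem _ List.mem_cons_self))
  have hp : dTr x * dTr y = g * pairProd * g⁻¹ := e.injective (by
    rw [hg, ← hprod]; simp [List.prod_cons])
  set x' := rho g⁻¹ x
  set y' := rho g⁻¹ y
  have hx : g * dTr x' * g⁻¹ = dTr x := by
    rw [dTr_conj, ← Equiv.Perm.mul_apply, ← map_mul, mul_inv_cancel, map_one]; rfl
  have hy : g * dTr y' * g⁻¹ = dTr y := by
    rw [dTr_conj, ← Equiv.Perm.mul_apply, ← map_mul, mul_inv_cancel, map_one]; rfl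
  have hne' : x' ≠ y' := (rho g⁻¹).injective.ne hne
  obtain ⟨h1, h2⟩ := pair_unique hne'
    ((conj_commute_iff g _ _).mp (by rw [hx, hy]; exact hc)) (by
      have h3 : g * (dTr x' * dTr y') * g⁻¹ = g * pairProd * g⁻¹ := by
        rw [← hp, ← hx, ← hy]; group
      simpa using h3)
  intro c
  rw [← hx, ← hy]
  simp only [List.mem_cons, List.not_mem_nil, or_false]
  rcases h1 with e1 | e1 <;> rcases h2 with e2 | e2 <;> rw [e1, e2]
  · exact absurd (e1.trans e2.symm) hne'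
  · exact or_comm
  · exact absurd (e1.trans e2.symm) hne'

theorem pair_unique_map (e : Fi22 ≃* G) (hD : e '' transClass = D) (j : G) (l l' : List G)
    (hl : l.Nodup ∧ l.length = 2 ∧ (∀ a ∈ l, a ∈ D) ∧ (∀ a ∈ l, ∀ b ∈ l, Commute a b) ∧ l.prod = j)
    (hl' : l'.Nodup ∧ l'.length = 2 ∧ (∀ a ∈ l', a ∈ D) ∧ (∀ a ∈ l', ∀ b ∈ l', Commute a b) ∧
      l'.prod = j) : ∀ x : G, x ∈ l ↔ x ∈ l' := by
  have hl0 := hl
  obtain ⟨hn, hlen, hmem, hcomm, hprod⟩ := hl0
  obtain ⟨a, b, rfl⟩ := List.length_eq_two.mp hlen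
  obtain ⟨x, rfl⟩ := (mem_D_iff e hD).mp (hmem _ List.mem_cons_self)
  obtain ⟨y, rfl⟩ := (mem_D_iff e hD).mp (hmem _ (List.mem_cons_of_mem _ List.mem_cons_self))
  have hne : x ≠ y := fun h => by simp [h] at hn
  have hc : Commute (dTr x) (dTr y) := (commute_map_iff e).mp
    (hcomm _ List.mem_cons_self _ (List.mem_cons_of_mem _ List.mem_cons_self))
  obtain ⟨g, gx, gy⟩ := pair_transitive hne hc
  have hg : e (g * pairProd * g⁻¹) = j := by
    rw [← hprod, pairProd, show g * (dTr pt0 * dTr pt7) * g⁻¹ =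
      g * dTr pt0 * g⁻¹ * (g * dTr pt7 * g⁻¹) by group, dTr_conj, dTr_conj, gx, gy, map_mul]
    simp [List.prod_cons]
  intro z
  rw [pair_set e hD hl hg z, pair_set e hD hl' hg z]

theorem triple_data (e : Fi22 ≃* G) (hD : e '' transClass = D) {j : G} {l : List G}
    (hl : l.Nodup ∧ l.length = 3 ∧ (∀ a ∈ l, a ∈ D) ∧ (∀ a ∈ l, ∀ b ∈ l, Commute a b) ∧ l.prod = j) :
    ∃ x y z : Fin certA.N, l = [e (dTr x), e (dTr y), e (dTr z)] ∧ GoodTriple (x, y, z) ∧
      e (dTr x * dTr y * dTr z) = j := by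
  obtain ⟨hn, hlen, hmem, hcomm, hprod⟩ := hl
  obtain ⟨a, b, c, rfl⟩ := List.length_eq_three.mp hlen
  obtain ⟨x, rfl⟩ := (mem_D_iff e hD).mp (hmem a (by simp))
  obtain ⟨y, rfl⟩ := (mem_D_iff e hD).mp (hmem b (by simp))
  obtain ⟨z, rfl⟩ := (mem_D_iff e hD).mp (hmem c (by simp))
  simp only [List.nodup_cons, List.mem_cons, List.not_mem_nil, or_false, not_or] at hn
  refine ⟨x, y, z, rfl, ⟨fun h => hn.1.1 (by rw [show x = y from h]),
    fun h => hn.1.2 (by rw [show x = z from h]), fun h => hn.2.1 (by rw [show y = z from h]),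
    (commute_map_iff e).mp (hcomm _ (by simp) _ (by simp)),
    (commute_map_iff e).mp (hcomm _ (by simp) _ (by simp)),
    (commute_map_iff e).mp (hcomm _ (by simp) _ (by simp))⟩, ?_⟩
  rw [← hprod, map_mul, map_mul]
  simp [List.prod_cons, mul_assoc]

theorem triple_two_map (e : Fi22 ≃* G) (hD : e '' transClass = D) (j : G) (l₀ : List G)
    (hl₀ : l₀.Nodup ∧ l₀.length = 3 ∧ (∀ a ∈ l₀, a ∈ D) ∧ (∀ a ∈ l₀, ∀ b ∈ l₀, Commute a b) ∧
      l₀.prod = j) :
    ∃ l₁ l₂ : List G,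
      (l₁.Nodup ∧ l₁.length = 3 ∧ (∀ a ∈ l₁, a ∈ D) ∧ (∀ a ∈ l₁, ∀ b ∈ l₁, Commute a b) ∧
        l₁.prod = j) ∧
      (l₂.Nodup ∧ l₂.length = 3 ∧ (∀ a ∈ l₂, a ∈ D) ∧ (∀ a ∈ l₂, ∀ b ∈ l₂, Commute a b) ∧
        l₂.prod = j) ∧ ¬ (∀ x : G, x ∈ l₁ ↔ x ∈ l₂) ∧
      ∀ l : List G, (l.Nodup ∧ l.length = 3 ∧ (∀ a ∈ l, a ∈ D) ∧
        (∀ a ∈ l, ∀ b ∈ l, Commute a b) ∧ l.prod = j) →
        ((∀ x : G, x ∈ l ↔ x ∈ l₁) ∨ (∀ x : G, x ∈ l ↔ x ∈ l₂)) := by
  classical
  obtain ⟨x₀, y₀, z₀, -, h0, hj⟩ := triple_data e hD hl₀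
  obtain ⟨g, gx, gy, gz⟩ := triple_transitive h0
  have hjg : e (g * tripleProd * g⁻¹) = j := by
    rw [← hj, tripleProd, show g * (dTr pt0 * dTr pt7 * dTr pt62) * g⁻¹ =
      g * dTr pt0 * g⁻¹ * (g * dTr pt7 * g⁻¹) * (g * dTr pt62 * g⁻¹) by group, dTr_conj,
      dTr_conj, dTr_conj, gx, gy, gz]
  have mk : ∀ a b c : Fin certA.N, GoodTriple (a, b, c) →
      dTr a * dTr b * dTr c = tripleProd →
      let l := [e (dTr (rho g a)), e (dTr (rho g b)), e (dTr (rho g c))]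
      l.Nodup ∧ l.length = 3 ∧ (∀ t ∈ l, t ∈ D) ∧ (∀ t ∈ l, ∀ u ∈ l, Commute t u) ∧ l.prod = j := by
    intro a b c hgood hp l
    obtain ⟨n1, n2, n3, c1, c2, c3⟩ := good_smul g hgood
    have d : ∀ {u v : Fin certA.N}, u ≠ v → e (dTr u) ≠ e (dTr v) :=
      fun h h' => h (dTr_inj (e.injective h'))
    refine ⟨by simp [l, d n1, d n2, d n3], rfl, ?_, ?_, ?_⟩
    · intro t ht
      simp only [l, List.mem_cons, List.not_mem_nil, or_false] at ht
      rcases ht with rfl | rfl | rfl <;> exact (mem_D_iff e hD).mpr ⟨_, rfl⟩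
    · intro t ht u hu
      simp only [l, List.mem_cons, List.not_mem_nil, or_false] at ht hu
      rcases ht with rfl | rfl | rfl <;> rcases hu with rfl | rfl | rfl <;>
        rw [commute_map_iff e] <;>
        first | exact Commute.refl _ | assumption | exact Commute.symm (by assumption)
    · rw [← hjg, ← hp]
      simp only [l, List.prod_cons, List.prod_nil, mul_one, ← map_mul, ← dTr_conj]
      congr 1
      group
  let f : Fin certA.N → G := fun u => e (dTr (rho g u))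
  have hf : Function.Injective f := fun u v h => (rho g).injective (dTr_inj (e.injective h))
  refine ⟨[f pt0, f pt7, f pt62], [f alt1, f alt2, f alt3], mk _ _ _ std_good rfl,
    mk _ _ _ alt_facts.1 alt_facts.2.1, ?_, ?_⟩
  · intro h
    have := (h (f pt0)).1 (by simp)
    simp only [List.mem_cons, List.not_mem_nil, or_false, hf.eq_iff] at this
    exact (Finset.disjoint_left.1 alt_facts.2.2) (show pt0 ∈ setT by simp [setT]) (by simpa [setU] using this)
  · intro l hl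
    obtain ⟨x, y, z, rfl, hgood, hp⟩ := triple_data e hD hl
    have hgood' := good_smul g⁻¹ hgood
    have hback : ∀ u : Fin certA.N, rho g (rho g⁻¹ u) = u := fun u => by
      rw [← Equiv.Perm.mul_apply, ← map_mul, mul_inv_cancel, map_one]; rfl
    have hp' : dTr (rho g⁻¹ x) * dTr (rho g⁻¹ y) * dTr (rho g⁻¹ z) = tripleProd := by
      have h1 : g * (dTr (rho g⁻¹ x) * dTr (rho g⁻¹ y) * dTr (rho g⁻¹ z)) * g⁻¹ =
          g * tripleProd * g⁻¹ := by
        rw [show ∀ a b c : Fi22, g * (a * b * c) * g⁻¹ =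
          g * a * g⁻¹ * (g * b * g⁻¹) * (g * c * g⁻¹) from fun a b c => by group, dTr_conj,
          dTr_conj, dTr_conj, hback, hback, hback]
        exact e.injective (hp.trans hjg.symm)
      simpa using h1
    have key : ∀ (a b c : Fin certA.N),
        ({rho g⁻¹ x, rho g⁻¹ y, rho g⁻¹ z} : Finset (Fin certA.N)) = {a, b, c} →
        ∀ w : G, w ∈ [e (dTr x), e (dTr y), e (dTr z)] ↔ w ∈ [f a, f b, f c] := by
      intro a b c hS w
      have h2 := congrArg (fun s : Finset (Fin certA.N) => w ∈ s.image f) hS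
      simp only [Finset.image_insert, Finset.image_singleton, Finset.mem_insert,
        Finset.mem_singleton, f, hback, eq_iff_iff] at h2
      simpa [f] using h2
    rcases triple_two hgood' hp' with hS | hS
    · exact Or.inl (key _ _ _ hS)
    · exact Or.inr (key _ _ _ hS)

theorem centralizer_triple_map (e : Fi22 ≃* G) (hD : e '' transClass = D) {d₁ d₂ d₃ : G}
    (h₁ : d₁ ∈ D) (h₂ : d₂ ∈ D) (h₃ : d₃ ∈ D) (h12 : d₁ ≠ d₂) (h13 : d₁ ≠ d₃) (h23 : d₂ ≠ d₃)
    (c12 : Commute d₁ d₂) (c13 : Commute d₁ d₃) (c23 : Commute d₂ d₃) :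
    Nat.card (Subgroup.centralizer ({d₁ * d₂ * d₃} : Set G)) = 2 ^ 16 * 3 ^ 3 := by
  obtain ⟨x, rfl⟩ := (mem_D_iff e hD).mp h₁
  obtain ⟨y, rfl⟩ := (mem_D_iff e hD).mp h₂
  obtain ⟨z, rfl⟩ := (mem_D_iff e hD).mp h₃
  obtain ⟨g, gx, gy, gz⟩ := triple_transitive (x := x) (y := y) (z := z)
    ⟨fun h => h12 (by rw [show x = y from h]), fun h => h13 (by rw [show x = z from h]),
      fun h => h23 (by rw [show y = z from h]), (commute_map_iff e).mp c12,
      (commute_map_iff e).mp c13, (commute_map_iff e).mp c23⟩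
  let φ : Fi22 ≃* G := (MulAut.conj g).trans e
  have hφ : φ tripleProd = e (dTr x) * e (dTr y) * e (dTr z) := by
    show e (g * tripleProd * g⁻¹) = _
    rw [tripleProd, show g * (dTr pt0 * dTr pt7 * dTr pt62) * g⁻¹ =
      g * dTr pt0 * g⁻¹ * (g * dTr pt7 * g⁻¹) * (g * dTr pt62 * g⁻¹) by group, dTr_conj,
      dTr_conj, dTr_conj, gx, gy, gz, map_mul, map_mul]
  rw [← hφ, ← centralizer_triple]
  have hmap : (Subgroup.centralizer ({tripleProd} : Set Fi22)).map φ.toMonoidHom =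
      Subgroup.centralizer ({φ tripleProd} : Set G) := by
    ext w
    rw [Subgroup.mem_map_equiv, Subgroup.mem_centralizer_singleton_iff,
      Subgroup.mem_centralizer_singleton_iff, ← φ.injective.eq_iff]
    simp [map_mul]
  rw [← hmap]
  exact (Nat.card_congr ((Subgroup.centralizer ({tripleProd} : Set Fi22)).equivMapOfInjective _
    φ.injective).toEquiv).symm

end CfsgLib.Fi22Pres
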