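import Cfsg.Agent.Lib.Fi22Pres.OuterFixed
import Cfsg.Agent.Lib.Fi22Pres.PairTransfer
import Cfsg.Agent.Lib.Layer.CharP

/-!
The outer involutions, in a group isomorphic to Fi22.
-/

set_option autoImplicit false
set_option Elab.async false
set_option linter.style.haveILetI false

namespace CfsgLib.Fi22Pres

open CfsgLib.CosetEnum Cfsg.Spor CfsgLib.Fi22USix

theorem second_facts : Nat.beq (outerMap 11) 11 = true ∧ certA.relB commMask 0 11 = true := by
  decide +kernel

theorem sOuter_second : sOuter (dTr pt11) = dTr pt11 := by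
  rw [← permOf_spec, permOf_sOuter]
  exact congrArg dTr (Fin.ext (by
    rw [outerPerm_apply]; exact Nat.eq_of_beq_eq_true second_facts.1))

theorem first_second : pt0 ≠ pt11 ∧ Commute (dTr pt0) (dTr pt11) :=
  ⟨fun h => absurd (congrArg Fin.val h) (by decide), (graph.commute_iff repWords pt0 pt11).mp second_facts.2⟩

variable {G : Type*} [Group G]

/-- the number of fixed transpositions is a class invariant -/
theorem fix_count_conj {φ ψ : MulAut Fi22} (h : IsConj φ ψ) :
    {x : Fin certA.N | permOf φ x = x}.ncard = {x : Fin certA.N | permOf ψ x = x}.ncard := by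
  obtain ⟨c, hc⟩ := isConj_iff.mp h
  have hb : {x : Fin certA.N | permOf ψ x = x} = permOf c '' {x : Fin certA.N | permOf φ x = x} := by
    subst hc
    ext x
    simp only [map_mul, map_inv, Equiv.Perm.mul_apply, Set.mem_ofPred_eq, Set.mem_image]
    constructor
    · intro hx
      refine ⟨(permOf c)⁻¹ x, (permOf c).injective ?_, by simp⟩
      simpa using hx
    · rintro ⟨y, hy, rfl⟩
      simp [hy]
  rw [hb, Set.ncard_image_of_injective _ (permOf c).injective]

theorem congr_isConj (e : Fi22 ≃* G) {φ ψ : MulAut Fi22} :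
    IsConj (MulAut.congr e φ) (MulAut.congr e ψ) ↔ IsConj φ ψ := by
  refine ⟨fun h => ?_, fun h => (MulAut.congr e).toMonoidHom.map_isConj h⟩
  obtain ⟨c, hc⟩ := isConj_iff.mp h
  refine isConj_iff.mpr ⟨(MulAut.congr e).symm c, (MulAut.congr e).injective ?_⟩
  rw [map_mul, map_mul, map_inv, MulEquiv.apply_symm_apply, hc]

theorem congr_conj (e : Fi22 ≃* G) (a : Fi22) :
    MulAut.congr e (MulAut.conj a) = MulAut.conj (e a) := by
  ext x
  show e (a * e.symm x * a⁻¹) = e a * x * (e a)⁻¹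
  rw [map_mul, map_mul, map_inv, e.apply_symm_apply]

theorem congr_inner (e : Fi22 ≃* G) {φ : MulAut Fi22} :
    MulAut.congr e φ ∈ (MulAut.conj : G →* MulAut G).range ↔
      φ ∈ (MulAut.conj : Fi22 →* MulAut Fi22).range := by
  constructor
  · rintro ⟨g, hg⟩
    refine ⟨e.symm g, (MulAut.congr e).injective ?_⟩
    rw [congr_conj, e.apply_symm_apply, hg]
  · rintro ⟨a, rfl⟩
    exact ⟨e a, (congr_conj e a).symm⟩

theorem congr_apply_iff (e : Fi22 ≃* G) (φ : MulAut Fi22) (g : G) :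
    MulAut.congr e φ g = g ↔ φ (e.symm g) = e.symm g := by
  show e (φ (e.symm g)) = g ↔ _
  exact ⟨fun h => e.injective (h.trans (e.apply_symm_apply g).symm),
    fun h => (congrArg e h).trans (e.apply_symm_apply g)⟩

theorem type_m22_outer (e : Fi22 ≃* G) {D : Set G} (hD : e '' transClass = D) :
    ∃ (s : MulAut G) (a b : G) (Cs : Subgroup G), orderOf s = 2 ∧
      s ∉ (MulAut.conj : G →* MulAut G).range ∧ (∀ g : G, g ∈ Cs ↔ s g = g) ∧
      Nonempty (↥Cs ≃* MulAut (Cfsg.Omega (ZMod 2) (Cfsg.quadFormPlus 4 (ZMod 2)))) ∧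
      a ∈ D ∧ b ∈ D ∧ a ≠ b ∧ Commute a b ∧ s a = a ∧ s b = b ∧
      (∀ t : MulAut G, orderOf t = 2 → t ∉ (MulAut.conj : G →* MulAut G).range →
        (IsConj t s ∨ IsConj t (s * MulAut.conj a) ∨ IsConj t (s * MulAut.conj (a * b)))) ∧
      ¬ IsConj s (s * MulAut.conj a) ∧ ¬ IsConj s (s * MulAut.conj (a * b)) ∧
      ¬ IsConj (s * MulAut.conj a) (s * MulAut.conj (a * b)) ∧
      (∀ g : G, (s * MulAut.conj a) g = g ↔ g ∈ Cs ⊓ Subgroup.centralizer ({a} : Set G)) ∧
      Nonempty (↥(Cs ⊓ Subgroup.centralizer ({a} : Set G)) ≃*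
        Multiplicative (ZMod 2) × Cfsg.PSp 3 (ZMod 2)) ∧
      ∃ Csab O : Subgroup G, (∀ g : G, g ∈ Csab ↔ (s * MulAut.conj (a * b)) g = g) ∧
        O = (Cfsg.pCore 2 ↥Csab).map Csab.subtype ∧ Cfsg.IsElementaryAbelian 2 O ∧
        Nat.card O = 64 ∧ ∃ _ : (O.subgroupOf Csab).Normal,
          Nonempty (↥Csab ⧸ O.subgroupOf Csab ≃*
            Cfsg.isometryGroup (ZMod 2) (Cfsg.quadFormMinus 2 (ZMod 2) 1 1)) := by
  have hinj : Function.Injective e.toMonoidHom := e.injective
  set a₀ : Fi22 := dTr pt0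
  set b₀ : Fi22 := dTr pt11
  have hone : MulAut.congr e sOuter * MulAut.conj (e a₀) = MulAut.congr e (typeAut 1) := by
    rw [← congr_conj, ← map_mul]; rfl
  have htwo : MulAut.congr e sOuter * MulAut.conj (e a₀ * e b₀) = MulAut.congr e (typeAut 2) := by
    rw [← map_mul e, ← congr_conj, ← map_mul]; rfl
  have hmem : ∀ (H : Subgroup Fi22) (g : G), g ∈ H.map e.toMonoidHom ↔ e.symm g ∈ H :=
    fun H g => Subgroup.mem_map_equiv
  have hcen : (fixOuter ⊓ Subgroup.centralizer ({a₀} : Set Fi22)).map e.toMonoidHom =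
      fixOuter.map e.toMonoidHom ⊓ Subgroup.centralizer ({e a₀} : Set G) := by
    rw [Subgroup.map_inf _ _ _ hinj, map_centralizer_equiv, Set.image_singleton]
  have hneq : ∀ {i j : ℕ},
      {x : Fin certA.N | permOf (typeAut i) x = x}.ncard ≠
        {x : Fin certA.N | permOf (typeAut j) x = x}.ncard →
      ¬ IsConj (MulAut.congr e (typeAut i)) (MulAut.congr e (typeAut j)) :=
    fun h hc => h (fix_count_conj ((congr_isConj e).mp hc))
  refine ⟨MulAut.congr e sOuter, e a₀, e b₀, fixOuter.map e.toMonoidHom, ?_, ?_, ?_, ?_,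
    (mem_D_iff e hD).mpr ⟨pt0, rfl⟩, (mem_D_iff e hD).mpr ⟨pt11, rfl⟩, ?_, ?_, ?_, ?_, ?_, ?_, ?_,
    ?_, ?_, ?_, ?_⟩
  · rw [MulEquiv.orderOf_eq]; exact sOuter_order
  · rw [congr_inner]; exact sOuter_not_inner
  · intro g
    rw [hmem, congr_apply_iff, sOuter_fix_iff]
  · obtain ⟨ε⟩ := nonempty_autOmega
    exact ⟨(fixOuter.equivMapOfInjective _ hinj).symm.trans
      ((MulEquiv.subgroupCongr autGroup_structure.1.symm).trans ε)⟩
  · exact fun h => first_second.1 (dTr_inj (e.injective h))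
  · exact first_second.2.map e
  · rw [congr_apply_iff, e.symm_apply_apply]; exact sOuter_first
  · rw [congr_apply_iff, e.symm_apply_apply]; exact sOuter_second
  · intro t ht hout
    obtain ⟨ψ, rfl⟩ := (MulAut.congr e).surjective t
    rw [MulEquiv.orderOf_eq] at ht
    rw [congr_inner] at hout
    obtain ⟨k, g, hk, rfl⟩ := outer_class hout (by rw [← pow_two, ← ht, pow_orderOf_eq_one])
    have hc : IsConj (MulAut.congr e (MulAut.conj g * typeAut k * (MulAut.conj g)⁻¹))
        (MulAut.congr e (typeAut k)) :=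
      (congr_isConj e).mpr (isConj_iff.mpr ⟨MulAut.conj g, rfl⟩).symm
    rw [hone, htwo]
    interval_cases k
    · exact Or.inl hc
    · exact Or.inr (Or.inl hc)
    · exact Or.inr (Or.inr hc)
  · rw [hone, show MulAut.congr e sOuter = MulAut.congr e (typeAut 0) from rfl]
    exact hneq (by rw [fixed_card.1, fixed_card.2.1]; norm_num)
  · rw [htwo, show MulAut.congr e sOuter = MulAut.congr e (typeAut 0) from rfl]
    exact hneq (by rw [fixed_card.1, fixed_card.2.2]; norm_num)
  · rw [hone, htwo]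
    exact hneq (by rw [fixed_card.2.1, fixed_card.2.2]; norm_num)
  · intro g
    rw [hone, congr_apply_iff, typeTwo_fixed, ← hcen, hmem]
  · obtain ⟨ε⟩ := typeTwo_iso
    exact ⟨(MulEquiv.subgroupCongr hcen.symm).trans
      ((Subgroup.equivMapOfInjective _ _ hinj).symm.trans ε)⟩
  · obtain ⟨hcore, ⟨hcomm, hexp⟩, hcard, hn, ⟨ε⟩⟩ := fixThree_structure
    let ψ : fixThree ≃* ↥(fixThree.map e.toMonoidHom) := fixThree.equivMapOfInjective _ hinj
    have hsub : (threeCore.subgroupOf fixThree).map ψ.toMonoidHom =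
        (threeCore.map e.toMonoidHom).subgroupOf (fixThree.map e.toMonoidHom) := by
      ext ⟨w, hw⟩
      simp only [Subgroup.mem_map, Subgroup.mem_subgroupOf]
      constructor
      · rintro ⟨u, hu, h⟩
        exact ⟨u, hu, congrArg Subtype.val h⟩
      · rintro ⟨u, hu, h⟩
        exact ⟨⟨u, threeCore_le hu⟩, hu, Subtype.ext h⟩
    haveI := hn
    haveI hn' : ((threeCore.map e.toMonoidHom).subgroupOf
        (fixThree.map e.toMonoidHom)).Normal :=
      hsub ▸ Subgroup.Normal.map hn _ ψ.surjective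
    refine ⟨fixThree.map e.toMonoidHom, threeCore.map e.toMonoidHom, ?_, ?_, ⟨?_, ?_⟩, ?_,
      hn', ⟨(QuotientGroup.congr _ _ ψ hsub).symm.trans ε⟩⟩
    · intro g
      rw [hmem, htwo, congr_apply_iff]; rfl
    · rw [← CfsgLib.CharCore.map_pCore ψ, Subgroup.map_map, ← hcore, Subgroup.map_map]
      congr 1
    · refine ⟨⟨?_⟩⟩
      rintro ⟨_, x, hx, rfl⟩ ⟨_, y, hy, rfl⟩
      have := congrArg Subtype.val (hcomm.is_comm.comm ⟨x, hx⟩ ⟨y, hy⟩)
      exact Subtype.ext (show e x * e y = e y * e x by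
        rw [← map_mul e, ← map_mul e]; exact congrArg e this)
    · rintro _ ⟨x, hx, rfl⟩
      rw [← map_pow, hexp x hx, map_one]
    · rw [← Nat.card_congr (threeCore.equivMapOfInjective _ hinj).toEquiv, hcard]

end CfsgLib.Fi22Pres
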