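import Cfsg.Agent.Lib.Fi22Pres.OuterFixed
import Cfsg.Agent.Lib.Extraspecial.LargeCriteria
import Cfsg.Agent.Lib.Extraspecial.Setting

/-!
The centralizer in the automorphism group of Fi22 of the product of two commuting transpositions:
a large extraspecial subgroup of order `2 ^ 11` with quotient the orthogonal group.
-/

set_option autoImplicit false
set_option Elab.async false
set_option maxRecDepth 20000
set_option linter.style.haveILetI false

namespace CfsgLib.Fi22Pres

open CfsgLib.CosetEnum Cfsg.Spor CfsgLib.Fi22USix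
open CfsgLib.Classical.LatticeSix (q2)
open scoped commutatorElement

/-- the outer element of the large extraspecial subgroup -/
noncomputable def qAut : MulAut Fi22 := MulAut.conj (prodW gen outQWord) * sPair

/-- the large extraspecial subgroup -/
noncomputable def qSub : Subgroup (MulAut Fi22) := autOrth.ker.map autCent.subtype

theorem qSub_le : qSub ≤ autCent := Subgroup.map_subtype_le _

theorem qSub_subgroupOf : qSub.subgroupOf autCent = autOrth.ker :=
  Subgroup.comap_map_eq_self_of_injective autCent.subtype_injective _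

theorem qWord_lt : ∀ g ∈ outQWord, g < 9 := letters_of_all q_word_facts.1

theorem qWord_cent : prodW gen outQWord ∈ pairCent := by
  rw [pairCent_mem]
  exact Or.inr ⟨Fin.ext ((rho_wordMap qWord_lt pt0).trans q_word_facts.2.1),
    Fin.ext ((rho_wordMap qWord_lt pt7).trans q_word_facts.2.2)⟩

theorem qAut_mem : qAut ∈ autCent := mul_mem (conj_mem_autCent.mpr qWord_cent) sPair_cent

theorem qAut_ker : qAut ∈ qSub := by
  refine ⟨⟨qAut, qAut_mem⟩, MonoidHom.mem_ker.mpr ?_, rfl⟩
  have h1 : (MulAut.conj (prodW gen outQWord), OrthLines.wordElt outQRefl) ∈ blockPairsAut :=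
    blockPairs_of_check (fun x => by rw [permOf_conj]; exact rho_wordMap qWord_lt x) q_blocks.1
  have m1 : (sPair, OrthLines.wordElt outReflWord) * (sPair, OrthLines.wordElt outReflWord) ∈
      blockPairsAut := blockPairsAut.mul_mem sPair_blocks sPair_blocks
  have m2 : ((1 : MulAut Fi22), (1 : OrthLines.O6)) ∈ blockPairsAut := blockPairsAut.one_mem
  rw [Prod.mk_mul_mk, sPair_sq] at m1
  have h2 : OrthLines.wordElt outQRefl * OrthLines.wordElt outReflWord = 1 := by
    rw [q_blocks.2]
    exact blockPairs_unique m1 m2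
  have h3 : (MulAut.conj (prodW gen outQWord), OrthLines.wordElt outQRefl) *
      (sPair, OrthLines.wordElt outReflWord) ∈ blockPairsAut :=
    blockPairsAut.mul_mem h1 sPair_blocks
  rw [Prod.mk_mul_mk, h2] at h3
  exact autOrth_eq h3

theorem qAut_outer : qAut ∉ (MulAut.conj : Fi22 →* MulAut Fi22).range :=
  conj_mul_outer _ sPair_not_inner

theorem permOf_qAut (x : Fin certA.N) : (permOf qAut x : ℕ) = qMap x := by
  rw [qAut, map_mul, permOf_conj, Equiv.Perm.mul_apply, rho_wordMap qWord_lt, permOf_sPair]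
  rfl

theorem qAut_sq : qAut * qAut = 1 := by
  obtain ⟨g, hg⟩ : ∃ g : Fi22, qAut * qAut = MulAut.conj g := by
    have h := (Subgroup.mul_mem_iff_of_index_two inner_index (a := qAut) (b := qAut)).mpr Iff.rfl
    obtain ⟨g, hg⟩ := h
    exact ⟨g, hg.symm⟩
  rw [hg, eq_of_base (g := g) (h := 1) fun b hb => ?_, map_one]
  rw [← permOf_conj, ← hg, map_mul, map_one, Equiv.Perm.one_apply, Equiv.Perm.mul_apply]
  apply Fin.ext
  rw [permOf_qAut, permOf_qAut]
  exact Nat.eq_of_beq_eq_true (List.all_eq_true.mp q_invol _ hb)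

/-- the images of the basis under the outer element -/
def qPt (k : ℕ) : Multiplicative (ZMod 2) × XModel := bitsX (outQImg.getD k 0)

theorem qAut_apply (q : Multiplicative (ZMod 2) × XModel) :
    qAut (exHom q) = exHom (phiX qPt q) := by
  refine phiX_spec _ _ (fun k hk => ?_) q
  have h := q_images
  simp only [List.all_eq_true, List.mem_range] at h
  refine eq_of_base fun b hb => ?_
  rw [← permOf_conj, ← conj_apply_eq, inv_eq_of_mul_eq_one_right qAut_sq, map_mul, map_mul,
    Equiv.Perm.mul_apply, Equiv.Perm.mul_apply, permOf_conj, ← exWord_spec]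
  apply Fin.ext
  rw [permOf_qAut, rho_wordMap (exWord_letters _), permOf_qAut, qPt, ← exWord_spec,
    rho_wordMap (exWord_letters _), ← nth_eq]
  have := h k hk b hb
  exact Nat.eq_of_beq_eq_true this

/-- an element of the inner part -/
noncomputable def innE : Multiplicative (ZMod 2) × XModel →* MulAut Fi22 :=
  (MulAut.conj : Fi22 →* MulAut Fi22).comp exHom

theorem innE_injective : Function.Injective innE := conj_injective_Fi22.comp exHom_injective

theorem qAut_innE (q : Multiplicative (ZMod 2) × XModel) :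
    qAut * innE q = innE (phiX qPt q) * qAut := by
  show qAut * MulAut.conj (exHom q) = MulAut.conj (exHom (phiX qPt q)) * qAut
  rw [← qAut_apply, ← conj_apply_eq, inv_mul_cancel_right]

theorem innE_mem (q : Multiplicative (ZMod 2) × XModel) : innE q ∈ qSub := by
  obtain ⟨hm, -, -⟩ := exPart_mem (g := exHom q) ⟨q, rfl⟩
  refine ⟨⟨MulAut.conj (exHom q), conj_mem_autCent.mpr hm⟩, MonoidHom.mem_ker.mpr ?_, rfl⟩
  rw [autOrth_conj ⟨exHom q, hm⟩]
  have : (⟨exHom q, hm⟩ : pairCent) ∈ toOrth.ker := by
    rw [toOrth_ker, Subgroup.mem_subgroupOf]; exact ⟨q, rfl⟩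
  exact this

theorem qSub_cases {x : MulAut Fi22} (hx : x ∈ qSub) :
    ∃ q, x = innE q ∨ x = innE q * qAut := by
  have inner : ∀ g : Fi22, MulAut.conj g ∈ qSub → ∃ q, MulAut.conj g = innE q := by
    rintro g ⟨⟨ψ, hψ⟩, hk, e⟩
    have e : ψ = MulAut.conj g := e
    subst e
    have hg : g ∈ pairCent := conj_mem_autCent.mp hψ
    have hk' : (⟨g, hg⟩ : pairCent) ∈ toOrth.ker := by
      rw [MonoidHom.mem_ker, ← autOrth_conj]; exact hk
    rw [toOrth_ker, Subgroup.mem_subgroupOf] at hk'
    obtain ⟨q, hq⟩ := hk'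
    exact ⟨q, by rw [innE, MonoidHom.comp_apply, hq]⟩
  rcases aut_cases x with ⟨g, rfl⟩ | ⟨g, rfl⟩
  · obtain ⟨q, hq⟩ := inner g hx
    exact ⟨q, Or.inl hq⟩
  · obtain ⟨g', hg'⟩ : MulAut.conj g * sOuter * qAut ∈ (MulAut.conj : Fi22 →* MulAut Fi22).range :=
      (Subgroup.mul_mem_iff_of_index_two inner_index).mpr
        ⟨fun h => absurd h (conj_mul_outer g sOuter_not_inner), fun h => absurd h qAut_outer⟩
    obtain ⟨q, hq⟩ := inner g' (hg' ▸ mul_mem hx qAut_ker)
    exact ⟨q, Or.inr (by rw [← hq, hg', mul_assoc (MulAut.conj g * sOuter), qAut_sq, mul_one])⟩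

theorem qSub_card : Nat.card qSub = 2 ^ 11 := by
  have h := autOrth.ker.card_mul_index
  rw [Subgroup.index_ker, MonoidHom.range_eq_top.mpr autOrth_surjective, Subgroup.card_top,
    autCent_card, pairCent_card, pairStab_card,
    show Nat.card OrthLines.O6 = 51840 from CfsgLib.Classical.LatticeSix.card_O6] at h
  rw [qSub, ← Nat.card_congr (autOrth.ker.equivMapOfInjective _ autCent.subtype_injective).toEquiv]
  exact Nat.eq_of_mul_eq_mul_right (by norm_num) (h.trans (by norm_num))

/-- the central involution of the model -/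
def zX : Multiplicative (ZMod 2) × XModel := bitsX 2

/-- equal up to the central involution -/
def Near (u w : Multiplicative (ZMod 2) × XModel) : Prop := u = w ∨ u = zX * w

theorem zX_facts : zX * zX = 1 ∧ zX = (1, ⟨0, 1⟩) := by decide +kernel

theorem zX_central (u : Multiplicative (ZMod 2) × XModel) : zX * u = u * zX := by
  rw [zX_facts.2]
  refine Prod.ext (mul_comm _ _) ?_
  exact ((Subgroup.mem_center_iff.mp ((CfsgLib.Extraspecial.Model.mem_center_iff _).mpr
    (show (⟨0, 1⟩ : XModel).v = 0 from rfl))) u.2).symm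

theorem near_cancel (u : Multiplicative (ZMod 2) × XModel) : zX * (zX * u) = u := by
  rw [← mul_assoc, zX_facts.1, one_mul]

theorem Near.symm {u w} (h : Near u w) : Near w u := by
  rcases h with rfl | rfl
  · exact Or.inl rfl
  · exact Or.inr (near_cancel w).symm

theorem Near.trans {u v w} (h : Near u v) (h' : Near v w) : Near u w := by
  rcases h with rfl | rfl
  · exact h'
  · rcases h' with rfl | rfl
    · exact Or.inr rfl
    · exact Or.inl (near_cancel w)

theorem Near.mul_left {u w} (h : Near u w) (a : Multiplicative (ZMod 2) × XModel) :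
    Near (a * u) (a * w) := by
  rcases h with rfl | rfl
  · exact Or.inl rfl
  · exact Or.inr (by rw [← mul_assoc, ← zX_central, mul_assoc])

theorem Near.mul_right {u w} (h : Near u w) (a : Multiplicative (ZMod 2) × XModel) :
    Near (u * a) (w * a) := by
  rcases h with rfl | rfl
  · exact Or.inl rfl
  · exact Or.inr (mul_assoc _ _ _)

theorem near_comm (a b : Multiplicative (ZMod 2) × XModel) : Near (a * b) (b * a) := by
  have hv : (a * b).2.v = (b * a).2.v := add_comm _ _
  have h1 : (a * b).1 = (b * a).1 := mul_comm _ _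
  rcases zmod2_cases ((a * b).2.a + (b * a).2.a) with h | h
  · refine Or.inl (Prod.ext h1 (CfsgLib.Extraspecial.Model.ext hv ?_))
    exact (CharTwo.add_eq_zero.mp h)
  · refine Or.inr (Prod.ext ?_ (CfsgLib.Extraspecial.Model.ext ?_ ?_))
    · rw [zX_facts.2]; show a.1 * b.1 = 1 * (b * a).1
      rw [one_mul]; exact h1
    · rw [zX_facts.2]; show (a * b).2.v = 0 + (b * a).2.v
      rw [zero_add]; exact hv
    · rw [zX_facts.2]
      show (a * b).2.a = 1 + (b * a).2.a + CfsgLib.Extraspecial.cocycle _ 0 _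
      rw [CfsgLib.Extraspecial.cocycle_zero_left, add_zero, ← h, add_assoc,
        CharTwo.add_self_eq_zero, add_zero]

theorem phi_near_bits : ∀ n : Fin 1024,
    (phiX qPt (bitsX n) = bitsX n ∨ phiX qPt (bitsX n) = zX * bitsX n) ∧
    (bitsX n * bitsX n = 1 ∨ bitsX n * bitsX n = zX) ∧
    ((bitsX n).2.v = 0 → phiX qPt (bitsX n) = bitsX n → (n : ℕ) = 0 ∨ (n : ℕ) = 2) := by
  decide +kernel

theorem phi_near (a : Multiplicative (ZMod 2) × XModel) : Near (phiX qPt a) a := by
  obtain ⟨n, rfl⟩ := bitsX_surjective a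
  exact (phi_near_bits n).1

theorem sq_near (a : Multiplicative (ZMod 2) × XModel) : Near (a * a) 1 := by
  obtain ⟨n, rfl⟩ := bitsX_surjective a
  exact (phi_near_bits n).2.1.imp id fun h => by rw [h, mul_one]

theorem first_moved : phiX qPt (bitsX 1) ≠ bitsX 1 := by decide +kernel

/-- the central involution of the subgroup -/
noncomputable def jAut : MulAut Fi22 := MulAut.conj pairProd

theorem innE_zX : innE zX = jAut := by
  show MulAut.conj (exHom (bitsX 2)) = MulAut.conj pairProd
  congr 1
  rw [← exWord_spec, ← pairWord_spec.2]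
  congr 1

theorem jAut_comm {φ : MulAut Fi22} (h : φ ∈ autCent) : φ * jAut = jAut * φ :=
  Subgroup.mem_centralizer_singleton_iff.mp h

theorem innE_near {u w} (h : Near u w) : innE u = innE w ∨ innE u = jAut * innE w := by
  rcases h with rfl | rfl
  · exact Or.inl rfl
  · exact Or.inr (by rw [map_mul, innE_zX])

theorem qSub_near {x y : MulAut Fi22} (hx : x ∈ qSub) (hy : y ∈ qSub) :
    x * y = y * x ∨ x * y = jAut * (y * x) := by
  obtain ⟨a, ha⟩ := qSub_cases hx
  obtain ⟨b, hb⟩ := qSub_cases hy
  have fin1 : ∀ {u w}, Near u w → innE u = innE w ∨ innE u = jAut * innE w := innE_near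
  rcases ha with rfl | rfl <;> rcases hb with rfl | rfl
  · rw [← map_mul, ← map_mul]; exact fin1 (near_comm a b)
  · rw [← mul_assoc, ← map_mul, mul_assoc (innE b), qAut_innE, ← mul_assoc, ← map_mul]
    rcases fin1 ((near_comm a b).trans ((phi_near a).symm.mul_left b)) with h | h <;> rw [h]
    · exact Or.inl rfl
    · exact Or.inr (mul_assoc _ _ _)
  · rw [mul_assoc, qAut_innE, ← mul_assoc, ← mul_assoc, ← map_mul, ← map_mul]
    rcases fin1 ((((phi_near b).mul_left a).trans (near_comm a b))) with h | h <;> rw [h]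
    · exact Or.inl rfl
    · exact Or.inr (mul_assoc _ _ _)
  · have e : ∀ u w, innE u * qAut * (innE w * qAut) = innE (u * phiX qPt w) := fun u w => by
      rw [map_mul, mul_assoc, ← mul_assoc qAut, qAut_innE, mul_assoc (innE (phiX qPt w)), qAut_sq,
        mul_one]
    rw [e, e]
    exact fin1 ((((phi_near b).mul_left a).trans (near_comm a b)).trans
      ((phi_near a).symm.mul_left b))

theorem qSub_sq {x : MulAut Fi22} (hx : x ∈ qSub) : x * x = 1 ∨ x * x = jAut := by
  obtain ⟨a, rfl | rfl⟩ := qSub_cases hx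
  · rw [← map_mul]
    exact (innE_near (sq_near a)).imp (fun h => by rw [h, map_one]) fun h => by
      rw [h, map_one, mul_one]
  · have e : innE a * qAut * (innE a * qAut) = innE (a * phiX qPt a) := by
      rw [map_mul, mul_assoc, ← mul_assoc qAut, qAut_innE, mul_assoc (innE (phiX qPt a)), qAut_sq,
        mul_one]
    rw [e]
    exact (innE_near (((phi_near a).mul_left a).trans (sq_near a))).imp
      (fun h => by rw [h, map_one]) fun h => by rw [h, map_one, mul_one]

theorem jAut_mem : jAut ∈ qSub := innE_zX ▸ innE_mem zX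

theorem jAut_ne : jAut ≠ 1 := fun h => basic_ne.2.2 (conj_injective_Fi22 (h.trans (map_one _).symm))

theorem jAut_sq : jAut * jAut = 1 := by rw [← innE_zX, ← map_mul, zX_facts.1, map_one]

theorem qSub_center {z : MulAut Fi22} (hz : z ∈ qSub) (hc : ∀ x ∈ qSub, x * z = z * x) :
    z = 1 ∨ z = jAut := by
  obtain ⟨a, rfl | rfl⟩ := qSub_cases hz
  · have hv : a.2.v = 0 := by
      refine (CfsgLib.Extraspecial.Model.mem_center_iff a.2).mp (Subgroup.mem_center_iff.mpr fun y => ?_)
      have h := hc _ (innE_mem (1, y))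
      rw [← map_mul, ← map_mul] at h
      exact congrArg Prod.snd (innE_injective h)
    have hφ : phiX qPt a = a := by
      have h := hc _ qAut_ker
      rw [qAut_innE, mul_left_inj] at h
      exact innE_injective h
    obtain ⟨n, rfl⟩ := bitsX_surjective a
    rcases (phi_near_bits n).2.2 hv hφ with h | h <;> rw [h]
    · exact Or.inl (by rw [show bitsX 0 = 1 by decide +kernel, map_one])
    · exact Or.inr innE_zX
  · exfalso
    have h := hc _ (innE_mem (bitsX 1))
    rw [mul_assoc, qAut_innE, ← mul_assoc, ← mul_assoc, ← map_mul, ← map_mul, mul_left_inj] at h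
    have h' := innE_injective h
    refine first_moved (mul_left_cancel (a := a) ?_)
    rw [← h']
    have hc1 : bitsX 1 = (Multiplicative.ofAdd 1, 1) := by decide +kernel
    rw [hc1]
    exact Prod.ext (mul_comm _ _) ((one_mul _).trans (mul_one _).symm)

theorem qSub_cen :
    (Subgroup.center ↥qSub).map qSub.subtype = Subgroup.zpowers jAut := by
  refine le_antisymm ?_ (Subgroup.zpowers_le.mpr ?_)
  · rintro _ ⟨z, hz, rfl⟩
    rcases qSub_center z.2 fun x hx =>
      congrArg Subtype.val (Subgroup.mem_center_iff.mp hz ⟨x, hx⟩) with h | h <;>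
      rw [Subgroup.subtype_apply, h]
    · exact one_mem _
    · exact Subgroup.mem_zpowers _
  · exact ⟨⟨jAut, jAut_mem⟩, Subgroup.mem_center_iff.mpr fun g => Subtype.ext
      (jAut_comm (qSub_le g.2)), rfl⟩

theorem qSub_extraspecial : Cfsg.IsExtraspecial 2 ↥qSub := by
  haveI : Fact (Nat.Prime 2) := ⟨Nat.prime_two⟩
  haveI : Finite (MulAut Fi22) := inferInstance
  have hj : orderOf jAut = 2 := orderOf_eq_prime (by rw [pow_two]; exact jAut_sq) jAut_ne
  have hmem : ∀ u : qSub, ((u : MulAut Fi22) = 1 ∨ (u : MulAut Fi22) = jAut) →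
      u ∈ Subgroup.center ↥qSub := fun u hu => Subgroup.mem_center_iff.mpr fun g => Subtype.ext (by
    show (g : MulAut Fi22) * u = u * g
    rcases hu with h | h <;> rw [h]
    · simp
    · exact jAut_comm (qSub_le g.2))
  refine CfsgLib.Extraspecial.isExtraspecial_of (IsPGroup.of_card qSub_card) ?_
    (fun a b => hmem _ ?_) (fun a => hmem _ ?_) ?_
  · rw [Nat.card_congr ((Subgroup.center ↥qSub).equivMapOfInjective _
      qSub.subtype_injective).toEquiv, qSub_cen, Nat.card_zpowers, hj]
  · rw [commutatorElement_def]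
    simp only [Subgroup.coe_mul, InvMemClass.coe_inv]
    rcases qSub_near a.2 b.2 with h | h <;> rw [h]
    · exact Or.inl (by group)
    · exact Or.inr (by group)
  · rw [SubmonoidClass.coe_pow, pow_two]
    exact qSub_sq a.2
  · refine ⟨⟨_, qAut_ker⟩, ⟨_, innE_mem (bitsX 1)⟩, fun h => ?_⟩
    rw [commutatorElement_eq_one_iff_mul_comm] at h
    have h' : qAut * innE (bitsX 1) = innE (bitsX 1) * qAut := congrArg Subtype.val h
    rw [qAut_innE, mul_left_inj] at h'
    exact first_moved (innE_injective h')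

theorem qSub_centralizer : Subgroup.centralizer (qSub : Set (MulAut Fi22)) =
    (Subgroup.center ↥qSub).map qSub.subtype := by
  rw [qSub_cen]
  refine le_antisymm ?_ (Subgroup.zpowers_le.mpr (Subgroup.mem_centralizer_iff.mpr fun x hx =>
    jAut_comm (qSub_le hx)))
  intro c hc
  have hcC : c ∈ autCent := Subgroup.mem_centralizer_singleton_iff.mpr
    (Subgroup.mem_centralizer_iff.mp hc _ jAut_mem).symm
  -- the centralizer maps to a normal subgroup not containing the simple one
  set N : Subgroup autCent := (Subgroup.centralizer (qSub : Set (MulAut Fi22))).subgroupOf autCent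
  haveI : N.Normal := by
    constructor
    intro n hn g
    rw [Subgroup.mem_subgroupOf, Subgroup.mem_centralizer_iff] at hn ⊢
    intro x hx
    have hx' : (g : MulAut Fi22)⁻¹ * x * g ∈ qSub := by
      have hk : (g⁻¹ * ⟨x, qSub_le hx⟩ * g : autCent) ∈ autOrth.ker := by
        rw [MonoidHom.mem_ker, map_mul, map_mul, map_inv]
        have : autOrth ⟨x, qSub_le hx⟩ = 1 := by
          have hx0 := hx
          obtain ⟨k, hk, e⟩ := hx0
          rw [show (⟨x, qSub_le hx⟩ : autCent) = k from Subtype.ext e.symm]; exact hk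
        rw [this, mul_one, inv_mul_cancel]
      exact ⟨_, hk, rfl⟩
    have := hn _ hx'
    show x * ((g : MulAut Fi22) * n * (g : MulAut Fi22)⁻¹) = g * n * (g : MulAut Fi22)⁻¹ * x
    calc x * ((g : MulAut Fi22) * n * (g : MulAut Fi22)⁻¹)
        = g * ((g : MulAut Fi22)⁻¹ * x * g * n) * (g : MulAut Fi22)⁻¹ := by group
      _ = _ := by rw [this]; group
  haveI : (N.map autOrth).Normal := Subgroup.Normal.map inferInstance _ autOrth_surjective
  have hNQ : N ≤ autOrth.ker := by
    rcases OrthLines.normal_bot_or_le (N.map autOrth) with h | h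
    · exact (Subgroup.map_eq_bot_iff _).mp h
    · exfalso
      obtain ⟨f, hf, hfinv, hbad⟩ := moved_witness
      obtain ⟨n, hn1, hn2⟩ : toOrth ⟨f, pairStab_le hf⟩ ∈ N.map autOrth :=
        h ((toOrth_omega _).mpr hf)
      set F : autCent := ⟨MulAut.conj f, conj_mem_autCent.mpr (pairStab_le hf)⟩
      have hk : ((n⁻¹ * F : autCent) : MulAut Fi22) ∈ qSub := by
        refine ⟨n⁻¹ * F, MonoidHom.mem_ker.mpr ?_, rfl⟩
        rw [map_mul, map_inv, hn2, show F = ⟨MulAut.conj ((⟨f, pairStab_le hf⟩ : pairCent) : Fi22),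
          conj_mem_autCent.mpr (pairStab_le hf)⟩ from rfl, autOrth_conj, inv_mul_cancel]
      set k : MulAut Fi22 := ((n⁻¹ * F : autCent) : MulAut Fi22) with hkdef
      obtain ⟨qa, hqa⟩ := eA_mem 0
      have he : MulAut.conj (eA 0) ∈ qSub := by
        rw [← hqa]; exact innE_mem qa
      have hne : MulAut.conj (eA 0) * (n : MulAut Fi22) = n * MulAut.conj (eA 0) :=
        Subgroup.mem_centralizer_iff.mp hn1 _ he
      have hFk : MulAut.conj f = (n : MulAut Fi22) * k := by
        rw [hkdef]; simp [F]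
      have hnj : (n : MulAut Fi22) * jAut = jAut * n := jAut_comm n.2
      have hconj : MulAut.conj (f * eA 0 * f⁻¹ * (eA 0)⁻¹) = 1 ∨
          MulAut.conj (f * eA 0 * f⁻¹ * (eA 0)⁻¹) = jAut := by
        rw [map_mul, map_mul, map_mul, map_inv, map_inv, hFk]
        have e : (n : MulAut Fi22) * k * MulAut.conj (eA 0) * ((n : MulAut Fi22) * k)⁻¹ *
            (MulAut.conj (eA 0))⁻¹ =
            (n : MulAut Fi22) * (k * MulAut.conj (eA 0) * k⁻¹) *
              (MulAut.conj (eA 0) * (n : MulAut Fi22))⁻¹ := by group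
        rw [e, hne]
        rcases qSub_near hk he with h' | h' <;> rw [h']
        · exact Or.inl (by group)
        · refine Or.inr ?_
          calc (n : MulAut Fi22) * (jAut * (MulAut.conj (eA 0) * k) * k⁻¹) *
                ((n : MulAut Fi22) * MulAut.conj (eA 0))⁻¹
              = (n : MulAut Fi22) * jAut * (n : MulAut Fi22)⁻¹ := by group
            _ = jAut := by rw [hnj]; group
      have heq : f * eA 0 * f⁻¹ * (eA 0)⁻¹ = f * eA 0 * f * eA 0 := by
        rw [hfinv, inv_eq_of_mul_eq_one_right (sympBasis.asq 0)]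
      rw [heq] at hconj
      rcases hconj with h' | h'
      · exact hbad 1 (by simp) (conj_injective_Fi22 (h'.trans (map_one _).symm))
      · exact hbad pairProd (by simp) (conj_injective_Fi22 h')
  have hcQ : c ∈ qSub := ⟨⟨c, hcC⟩, hNQ hc, rfl⟩
  rcases qSub_center hcQ fun x hx => Subgroup.mem_centralizer_iff.mp hc x hx with h | h <;> rw [h]
  · exact one_mem _
  · exact Subgroup.mem_zpowers _

theorem autCent_le_normalizer : autCent ≤ Subgroup.normalizer (qSub : Set (MulAut Fi22)) :=
  (Subgroup.normal_subgroupOf_iff_le_normalizer qSub_le).mp (qSub_subgroupOf ▸ MonoidHom.normal_ker _)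

theorem cen_centralizer_le :
    Subgroup.centralizer (((Subgroup.center ↥qSub).map qSub.subtype : Subgroup (MulAut Fi22)) :
      Set (MulAut Fi22)) ≤ Subgroup.normalizer (qSub : Set (MulAut Fi22)) := by
  refine le_trans (fun x hx => ?_) autCent_le_normalizer
  rw [qSub_cen] at hx
  exact Subgroup.mem_centralizer_singleton_iff.mpr
    (Subgroup.mem_centralizer_iff.mp hx _ (Subgroup.mem_zpowers _)).symm

/-- the element carrying the third class to the outer element -/
noncomputable def qConj : Fi22 := prodW gen outQMove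

theorem qMove_lt : ∀ g ∈ outQMove, g < 9 := letters_of_all q_move.1

theorem qAut_conj : MulAut.conj qConj * typeAut 2 = qAut * MulAut.conj qConj := by
  refine outer_eq_of_base (conj_mul_outer _ (typeAut_outer 2)) (outer_mul_conj _ qAut_outer)
    fun b hb => ?_
  have h := List.all_eq_true.mp q_move.2.1 _ hb
  rw [strict_eq] at h
  simp only [map_mul, Equiv.Perm.mul_apply, permOf_conj]
  apply Fin.ext
  rw [qConj, rho_wordMap qMove_lt, permOf_typeAut le_rfl, outerPerm_apply, permOf_qAut,
    rho_wordMap qMove_lt, outerPerm_apply]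
  exact Nat.eq_of_beq_eq_true h

theorem jMoved_core : qConj⁻¹ * pairProd * qConj ∈ threeCore := by
  obtain ⟨e, -, hk⟩ := three_structure
  have hfix : qConj⁻¹ * pairProd * qConj ∈ fixThree := by
    have hT : typeAut 2 = (MulAut.conj qConj)⁻¹ * qAut * MulAut.conj qConj := by
      rw [mul_assoc, ← qAut_conj, inv_mul_cancel_left]
    show typeAut 2 _ = _
    rw [hT, MulAut.mul_apply, MulAut.mul_apply, MulAut.conj_apply,
      show qConj * (qConj⁻¹ * pairProd * qConj) * qConj⁻¹ = pairProd by group,
      mem_autCent.mp qAut_mem, MulAut.conj_inv_apply]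
  have hlet : ∀ g ∈ certA.revInv outQMove ++ pairWord ++ outQMove, g < 9 := by
    have hr : ((certA.revInv outQMove).all fun g => Nat.blt g 9) = true := by decide +kernel
    intro g hg
    rcases List.mem_append.mp hg with hg | hg
    · rcases List.mem_append.mp hg with hg | hg
      exacts [letters_of_all hr g hg, pairWord_spec.1 g hg]
    · exact qMove_lt g hg
  have hw : prodW gen (certA.revInv outQMove ++ pairWord ++ outQMove) = qConj⁻¹ * pairProd * qConj := by
    rw [prodW_append, prodW_append, setupA.model.revInv_eq, pairWord_spec.2]; rfl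
  have hp : (qConj⁻¹ * pairProd * qConj, (1 : OrthLines.O6)) ∈ threePairs := by
    refine ⟨hfix, fun x hx => ?_⟩
    obtain ⟨m, hm, em⟩ := listed_three hx
    have h := q_move.2.2
    have h' := refl_pts.2.2.2
    simp only [List.all_eq_true, List.mem_range, Nat.beq_eq] at h h'
    rw [map_one, Equiv.Perm.one_apply]
    apply Fin.ext
    show pairIdx (rho (qConj⁻¹ * pairProd * qConj) x : ℕ) % 36 = pairIdx x % 36
    rw [← hw, rho_wordMap hlet, ← em, h m hm, h' m hm]
  rw [← e] at hfix
  have hmem : (⟨_, hfix⟩ : threeGen) ∈ threeHom.ker := threeHom_eq hp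
  rw [hk, Subgroup.mem_subgroupOf] at hmem
  exact hmem

theorem qSub_large : Cfsg.IsLargeExtraspecial qSub := by
  haveI : Fact (Nat.Prime 2) := ⟨Nat.prime_two⟩
  haveI : Finite Fi22 := finite_and_card.1
  refine CfsgLib.Extraspecial.Large.large_of_involution qSub_extraspecial qSub_centralizer
    cen_centralizer_le qAut_ker (fun h => ?_)
    (orderOf_eq_prime (by rw [pow_two]; exact qAut_sq) fun h => qAut_outer (h ▸ one_mem _)) ?_
  · rw [CfsgLib.Extraspecial.Large.cen, qSub_cen] at h
    have hle : Subgroup.zpowers jAut ≤ (MulAut.conj : Fi22 →* MulAut Fi22).range :=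
      Subgroup.zpowers_le.mpr ⟨pairProd, rfl⟩
    exact qAut_outer (hle h)
  set Cq := Subgroup.centralizer ({qAut} : Set (MulAut Fi22))
  set M : Subgroup (MulAut Fi22) := (threeCore.map (MulAut.conj : Fi22 →* MulAut Fi22)).map
    (MulAut.conj (MulAut.conj qConj)).toMonoidHom with hM
  have hTi : typeAut 2 = (MulAut.conj qConj)⁻¹ * qAut * MulAut.conj qConj := by
    rw [mul_assoc, ← qAut_conj, inv_mul_cancel_left]
  have hT2 : typeAut 2 * typeAut 2 = 1 := by
    rw [hTi]
    calc _ = (MulAut.conj qConj)⁻¹ * (qAut * qAut) * MulAut.conj qConj := by group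
      _ = 1 := by rw [qAut_sq, mul_one, inv_mul_cancel]
  have hMle : M ≤ Cq := by
    rintro _ ⟨_, ⟨o, ho, rfl⟩, rfl⟩
    rw [Subgroup.mem_centralizer_singleton_iff]
    have ho' : typeAut 2 * MulAut.conj o = MulAut.conj o * typeAut 2 := by
      have : typeAut 2 o = o := threeCore_le ho
      rw [← mul_inv_eq_iff_eq_mul, conj_apply_eq, this]
    show MulAut.conj qConj * MulAut.conj o * (MulAut.conj qConj)⁻¹ * qAut =
      qAut * (MulAut.conj qConj * MulAut.conj o * (MulAut.conj qConj)⁻¹)
    have hq : qAut = MulAut.conj qConj * typeAut 2 * (MulAut.conj qConj)⁻¹ := by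
      rw [qAut_conj, mul_inv_cancel_right]
    rw [hq]
    calc MulAut.conj qConj * MulAut.conj o * (MulAut.conj qConj)⁻¹ *
          (MulAut.conj qConj * typeAut 2 * (MulAut.conj qConj)⁻¹)
        = MulAut.conj qConj * (MulAut.conj o * typeAut 2) * (MulAut.conj qConj)⁻¹ := by group
      _ = _ := by rw [← ho']; group
  haveI hMn : (M.subgroupOf Cq).Normal := by
    constructor
    intro x hx φ
    rw [Subgroup.mem_subgroupOf] at hx ⊢
    obtain ⟨_, ⟨o, ho, rfl⟩, hxe⟩ := hx
    set ψ := (MulAut.conj qConj)⁻¹ * (φ : MulAut Fi22) * MulAut.conj qConj with hψ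
    have hψT : ψ * typeAut 2 = typeAut 2 * ψ := by
      rw [hψ, hTi]
      calc _ = (MulAut.conj qConj)⁻¹ * ((φ : MulAut Fi22) * qAut) * MulAut.conj qConj := by group
        _ = _ := by rw [Subgroup.mem_centralizer_singleton_iff.mp φ.2]; group
    obtain ⟨g, hg, hgo⟩ : ∃ g ∈ fixThree, ψ o = g * o * g⁻¹ := by
      have hin : ∀ g : Fi22, MulAut.conj g * typeAut 2 = typeAut 2 * MulAut.conj g → g ∈ fixThree :=
        fun g hg => conj_injective_Fi22 (by
          rw [← conj_apply_eq, ← hg, mul_inv_cancel_right])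
      rcases aut_cases ψ with ⟨g, hg⟩ | ⟨g, hg⟩
      · exact ⟨g, hin g (hg ▸ hψT), by rw [hg]; rfl⟩
      · obtain ⟨g', hg'⟩ : ψ * typeAut 2 ∈ (MulAut.conj : Fi22 →* MulAut Fi22).range :=
          (Subgroup.mul_mem_iff_of_index_two inner_index).mpr
            ⟨fun h => absurd (hg ▸ h) (conj_mul_outer g sOuter_not_inner),
              fun h => absurd h (typeAut_outer 2)⟩
        have hψe : ψ = MulAut.conj g' * typeAut 2 := by rw [hg', mul_assoc, hT2, mul_one]
        refine ⟨g', hin g' ?_, ?_⟩
        · rw [hg', mul_assoc, hT2, mul_one, ← mul_assoc, ← hψT, mul_assoc, hT2, mul_one]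
        · rw [hψe, MulAut.mul_apply, show typeAut 2 o = o from threeCore_le ho]; rfl
    obtain ⟨e, -, -⟩ := three_structure
    have hmem : ψ o ∈ threeCore := by
      rw [hgo]
      rw [← e] at hg
      exact three_normal.conj_mem ⟨o, threeCore_le_gen ho⟩ ho ⟨g, hg⟩
    refine ⟨MulAut.conj (ψ o), ⟨_, hmem, rfl⟩, ?_⟩
    show MulAut.conj qConj * MulAut.conj (ψ o) * (MulAut.conj qConj)⁻¹ =
      (φ : MulAut Fi22) * (x : MulAut Fi22) * (φ : MulAut Fi22)⁻¹
    rw [← hxe, ← conj_apply_eq, hψ]
    show _ = (φ : MulAut Fi22) *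
      (MulAut.conj qConj * MulAut.conj o * (MulAut.conj qConj)⁻¹) * (φ : MulAut Fi22)⁻¹
    group
  have hMp : IsPGroup 2 (M.subgroupOf Cq) := by
    refine IsPGroup.of_card (n := 6) ?_
    rw [Nat.card_congr (Subgroup.subgroupOfEquivOfLe hMle).toEquiv, hM,
      ← Nat.card_congr (Subgroup.equivMapOfInjective _ _ (MulEquiv.injective _)).toEquiv,
      ← Nat.card_congr (Subgroup.equivMapOfInjective _ _ conj_injective_Fi22).toEquiv,
      three_structure.2.1]
    norm_num
  rw [CfsgLib.Extraspecial.Large.cen, qSub_cen, Subgroup.zpowers_le]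
  have hjM : jAut ∈ M := by
    refine ⟨MulAut.conj (qConj⁻¹ * pairProd * qConj), ⟨_, jMoved_core, rfl⟩, ?_⟩
    show MulAut.conj qConj * MulAut.conj (qConj⁻¹ * pairProd * qConj) * (MulAut.conj qConj)⁻¹ =
      MulAut.conj pairProd
    rw [map_mul, map_mul, map_inv]; group
  exact ⟨⟨jAut, hMle hjM⟩, CfsgLib.Fitting.le_pCore hMn hMp hjM, rfl⟩

theorem fitting_autCent :
    Cfsg.generalizedFittingSubgroup ↥autCent = qSub.subgroupOf autCent := by
  haveI : Fact (Nat.Prime 2) := ⟨Nat.prime_two⟩
  haveI : Finite Fi22 := finite_and_card.1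
  set E' := qSub.subgroupOf autCent
  haveI hn : E'.Normal := by
    show (qSub.subgroupOf autCent).Normal
    rw [qSub_subgroupOf]; exact MonoidHom.normal_ker _
  have hp : IsPGroup 2 E' := IsPGroup.of_card
    (by rw [Nat.card_congr (Subgroup.subgroupOfEquivOfLe qSub_le).toEquiv, qSub_card])
  have hcore : Cfsg.pCore 2 ↥autCent = E' := by
    refine le_antisymm ?_ (CfsgLib.Fitting.le_pCore hn hp)
    haveI := CfsgLib.Fitting.pCore_normal (G := ↥autCent) 2
    haveI : ((Cfsg.pCore 2 ↥autCent).map autOrth).Normal :=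
      Subgroup.Normal.map inferInstance _ autOrth_surjective
    rcases OrthLines.normal_bot_or_le ((Cfsg.pCore 2 ↥autCent).map autOrth) with h | h
    · rw [Subgroup.map_eq_bot_iff, ← qSub_subgroupOf] at h; exact h
    · exfalso
      have h2 := ((CfsgLib.Fitting.pCore_isPGroup (G := ↥autCent) 2).map autOrth).to_le h
      obtain ⟨n, hn⟩ := IsPGroup.iff_card.mp h2
      have h5 : 5 ∣ 2 ^ n := by
        rw [← hn]
        have h1 := (Cfsg.Omega (ZMod 2) q2).card_mul_index
        rw [CfsgLib.Classical.LatticeSix.index_O6,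
          show Nat.card OrthLines.O6 = 51840 from CfsgLib.Classical.LatticeSix.card_O6] at h1
        exact ⟨5184, Nat.eq_of_mul_eq_mul_right two_pos (h1.trans (by norm_num))⟩
      have := (Nat.prime_dvd_prime_iff_eq (by norm_num) Nat.prime_two).mp
        ((by norm_num : Nat.Prime 5).dvd_of_dvd_pow h5)
      omega
  rw [← hcore]
  refine CfsgLib.Layer.generalizedFitting_eq_pCore_iff.mpr ?_
  rw [hcore]
  intro x hx
  rw [Subgroup.mem_subgroupOf]
  refine (Subgroup.map_subtype_le (K := Subgroup.center ↥qSub)) ?_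
  rw [← qSub_centralizer, Subgroup.mem_centralizer_iff]
  intro y hy
  exact congrArg Subtype.val (Subgroup.mem_centralizer_iff.mp hx ⟨y, qSub_le hy⟩ hy)

theorem autCent_quot : ∃ _ : (qSub.subgroupOf autCent).Normal,
    Nonempty (↥autCent ⧸ qSub.subgroupOf autCent ≃* OrthLines.O6) := by
  haveI hn : (qSub.subgroupOf autCent).Normal := qSub_subgroupOf ▸ MonoidHom.normal_ker _
  exact ⟨hn, ⟨(QuotientGroup.quotientMulEquivOfEq qSub_subgroupOf).trans
    (QuotientGroup.quotientKerEquivOfSurjective _ autOrth_surjective)⟩⟩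

end CfsgLib.Fi22Pres
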