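import Cfsg.Agent.Lib.Fi22Pres.PairAut
import Cfsg.Agent.Lib.Fi22Pres.PairTransfer
import Cfsg.Agent.Lib.Fi22Pres.OuterTransfer

/-!
The centralizer of the automorphism of a commuting pair of transpositions, in a group isomorphic
to Fi22.
-/

set_option autoImplicit false
set_option Elab.async false
set_option linter.style.haveILetI false

namespace CfsgLib.Fi22Pres

open CfsgLib.CosetEnum Cfsg.Spor CfsgLib.Fi22USix
open CfsgLib.Classical.LatticeSix (q2)

theorem center_map_equiv {A B : Type*} [Group A] [Group B] (f : A ≃* B) (Q : Subgroup A) :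
    ((Subgroup.center ↥Q).map Q.subtype).map f.toMonoidHom =
      (Subgroup.center ↥(Q.map f.toMonoidHom)).map (Q.map f.toMonoidHom).subtype := by
  ext w
  constructor
  · rintro ⟨_, ⟨u, hu, rfl⟩, rfl⟩
    refine ⟨⟨f u, _, u.2, rfl⟩, Subgroup.mem_center_iff.mpr ?_, rfl⟩
    rintro ⟨_, y, hy, rfl⟩
    apply Subtype.ext
    have h := congrArg f (congrArg Subtype.val (Subgroup.mem_center_iff.mp hu ⟨y, hy⟩))
    show f y * f u = f u * f y
    simpa using h
  · rintro ⟨⟨_, u, hu, rfl⟩, hw, rfl⟩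
    refine ⟨u, ⟨⟨u, hu⟩, Subgroup.mem_center_iff.mpr fun y => ?_, rfl⟩, rfl⟩
    apply Subtype.ext
    have h := congrArg Subtype.val
      (Subgroup.mem_center_iff.mp hw ⟨f y, y, y.2, rfl⟩)
    apply f.injective
    show f ((y : A) * u) = f (u * y)
    rw [map_mul, map_mul]
    exact h

theorem large_map_equiv {A B : Type*} [Group A] [Finite A] [Group B] [Finite B] (f : A ≃* B)
    {Q : Subgroup A} (h : Cfsg.IsLargeExtraspecial Q) :
    Cfsg.IsLargeExtraspecial (Q.map f.toMonoidHom) := by
  haveI : Fact (Nat.Prime 2) := ⟨Nat.prime_two⟩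
  obtain ⟨h1, h2, h3, h4⟩ := h
  refine ⟨CfsgLib.Extraspecial.isExtraspecial_congr
    (Q.equivMapOfInjective f.toMonoidHom f.injective) h1, ?_, ?_, ?_⟩
  · rw [← center_map_equiv, ← h2, map_centralizer_equiv]; rfl
  · rw [← center_map_equiv, ← Subgroup.map_equiv_normalizer_eq]
    rw [show Subgroup.centralizer (((((Subgroup.center ↥Q).map Q.subtype).map f.toMonoidHom :
        Subgroup B)) : Set B) =
      (Subgroup.centralizer (((Subgroup.center ↥Q).map Q.subtype : Subgroup A) : Set A)).map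
        f.toMonoidHom from by rw [map_centralizer_equiv]; rfl]
    exact Subgroup.map_mono h3
  · intro K hK hQ
    have hKe : (K.comap f.toMonoidHom).map f.toMonoidHom = K :=
      Subgroup.map_comap_eq_self_of_surjective f.surjective K
    have := h4 (K.comap f.toMonoidHom) (by
      rw [Nat.card_congr ((K.comap f.toMonoidHom).equivMapOfInjective f.toMonoidHom f.injective).toEquiv, hKe]
      exact hK) (by
      rw [← Subgroup.map_le_map_iff_of_injective (f := f.toMonoidHom) f.injective,
        Subgroup.map_equiv_normalizer_eq, hKe]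
      exact hQ)
    rw [← hKe, this, Subgroup.map_bot]

theorem autCent_eq : autCent = Subgroup.centralizer ({jAut} : Set (MulAut Fi22)) := by
  rw [autCent, jAut]

theorem type_m22_aut_large {G : Type*} [Group G] [Finite G] (e : Fi22 ≃* G) {D : Set G}
    (hD : e '' transClass = D) {d₁ d₂ : G} (h₁ : d₁ ∈ D) (h₂ : d₂ ∈ D) (hne : d₁ ≠ d₂)
    (hc : Commute d₁ d₂) (j : MulAut G) (hj : j = MulAut.conj (d₁ * d₂))
    (Q : Subgroup (MulAut G))
    (hQ : Q = (Cfsg.generalizedFittingSubgroup ↥(Subgroup.centralizer ({j} : Set (MulAut G)))).map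
      (Subgroup.centralizer ({j} : Set (MulAut G))).subtype) :
    Cfsg.IsLargeExtraspecial Q ∧ Nat.card Q = 2 ^ 11 ∧
      Q ≤ Subgroup.centralizer ({j} : Set (MulAut G)) ∧
      ∃ (_ : (Q.subgroupOf (Subgroup.centralizer ({j} : Set (MulAut G)))).Normal) (F : Type)
        (_ : Field F) (_ : Fintype F), Fintype.card F = 4 ∧
        Nonempty (↥(Subgroup.centralizer ({j} : Set (MulAut G))) ⧸
          Q.subgroupOf (Subgroup.centralizer ({j} : Set (MulAut G))) ≃*
            MulAut (Cfsg.PSU 4 F 2)) := by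
  haveI : Finite Fi22 := Finite.of_equiv G e.symm.toEquiv
  obtain ⟨φ, -, -, a₃⟩ := pair_frame e hD h₁ h₂ hne hc
  let f : MulAut Fi22 ≃* MulAut G := MulAut.congr φ
  have hfj : f jAut = j := by rw [hj, ← a₃, ← congr_conj]; rfl
  have hC : autCent.map f.toMonoidHom = Subgroup.centralizer ({j} : Set (MulAut G)) := by
    rw [autCent_eq, map_centralizer_equiv, Set.image_singleton, hfj]
  have hinj : Function.Injective f.toMonoidHom := f.injective
  rw [← hC] at hQ ⊢
  let ψ : autCent ≃* ↥(autCent.map f.toMonoidHom) := autCent.equivMapOfInjective _ hinj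
  have hQ' : Q = qSub.map f.toMonoidHom := by
    rw [hQ, ← CfsgLib.NonQS.gF_map_equiv ψ, fitting_autCent, Subgroup.map_map]
    conv_rhs => rw [← Subgroup.map_subgroupOf_eq_of_le qSub_le, Subgroup.map_map]
    congr 1
  subst hQ'
  obtain ⟨hn, ⟨ε⟩⟩ := autCent_quot
  have hsub : (qSub.subgroupOf autCent).map ψ.toMonoidHom =
      (qSub.map f.toMonoidHom).subgroupOf (autCent.map f.toMonoidHom) := by
    ext ⟨w, hw⟩
    simp only [Subgroup.mem_map, Subgroup.mem_subgroupOf]
    constructor
    · rintro ⟨u, hu, h⟩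
      exact ⟨u, hu, congrArg Subtype.val h⟩
    · rintro ⟨u, hu, h⟩
      exact ⟨⟨u, qSub_le hu⟩, hu, Subtype.ext h⟩
  haveI hn' : ((qSub.map f.toMonoidHom).subgroupOf (autCent.map f.toMonoidHom)).Normal :=
    hsub ▸ Subgroup.Normal.map hn _ ψ.surjective
  haveI : Fact (Nat.Prime 2) := ⟨Nat.prime_two⟩
  letI := Fintype.ofFinite (GaloisField 2 2)
  have hF : Fintype.card (GaloisField 2 2) = 4 := by
    rw [← Nat.card_eq_fintype_card, GaloisField.card 2 2 (by norm_num)]; rfl
  obtain ⟨μ⟩ := OrthLines.mulAut_psu (GaloisField 2 2) hF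
  haveI := hn
  exact ⟨large_map_equiv f qSub_large,
    by rw [← Nat.card_congr (qSub.equivMapOfInjective _ hinj).toEquiv, qSub_card],
    Subgroup.map_mono qSub_le, hn', GaloisField 2 2, inferInstance, inferInstance, hF,
    ⟨((QuotientGroup.congr _ _ ψ hsub).symm.trans ε).trans μ⟩⟩

end CfsgLib.Fi22Pres
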