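import Cfsg.Agent.Lib.Fi22Pres.TriplesChecks
import Cfsg.Agent.Lib.Fi22Pres.PairCentData

/-!
Kernel checks for the centralizer of the product of two commuting transpositions of Fi22.
-/

set_option autoImplicit false
set_option Elab.async false
set_option maxRecDepth 20000

namespace CfsgLib.Fi22Pres

open CfsgLib.CosetEnum

theorem block_pts : blockPts.length = 180 ∧ blockPts.Nodup ∧
    (blockPts.all fun z => ltB z 3510 && Nat.testBit tripleMask z) = true := by decide +kernel

/-- the listed adjacency of one point -/
noncomputable def blockAdjOK (i : ℕ) : Bool :=
  strict i fun i => (List.range 180).all fun k => strict k fun k =>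
    Nat.testBit (nth blockAdj i 0) k ==
      band (!(Nat.beq i k)) (certA.relB commMask (nth blockPts i 0) (nth blockPts k 0))

theorem block_adj : (List.range 180).all blockAdjOK = true := by decide +kernel

/-- twins: adjacent with the same further neighbours -/
noncomputable def twinB (i k : ℕ) : Bool :=
  band (Nat.testBit (nth blockAdj i 0) k)
    (Nat.beq (Nat.land (Nat.xor (nth blockAdj i 0) (nth blockAdj k 0))
      (Nat.xor (Nat.shiftLeft 1 180 - 1) (Nat.lor (Nat.shiftLeft 1 i) (Nat.shiftLeft 1 k)))) 0)

/-- twins are exactly the mates in a block -/
noncomputable def twinRow (i : ℕ) : Bool :=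
  strict i fun i => (List.range 180).all fun k => strict k fun k =>
    twinB i k == band (!(Nat.beq i k)) (Nat.beq (i / 4) (k / 4))

theorem twin_blocks : (List.range 180).all twinRow = true := by decide +kernel

/-- a member of the basis by number -/
def basisWord (i : ℕ) : List ℕ :=
  if i < 4 then sympA.getD i [] else sympB.getD (i - 4) []

theorem basis_letters : ((List.range 8).all fun i => (basisWord i).all fun g => Nat.blt g 9) = true := by
  decide +kernel

/-- two words move the base points alike -/
noncomputable def sameBase (u w : List ℕ) : Bool :=
  (levels.map Level.base).all fun b =>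
    Nat.beq (certA.run b (certA.revInv u)) (certA.run b (certA.revInv w))

theorem basis_square : ((List.range 8).all fun i =>
    sameBase (powWord (basisWord i) 2) []) = true := by decide +kernel

/-- the commutation of two members -/
noncomputable def basisPairOK (i k : ℕ) : Bool :=
  pick (Nat.beq (i + 4) k)
    (sameBase (basisWord i ++ basisWord k) (pairWord ++ (basisWord k ++ basisWord i)))
    (sameBase (basisWord i ++ basisWord k) (basisWord k ++ basisWord i))

theorem basis_pairs : ((List.range 8).all fun i => (List.range 8).all fun k =>
    pick (Nat.blt i k) (basisPairOK i k) true) = true := by decide +kernel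

/-- the listed point `i` -/
noncomputable def blockPt (i : ℕ) : ℕ := nth blockPts i 0

/-- a word fixes the pair and every block -/
noncomputable def blockFixOK (w : List ℕ) : Bool :=
  band (Nat.beq (certA.run 0 (certA.revInv w)) 0)
    (band (Nat.beq (certA.run 7 (certA.revInv w)) 7)
      ((List.range 45).all fun b => strict b fun b =>
        strict (certA.run (blockPt (4 * b)) (certA.revInv w)) fun y =>
          (List.range 4).any fun k => Nat.beq y (blockPt (4 * b + k))))

theorem basis_fix : ((List.range 8).all fun i => blockFixOK (basisWord i)) = true := by decide +kernel

theorem first_fix : blockFixOK (certA.conjWord 0 0) = true := by decide +kernel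

/-- a word stabilizes the pair and moves the blocks like a reflection moves the lines -/
noncomputable def reflOK (i : ℕ) : Bool :=
  band ((pairRefl.getD i []).all fun g => Nat.blt g 9)
    (band ([0, 7].all fun x =>
        [0, 7].any (Nat.beq (certA.run x (certA.revInv (pairRefl.getD i [])))))
      ((List.range 45).all fun b => strict b fun b =>
        strict (certA.run (blockPt (4 * b)) (certA.revInv (pairRefl.getD i []))) fun y =>
          strict (nth lineBlock (nth (lineImg.getD i []) (nth blockLine b 0) 0) 0) fun c =>
            (List.range 4).any fun k => Nat.beq y (blockPt (4 * c + k))))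

theorem refl_ok : ((List.range 6).all reflOK) = true := by decide +kernel

theorem line_block : ((List.range 45).all fun b => strict b fun b =>
    band (ltB (nth blockLine b 0) 45) (band (ltB (nth lineBlock b 0) 45)
      (band (Nat.beq (nth lineBlock (nth blockLine b 0) 0) b)
        (Nat.beq (nth blockLine (nth lineBlock b 0) 0) b)))) = true := by decide +kernel

/-- the word of the witness commutator -/
noncomputable def movedWord : List ℕ :=
  certA.conjWord 0 31 ++ basisWord 0 ++ certA.conjWord 0 31 ++ basisWord 0

theorem moved_sep : differ movedWord [] = true ∧ differ movedWord (certA.conjWord 0 0) = true ∧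
    differ movedWord (certA.conjWord 0 7) = true ∧ differ movedWord pairWord = true := by
  decide +kernel

theorem moved_member : (blockPts.any fun z => Nat.beq z 31) = true := by decide +kernel

theorem first_ne : differ (certA.conjWord 0 0) pairWord = true ∧
    differ (certA.conjWord 0 0) [] = true ∧ differ pairWord [] = true := by decide +kernel

end CfsgLib.Fi22Pres
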