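import Cfsg.Agent.Lib.Fi22Pres.TriplesCount
import Cfsg.Agent.Lib.Fi22Pres.PairCentChecks
import Cfsg.Agent.Lib.Fi22Pres.OrthLines

/-!
The action of the centralizer of a product of two commuting transpositions of Fi22 on 45 blocks.
-/

set_option autoImplicit false
set_option Elab.async false
set_option maxRecDepth 20000

namespace CfsgLib.Fi22Pres

open CfsgLib.CosetEnum Cfsg.Spor

/-- the centralizer of the pair product -/
noncomputable def pairCent : Subgroup Fi22 := Subgroup.centralizer ({pairProd} : Set Fi22)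

theorem c07 : pt0 ≠ pt7 ∧ Commute (dTr pt0) (dTr pt7) := (adj_iff pt0 pt7).mp (by decide +kernel)

theorem pairCent_mem (g : Fi22) : g ∈ pairCent ↔
    (rho g pt0 = pt0 ∧ rho g pt7 = pt7) ∨ (rho g pt0 = pt7 ∧ rho g pt7 = pt0) := by
  have himg : g * pairProd * g⁻¹ = dTr (rho g pt0) * dTr (rho g pt7) := by
    rw [← dTr_conj, ← dTr_conj, pairProd]; group
  rw [pairCent, Subgroup.mem_centralizer_singleton_iff, ← mul_inv_eq_iff_eq_mul, himg]
  constructor
  · intro e
    have hne : rho g pt0 ≠ rho g pt7 := (rho g).injective.ne c07.1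
    obtain ⟨h1, h2⟩ := pair_unique hne (by
      rw [← dTr_conj, ← dTr_conj, conj_commute_iff]; exact c07.2) e
    rcases h1 with h1 | h1 <;> rcases h2 with h2 | h2
    · exact absurd (h1.trans h2.symm) hne
    · exact Or.inl ⟨h1, h2⟩
    · exact Or.inr ⟨h1, h2⟩
    · exact absurd (h1.trans h2.symm) hne
  · rintro (⟨h1, h2⟩ | ⟨h1, h2⟩) <;> rw [h1, h2]
    · rfl
    · exact c07.2.symm.eq

theorem pairStab_le : pairStab ≤ pairCent := fun g hg => (pairCent_mem g).mpr (Or.inl hg)

theorem pairStab_card : Nat.card pairStab = 26542080 := by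
  have h := stab_chain
  have e := card_stab_tuple (rho.comp pairStab.subtype) pt62 (tripleStab.subgroupOf pairStab)
    fun g => by
      rw [Subgroup.mem_subgroupOf]
      exact ⟨fun h => h.2.2, fun h => ⟨g.2.1, g.2.2, h⟩⟩
  have hs : (Set.range fun g : pairStab => (rho.comp pairStab.subtype) g pt62) =
      {z : Fin certA.N | tripleMask.testBit z = true} := by
    ext z
    simp only [Set.mem_range, Set.mem_ofPred_eq, MonoidHom.comp_apply, Subgroup.subtype_apply]
    constructor
    · rintro ⟨g, rfl⟩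
      have := good_smul (g : Fi22) std_good
      rw [g.2.1, g.2.2] at this
      exact (common_iff _).mpr this
    · intro hz
      obtain ⟨g, g0, g7, g62⟩ := tree_reach z hz
      exact ⟨⟨g, g0, g7⟩, g62⟩
  have hle : tripleStab ≤ pairStab := fun g hg => ⟨hg.1, hg.2.1⟩
  rw [hs, mask_ncard, triple_mask_size,
    Nat.card_congr (Subgroup.subgroupOfEquivOfLe hle).toEquiv] at e
  omega

theorem pairCent_card : Nat.card pairCent = 2 * Nat.card pairStab := by
  have e := card_stab_tuple (rho.comp pairCent.subtype) pt0 (pairStab.subgroupOf pairCent) fun g => by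
    rw [Subgroup.mem_subgroupOf]
    refine ⟨fun h => h.1, fun h => ?_⟩
    rcases (pairCent_mem _).mp g.2 with h' | h'
    · exact h'
    · exact absurd (h.symm.trans h'.1) c07.1
  obtain ⟨s, s0, s7⟩ := pair_transitive c07.1.symm c07.2.symm
  have hs : (Set.range fun g : pairCent => (rho.comp pairCent.subtype) g pt0) =
      ({pt0, pt7} : Set (Fin certA.N)) := by
    ext z
    simp only [Set.mem_range, MonoidHom.comp_apply, Subgroup.subtype_apply, Set.mem_insert_iff,
      Set.mem_singleton_iff]
    constructor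
    · rintro ⟨g, rfl⟩
      rcases (pairCent_mem _).mp g.2 with h | h
      exacts [Or.inl h.1, Or.inr h.1]
    · rintro (rfl | rfl)
      · exact ⟨1, by simp⟩
      · exact ⟨⟨s, (pairCent_mem s).mpr (Or.inr ⟨s0, s7⟩)⟩, s0⟩
  rwa [hs, Set.ncard_pair c07.1,
    Nat.card_congr (Subgroup.subgroupOfEquivOfLe pairStab_le).toEquiv] at e

theorem blockPt_lt (i : Fin 180) : blockPt i < 3510 ∧ tripleMask.testBit (blockPt i) = true := by
  have h := block_pts.2.2
  simp only [List.all_eq_true, Bool.and_eq_true, ltB_iff] at h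
  refine h _ ?_
  rw [blockPt, nth_eq, List.getD_eq_getElem _ _ (by rw [block_pts.1]; exact i.2)]
  exact List.getElem_mem _

/-- the listed point as a coset -/
noncomputable def bPt (i : Fin 180) : Fin certA.N := ⟨blockPt i, (blockPt_lt i).1⟩

theorem bPt_inj : Function.Injective bPt := by
  intro i k h
  have h' : blockPt i = blockPt k := congrArg Fin.val h
  rw [blockPt, blockPt, nth_eq, nth_eq, List.getD_eq_getElem _ _ (by rw [block_pts.1]; exact i.2),
    List.getD_eq_getElem _ _ (by rw [block_pts.1]; exact k.2)] at h'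
  exact Fin.ext ((block_pts.2.1.getElem_inj_iff).mp h')

theorem bPt_range : Set.range bPt = {z : Fin certA.N | tripleMask.testBit z = true} := by
  refine Set.eq_of_subset_of_ncard_le ?_ ?_ (Set.toFinite _)
  · rintro z ⟨i, rfl⟩; exact (blockPt_lt i).2
  · rw [mask_ncard, triple_mask_size, ← Nat.card_coe_set_eq, Nat.card_range_of_injective bPt_inj,
      Nat.card_fin]

theorem common_smul (g : pairCent) {z : Fin certA.N} (hz : tripleMask.testBit z = true) :
    tripleMask.testBit (rho (g : Fi22) z : ℕ) = true := by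
  have h := good_smul (g : Fi22) ((common_iff z).mp hz)
  rcases (pairCent_mem _).mp g.2 with h' | h'
  · rw [h'.1, h'.2] at h; exact (common_iff _).mpr h
  · rw [h'.1, h'.2] at h
    obtain ⟨a, b, c, d, e, f⟩ := h
    exact (common_iff _).mpr ⟨a.symm, c, b, d.symm, f, e⟩

theorem exists_index (g : pairCent) (i : Fin 180) : ∃ k, bPt k = rho (g : Fi22) (bPt i) := by
  have : rho (g : Fi22) (bPt i) ∈ Set.range bPt := by
    rw [bPt_range]; exact common_smul g (blockPt_lt i).2
  exact this

/-- the moved index -/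
noncomputable def idxMove (g : pairCent) (i : Fin 180) : Fin 180 := (exists_index g i).choose

theorem idxMove_spec (g : pairCent) (i : Fin 180) : bPt (idxMove g i) = rho (g : Fi22) (bPt i) :=
  (exists_index g i).choose_spec

theorem idxMove_mul (g h : pairCent) (i : Fin 180) :
    idxMove (g * h) i = idxMove g (idxMove h i) := bPt_inj (by
  rw [idxMove_spec, idxMove_spec, idxMove_spec, Subgroup.coe_mul, map_mul]; rfl)

theorem idxMove_one (i : Fin 180) : idxMove 1 i = i := bPt_inj (by
  rw [idxMove_spec, OneMemClass.coe_one, map_one]; rfl)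

/-- twins in the common neighbourhood -/
def Twin (i k : Fin 180) : Prop :=
  (i ≠ k ∧ Commute (dTr (bPt i)) (dTr (bPt k))) ∧ ∀ z, z ≠ i → z ≠ k →
    (Commute (dTr (bPt i)) (dTr (bPt z)) ↔ Commute (dTr (bPt k)) (dTr (bPt z)))

theorem twin_move (g : pairCent) {i k : Fin 180} (h : Twin i k) :
    Twin (idxMove g i) (idxMove g k) := by
  have hc : ∀ a b, Commute (dTr (bPt (idxMove g a))) (dTr (bPt (idxMove g b))) ↔
      Commute (dTr (bPt a)) (dTr (bPt b)) := fun a b => by
    rw [idxMove_spec, idxMove_spec, ← dTr_conj, ← dTr_conj, conj_commute_iff]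
  have hinj : Function.Injective (idxMove g) := fun a b e => by
    have := congrArg bPt e
    rw [idxMove_spec, idxMove_spec] at this
    exact bPt_inj ((rho _).injective this)
  refine ⟨⟨hinj.ne h.1.1, (hc _ _).mpr h.1.2⟩, fun z hz1 hz2 => ?_⟩
  obtain ⟨w, rfl⟩ := (Finite.injective_iff_surjective.mp hinj) z
  rw [hc, hc]
  exact h.2 w (fun e => hz1 (by rw [e])) (fun e => hz2 (by rw [e]))

theorem adj_bit (i k : Fin 180) : (nth blockAdj i 0).testBit k = true ↔
    i ≠ k ∧ Commute (dTr (bPt i)) (dTr (bPt k)) := by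
  have h := block_adj
  simp only [List.all_eq_true, List.mem_range] at h
  have h' := h i i.2
  simp only [blockAdjOK, strict_eq, List.all_eq_true, List.mem_range] at h'
  have h'' := h' k k.2
  rw [beq_iff_eq] at h''
  rw [h'', band_eq_true, Bool.not_eq_true', ← Bool.not_eq_true, Nat.beq_eq]
  refine and_congr (by rw [Ne, Fin.ext_iff]) ?_
  exact graph.commute_iff repWords (bPt i) (bPt k)

theorem twin_iff (i k : Fin 180) : twinB i k = true ↔ Twin i k := by
  rw [twinB, band_eq_true, adj_bit, Twin, Nat.beq_eq]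
  refine and_congr Iff.rfl ⟨fun h z hz1 hz2 => ?_, fun h => Nat.eq_of_testBit_eq fun z => ?_⟩
  · have h' := congrArg (fun x => Nat.testBit x z) h
    change Nat.testBit ((_ ^^^ _) &&& ((1 <<< 180 - 1) ^^^ (1 <<< (i : ℕ) ||| 1 <<< (k : ℕ)))) _ = _ at h'
    simp only [Nat.testBit_and, Nat.testBit_xor, Nat.testBit_or, Nat.one_shiftLeft,
      Nat.testBit_two_pow, Nat.testBit_two_pow_sub_one, Nat.zero_testBit] at h'
    have n1 : ¬ (i : ℕ) = z := fun e => hz1 (Fin.ext e.symm)
    have n2 : ¬ (k : ℕ) = z := fun e => hz2 (Fin.ext e.symm)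
    simp [n1, n2, z.2] at h'
    have e1 := adj_bit i z
    have e2 := adj_bit k z
    rw [h'] at e1
    rw [e2] at e1
    exact ⟨fun hc => (e1.mpr ⟨hz1.symm, hc⟩).2, fun hc => (e1.mp ⟨hz2.symm, hc⟩).2⟩
  · show Nat.testBit ((_ ^^^ _) &&& ((1 <<< 180 - 1) ^^^ (1 <<< (i : ℕ) ||| 1 <<< (k : ℕ)))) _ = _
    simp only [Nat.testBit_and, Nat.testBit_xor, Nat.testBit_or, Nat.one_shiftLeft,
      Nat.testBit_two_pow, Nat.testBit_two_pow_sub_one, Nat.zero_testBit]
    by_cases hz : z < 180
    · by_cases n1 : (i : ℕ) = z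
      · simp [n1, hz]
      by_cases n2 : (k : ℕ) = z
      · simp [n2, hz]
      have hh := h ⟨z, hz⟩ (fun e => n1 (by rw [← e])) (fun e => n2 (by rw [← e]))
      have e1 := adj_bit i ⟨z, hz⟩
      have e2 := adj_bit k ⟨z, hz⟩
      have : (nth blockAdj i 0).testBit z = (nth blockAdj k 0).testBit z := by
        rw [Bool.eq_iff_iff]
        refine e1.trans (Iff.trans ?_ e2.symm)
        exact ⟨fun h3 => ⟨fun e => n2 (by rw [e]), hh.mp h3.2⟩,
          fun h3 => ⟨fun e => n1 (by rw [e]), hh.mpr h3.2⟩⟩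
      simp [this]
    · have n1 : ¬ (i : ℕ) = z := fun e => hz (e ▸ i.2)
      have n2 : ¬ (k : ℕ) = z := fun e => hz (e ▸ k.2)
      simp [hz, n1, n2]

theorem twin_same (i k : Fin 180) : Twin i k ↔ i ≠ k ∧ (i : ℕ) / 4 = (k : ℕ) / 4 := by
  have h := twin_blocks
  simp only [List.all_eq_true, List.mem_range] at h
  have h' := h i i.2
  simp only [twinRow, strict_eq, List.all_eq_true, List.mem_range] at h'
  have h'' := h' k k.2
  rw [beq_iff_eq] at h''
  rw [← twin_iff, h'', band_eq_true, Bool.not_eq_true', ← Bool.not_eq_true, Nat.beq_eq, Nat.beq_eq,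
    Ne, Fin.ext_iff]

/-- the block of an index -/
def blockOf (i : Fin 180) : Fin 45 := ⟨(i : ℕ) / 4, by omega⟩

/-- the first index of a block -/
def blockHead (b : Fin 45) : Fin 180 := ⟨4 * (b : ℕ), by omega⟩

theorem blockOf_head (b : Fin 45) : blockOf (blockHead b) = b := Fin.ext (by
  show 4 * (b : ℕ) / 4 = b; omega)

theorem block_move (g : pairCent) {i k : Fin 180} (h : blockOf i = blockOf k) :
    blockOf (idxMove g i) = blockOf (idxMove g k) := by
  by_cases e : i = k
  · rw [e]
  have ht := twin_move g ((twin_same i k).mpr ⟨e, congrArg Fin.val h⟩)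
  exact Fin.ext ((twin_same _ _).mp ht).2

/-- the action on the blocks -/
noncomputable def psi : pairCent →* Equiv.Perm (Fin 45) :=
  MonoidHom.toHomPerm
    { toFun := fun g b => blockOf (idxMove g (blockHead b))
      map_one' := funext fun b => by
        show blockOf (idxMove 1 (blockHead b)) = b
        rw [idxMove_one, blockOf_head]
      map_mul' := fun g h => funext fun b => by
        show blockOf (idxMove (g * h) (blockHead b)) =
          blockOf (idxMove g (blockHead (blockOf (idxMove h (blockHead b)))))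
        rw [idxMove_mul]
        exact block_move g (blockOf_head _).symm }

theorem psi_apply (g : pairCent) (b : Fin 45) : psi g b = blockOf (idxMove g (blockHead b)) := rfl

theorem psi_of_run {w : List ℕ} (hw : ∀ g ∈ w, g < 9) (hm : prodW gen w ∈ pairCent) (b c : Fin 45)
    (h : ((List.range 4).any fun k => Nat.beq (certA.run (blockPt (4 * b)) (certA.revInv w))
      (blockPt (4 * c + k))) = true) : psi ⟨prodW gen w, hm⟩ b = c := by
  simp only [List.any_eq_true, List.mem_range] at h
  obtain ⟨k, hk, e⟩ := h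
  have hi : 4 * (c : ℕ) + k < 180 := by omega
  have : idxMove ⟨prodW gen w, hm⟩ (blockHead b) = ⟨4 * (c : ℕ) + k, hi⟩ := bPt_inj (by
    rw [idxMove_spec]
    exact Fin.ext ((setupA.rho_prodW hw _).trans (Nat.eq_of_beq_eq_true e)))
  rw [psi_apply, this]
  exact Fin.ext (by show (4 * (c : ℕ) + k) / 4 = c; omega)

theorem refl_word_spec (i : Fin 6) : (∀ g ∈ pairRefl.getD i [], g < 9) ∧
    ∃ hm : prodW gen (pairRefl.getD i []) ∈ pairCent, ∀ b : Fin 45,
      psi ⟨_, hm⟩ b = ⟨nth lineBlock (OrthLines.imgFn i ⟨nth blockLine b 0 % 45,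
        Nat.mod_lt _ (by norm_num)⟩) 0 % 45, Nat.mod_lt _ (by norm_num)⟩ := by
  have h := refl_ok
  simp only [List.all_eq_true, List.mem_range] at h
  have h' := h i i.2
  simp only [reflOK, band_eq_true, List.all_eq_true, List.mem_range, Nat.blt_eq] at h'
  obtain ⟨hw, hpair, hblk⟩ := h'
  have hm : prodW gen (pairRefl.getD i []) ∈ pairCent := by
    have a := hpair 0 (by simp)
    have b := hpair 7 (by simp)
    simp only [List.any_cons, List.any_nil, Bool.or_false, Bool.or_eq_true, Nat.beq_eq] at a b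
    have r0 := setupA.rho_prodW hw pt0
    have r7 := setupA.rho_prodW hw pt7
    have f0 : ∀ z : Fin certA.N, (z : ℕ) = 0 → z = pt0 := fun z hz => Fin.ext hz
    have f7 : ∀ z : Fin certA.N, (z : ℕ) = 7 → z = pt7 := fun z hz => Fin.ext hz
    have hne := (rho (prodW gen (pairRefl.getD i []))).injective.ne c07.1
    rw [pairCent_mem]
    rcases a with a | a <;> rcases b with b | b
    · exact absurd ((f0 _ (r0.trans a)).trans (f0 _ (r7.trans b)).symm) hne
    · exact Or.inl ⟨f0 _ (r0.trans a), f7 _ (r7.trans b)⟩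
    · exact Or.inr ⟨f7 _ (r0.trans a), f0 _ (r7.trans b)⟩
    · exact absurd ((f7 _ (r0.trans a)).trans (f7 _ (r7.trans b)).symm) hne
  refine ⟨hw, hm, fun b => ?_⟩
  have h2 := hblk b b.2
  simp only [strict_eq] at h2
  have hl := line_block
  simp only [List.all_eq_true, List.mem_range, strict_eq, band_eq_true, ltB_iff] at hl
  have hb1 := (hl b b.2).1
  refine psi_of_run hw hm b _ ?_
  have hlt : ∀ l : Fin 45, nth (lineImg.getD i []) (l : ℕ) 0 % 45 = (OrthLines.imgFn i l : ℕ) :=
    fun l => by rw [nth_eq]; rfl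
  have e1 : nth blockLine b 0 % 45 = nth blockLine b 0 := Nat.mod_eq_of_lt hb1
  have e2 : nth (lineImg.getD i []) (nth blockLine b 0) 0 < 45 := by
    have := img_lt i ⟨_, hb1⟩
    exact this
  have e3 := (hl _ e2).2.1
  show ((List.range 4).any fun k => Nat.beq _ (blockPt
    (4 * (nth lineBlock ((OrthLines.imgFn i ⟨nth blockLine b 0 % 45, _⟩ : Fin 45) : ℕ) 0 % 45) + k))) = true
  rw [← hlt, show ((⟨nth blockLine b 0 % 45, Nat.mod_lt _ (by norm_num)⟩ : Fin 45) : ℕ) =
    nth blockLine b 0 from e1, Nat.mod_eq_of_lt e2, Nat.mod_eq_of_lt e3]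
  exact h2
where
  img_lt : ∀ (i : Fin 6) (l : Fin 45), nth (lineImg.getD i []) (l : ℕ) 0 < 45 := by decide +kernel

end CfsgLib.Fi22Pres
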