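import Cfsg.Agent.Lib.Extraspecial.Models
import Cfsg.Agent.Lib.Fi22Pres.PairBlocks

/-!
The normal 2-subgroup of the centralizer of a product of two commuting transpositions of Fi22.
-/

set_option autoImplicit false
set_option Elab.async false

namespace CfsgLib.Fi22Pres

open CfsgLib.CosetEnum Cfsg.Spor

/-- a power of an involution -/
def zPow {G : Type*} [Group G] (x : G) (t : ZMod 2) : G := if t = 0 then 1 else x

theorem zmod2_cases (t : ZMod 2) : t = 0 ∨ t = 1 := by revert t; decide

theorem zPow_add {G : Type*} [Group G] {x : G} (hx : x * x = 1) (s t : ZMod 2) :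
    zPow x (s + t) = zPow x s * zPow x t := by
  rcases zmod2_cases s with rfl | rfl <;> rcases zmod2_cases t with rfl | rfl <;>
    simp [zPow, hx, show (1 : ZMod 2) + 1 = 0 from rfl]

theorem zPow_comm {G : Type*} [Group G] {x y : G} (h : Commute x y) (s t : ZMod 2) :
    Commute (zPow x s) (zPow y t) := by
  unfold zPow; split <;> split <;> simp [h, Commute.one_left, Commute.one_right]

/-- A symplectic basis of involutions with commutator `z`. -/
structure SympBasis {G : Type*} [Group G] (z : G) (a b : Fin 4 → G) : Prop where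
  zsq : z * z = 1
  asq : ∀ i, a i * a i = 1
  bsq : ∀ i, b i * b i = 1
  az : ∀ i, Commute (a i) z
  bz : ∀ i, Commute (b i) z
  aa : ∀ i k, i ≠ k → Commute (a i) (a k)
  bb : ∀ i k, i ≠ k → Commute (b i) (b k)
  ab : ∀ i k, i ≠ k → Commute (a i) (b k)
  pair : ∀ i, a i * b i = z * (b i * a i)

namespace SympBasis

variable {G : Type*} [Group G] {z : G} {a b : Fin 4 → G}

/-- one plane -/
def plane (a b : Fin 4 → G) (i : Fin 4) (u : ZMod 2 × ZMod 2) : G := zPow (b i) u.2 * zPow (a i) u.1

theorem plane_comm (h : SympBasis z a b) {i k : Fin 4} (hik : i ≠ k) (u w : ZMod 2 × ZMod 2) :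
    Commute (plane a b i u) (plane a b k w) := by
  refine Commute.mul_left (Commute.mul_right ?_ ?_) (Commute.mul_right ?_ ?_) <;> apply zPow_comm
  · exact h.bb i k hik
  · exact (h.ab k i hik.symm).symm
  · exact h.ab i k hik
  · exact h.aa i k hik

theorem plane_z (h : SympBasis z a b) (i : Fin 4) (u : ZMod 2 × ZMod 2) (t : ZMod 2) :
    Commute (plane a b i u) (zPow z t) :=
  Commute.mul_left (zPow_comm (h.bz i) _ _) (zPow_comm (h.az i) _ _)

theorem plane_mul (h : SympBasis z a b) (i : Fin 4) (u w : ZMod 2 × ZMod 2) :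
    plane a b i u * plane a b i w = zPow z (u.1 * w.2) * plane a b i (u + w) := by
  have key : zPow (a i) u.1 * zPow (b i) w.2 =
      zPow z (u.1 * w.2) * (zPow (b i) w.2 * zPow (a i) u.1) := by
    rcases zmod2_cases u.1 with e | e <;> rcases zmod2_cases w.2 with e' | e' <;>
      rw [e, e'] <;> simp [zPow, h.pair i]
  have hz : Commute (zPow (b i) u.2) (zPow z (u.1 * w.2)) := zPow_comm (h.bz i) _ _
  rw [plane, plane, plane, Prod.fst_add, Prod.snd_add, zPow_add (h.asq i), zPow_add (h.bsq i)]
  calc zPow (b i) u.2 * zPow (a i) u.1 * (zPow (b i) w.2 * zPow (a i) w.1)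
      = zPow (b i) u.2 * (zPow (a i) u.1 * zPow (b i) w.2) * zPow (a i) w.1 := by group
    _ = zPow (b i) u.2 * zPow z (u.1 * w.2) * (zPow (b i) w.2 * zPow (a i) u.1) *
          zPow (a i) w.1 := by rw [key]; group
    _ = zPow z (u.1 * w.2) * zPow (b i) u.2 * (zPow (b i) w.2 * zPow (a i) u.1) *
          zPow (a i) w.1 := by rw [hz.eq]
    _ = _ := by group

/-- the value on a model element -/
def toFun (z : G) (a b : Fin 4 → G) (x : CfsgLib.Extraspecial.Model (n := 4) fun _ => 0) : G :=
  zPow z x.a * (plane a b 0 (x.v 0) * plane a b 1 (x.v 1) * (plane a b 2 (x.v 2) * plane a b 3 (x.v 3)))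

theorem cocycle_four (u w : Fin 4 → ZMod 2 × ZMod 2) :
    CfsgLib.Extraspecial.cocycle (fun _ => 0) u w =
      (u 0).1 * (w 0).2 + (u 1).1 * (w 1).2 + ((u 2).1 * (w 2).2 + (u 3).1 * (w 3).2) := by
  simp [CfsgLib.Extraspecial.cocycle, CfsgLib.Extraspecial.planeForm, Fin.sum_univ_four, add_assoc]

/-- the homomorphism from the model -/
def hom (h : SympBasis z a b) : CfsgLib.Extraspecial.Model (n := 4) (fun _ => (0 : ZMod 2)) →* G :=
  MonoidHom.mk' (toFun z a b) fun x y => by
    have C := @plane_comm _ _ _ _ _ h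
    have Z := @plane_z _ _ _ _ _ h
    simp only [toFun, CfsgLib.Extraspecial.Model.mul_v, CfsgLib.Extraspecial.Model.mul_a,
      Pi.add_apply, cocycle_four, zPow_add h.zsq]
    set p := fun i => plane a b i (x.v i)
    set q := fun i => plane a b i (y.v i)
    set k := fun i : Fin 4 => zPow z ((x.v i).1 * (y.v i).2)
    set r := fun i => plane a b i (x.v i + y.v i)
    have hpq : ∀ i, p i * q i = k i * r i := fun i => plane_mul h i _ _
    have hk : ∀ i, ∀ g, (∀ t, Commute (zPow z t) g) → Commute (k i) g := fun i g hg => hg _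
    have zc : ∀ (i : Fin 4) (t : ZMod 2), Commute (zPow z t) (r i) := fun i t => (Z i _ t).symm
    have h01 : p 0 * p 1 * (q 0 * q 1) = k 0 * k 1 * (r 0 * r 1) := by
      rw [(C (by decide) (x.v 1) (y.v 0)).mul_mul_mul_comm, hpq, hpq,
        (zc 0 _).symm.mul_mul_mul_comm]
    have h23 : p 2 * p 3 * (q 2 * q 3) = k 2 * k 3 * (r 2 * r 3) := by
      rw [(C (by decide) (x.v 3) (y.v 2)).mul_mul_mul_comm, hpq, hpq,
        (zc 2 _).symm.mul_mul_mul_comm]
    have c1 : Commute (p 2 * p 3) (q 0 * q 1) :=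
      Commute.mul_left ((C (by decide) _ _).mul_right (C (by decide) _ _))
        ((C (by decide) _ _).mul_right (C (by decide) _ _))
    have c2 : Commute (r 0 * r 1) (k 2 * k 3) :=
      Commute.mul_left ((zc 0 _).symm.mul_right (zc 0 _).symm)
        ((zc 1 _).symm.mul_right (zc 1 _).symm)
    have c3 : Commute (p 0 * p 1 * (p 2 * p 3)) (zPow z y.a) :=
      Commute.mul_left (Commute.mul_left (Z 0 _ _) (Z 1 _ _)) (Commute.mul_left (Z 2 _ _) (Z 3 _ _))
    show zPow z x.a * zPow z y.a * (k 0 * k 1 * (k 2 * k 3)) * (r 0 * r 1 * (r 2 * r 3)) =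
      zPow z x.a * (p 0 * p 1 * (p 2 * p 3)) * (zPow z y.a * (q 0 * q 1 * (q 2 * q 3)))
    rw [c3.mul_mul_mul_comm, c1.mul_mul_mul_comm, h01, h23, c2.mul_mul_mul_comm, mul_assoc]

theorem hom_apply (h : SympBasis z a b) (x) : h.hom x = toFun z a b x := rfl

theorem hom_injective (h : SympBasis z a b) (hz : z ≠ 1) : Function.Injective h.hom := by
  refine (injective_iff_map_eq_one h.hom).2 fun x hx => ?_
  have key : ∀ y : CfsgLib.Extraspecial.Model (n := 4) (fun _ => (0 : ZMod 2)), y.v = 0 →
      h.hom y = 1 → y = 1 := by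
    intro y hy h1
    refine CfsgLib.Extraspecial.Model.ext hy ?_
    rcases zmod2_cases y.a with e | e
    · exact e
    · exfalso; apply hz
      rw [hom_apply, toFun, e, hy] at h1
      simpa [plane, zPow] using h1
  refine key x ((CfsgLib.Extraspecial.Model.mem_center_iff x).mp
    (Subgroup.mem_center_iff.mpr fun y => ?_)) hx
  rw [← mul_inv_eq_iff_eq_mul, ← mul_inv_eq_one]
  refine key _ ?_ (by rw [map_mul, map_mul, map_mul, map_inv, map_inv, hx]; group)
  simp only [CfsgLib.Extraspecial.Model.mul_v]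
  show y.v + x.v + y.v + x.v = 0
  rw [add_add_add_comm' ]
where
  add_add_add_comm' {v w : Fin 4 → ZMod 2 × ZMod 2} : v + w + v + w = 0 := by
    rw [add_assoc]; exact CfsgLib.Extraspecial.neg_eq_two _

end SympBasis

/-- first halves of the basis -/
noncomputable def eA (i : Fin 4) : Fi22 := prodW gen (basisWord i)

/-- second halves of the basis -/
noncomputable def eB (i : Fin 4) : Fi22 := prodW gen (basisWord ((i : ℕ) + 4))

theorem basis_lt {i : ℕ} (hi : i < 8) : ∀ g ∈ basisWord i, g < 9 := by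
  have h := basis_letters
  simp only [List.all_eq_true, List.mem_range, Nat.blt_eq] at h
  exact h i hi

theorem eq_of_sameBase {u w : List ℕ} (hu : ∀ g ∈ u, g < 9) (hw : ∀ g ∈ w, g < 9)
    (h : sameBase u w = true) : prodW gen u = prodW gen w := by
  refine setupA.base_injective chain_ok (chain_size.trans card_faithful.1.symm) ?_
  simp only [sameBase, List.all_eq_true, List.mem_map, forall_exists_index, and_imp,
    forall_apply_eq_imp_iff₂] at h
  simp only [baseImages, chainBases, List.map_map]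
  refine List.map_congr_left fun l hl => ?_
  simp only [Function.comp_apply]
  split
  · rename_i hb
    simp only [Option.map_some, Option.some.injEq]
    exact Fin.ext ((setupA.rho_prodW hu ⟨l.base, hb⟩).trans ((Nat.eq_of_beq_eq_true (h l hl)).trans
      (setupA.rho_prodW hw ⟨l.base, hb⟩).symm))
  · rfl

theorem basis_pair {i k : ℕ} (hik : i < k) (hk : k < 8) :
    prodW gen (basisWord i) * prodW gen (basisWord k) =
      if i + 4 = k then pairProd * (prodW gen (basisWord k) * prodW gen (basisWord i))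
      else prodW gen (basisWord k) * prodW gen (basisWord i) := by
  have h := basis_pairs
  simp only [List.all_eq_true, List.mem_range] at h
  have h' := h i (by omega) k hk
  rw [show Nat.blt i k = true by rw [Nat.blt_eq]; exact hik, pick_true, basisPairOK] at h'
  have l2 : ∀ g ∈ basisWord i ++ basisWord k, g < 9 := fun g hg =>
    (List.mem_append.mp hg).elim (basis_lt (by omega) g) (basis_lt hk g)
  have l3 : ∀ g ∈ basisWord k ++ basisWord i, g < 9 := fun g hg =>
    (List.mem_append.mp hg).elim (basis_lt hk g) (basis_lt (by omega) g)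
  by_cases e : i + 4 = k
  · rw [if_pos e]
    rw [show Nat.beq (i + 4) k = true by rw [Nat.beq_eq]; exact e, pick_true] at h'
    have := eq_of_sameBase l2 (fun g hg => (List.mem_append.mp hg).elim (pairWord_spec.1 g) (l3 g)) h'
    rwa [prodW_append, prodW_append, prodW_append, pairWord_spec.2] at this
  · rw [if_neg e]
    rw [show Nat.beq (i + 4) k = false by
      rw [Bool.eq_false_iff, Ne, Nat.beq_eq]; exact e, pick_false] at h'
    have := eq_of_sameBase l2 l3 h'
    rwa [prodW_append, prodW_append] at this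

theorem basis_sq {i : ℕ} (hi : i < 8) : prodW gen (basisWord i) * prodW gen (basisWord i) = 1 := by
  have h := basis_square
  simp only [List.all_eq_true, List.mem_range] at h
  have := eq_of_sameBase (w := []) (fun g hg => ?_) (by simp) (h i hi)
  · rwa [prodW_powWord, pow_two, prodW_nil] at this
  · simp only [powWord, List.replicate_succ, List.replicate_zero, List.flatten_cons,
      List.flatten_nil, List.append_nil, List.mem_append] at hg
    rcases hg with hg | hg <;> exact basis_lt hi g hg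

theorem block_fix_spec {w : List ℕ} (hw : ∀ g ∈ w, g < 9) (h : blockFixOK w = true) :
    ∃ hm : prodW gen w ∈ pairCent,
      (rho (prodW gen w) pt0 = pt0 ∧ rho (prodW gen w) pt7 = pt7) ∧
        psi ⟨prodW gen w, hm⟩ = 1 := by
  simp only [blockFixOK, band_eq_true, List.all_eq_true, List.mem_range, strict_eq] at h
  obtain ⟨h0, h7, hb⟩ := h
  have f0 : rho (prodW gen w) pt0 = pt0 :=
    Fin.ext ((setupA.rho_prodW hw pt0).trans (Nat.eq_of_beq_eq_true h0))
  have f7 : rho (prodW gen w) pt7 = pt7 :=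
    Fin.ext ((setupA.rho_prodW hw pt7).trans (Nat.eq_of_beq_eq_true h7))
  refine ⟨(pairCent_mem _).mpr (Or.inl ⟨f0, f7⟩), ⟨f0, f7⟩, Equiv.ext fun b => ?_⟩
  rw [Equiv.Perm.one_apply]
  exact psi_of_run hw _ b b (hb b b.2)

theorem basis_stab {i : ℕ} (hi : i < 8) :
    ∃ hm : prodW gen (basisWord i) ∈ pairCent, prodW gen (basisWord i) ∈ pairStab ∧
      psi ⟨_, hm⟩ = 1 := by
  have h := basis_fix
  simp only [List.all_eq_true, List.mem_range] at h
  obtain ⟨hm, hs, hp⟩ := block_fix_spec (basis_lt hi) (h i hi)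
  exact ⟨hm, hs, hp⟩

theorem stab_comm {g : Fi22} (hg : g ∈ pairStab) : Commute g (dTr pt0) ∧ Commute g (dTr pt7) := by
  constructor
  · exact mul_inv_eq_iff_eq_mul.mp (by rw [dTr_conj, hg.1])
  · exact mul_inv_eq_iff_eq_mul.mp (by rw [dTr_conj, hg.2])

theorem sympBasis : SympBasis pairProd eA eB := by
  have hz : ∀ i, i < 8 → Commute (prodW gen (basisWord i)) pairProd := fun i hi => by
    obtain ⟨h0, h7⟩ := stab_comm (basis_stab hi).2.1
    exact h0.mul_right h7
  have hc : ∀ i k, i < 8 → k < 8 → i + 4 ≠ k → k + 4 ≠ i → i ≠ k →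
      Commute (prodW gen (basisWord i)) (prodW gen (basisWord k)) := by
    intro i k hi hk e1 e2 e3
    rcases lt_or_gt_of_ne e3 with h | h
    · exact (basis_pair h hk).trans (if_neg e1)
    · exact ((basis_pair h hi).trans (if_neg e2)).symm
  refine ⟨?_, fun i => basis_sq (by omega), fun i => basis_sq (by omega), fun i => hz _ (by omega),
    fun i => hz _ (by omega), fun i k h => ?_, fun i k h => ?_, fun i k h => ?_, fun i => ?_⟩
  · rw [pairProd, c07.2.symm.mul_mul_mul_comm, dTr_sq, dTr_sq, one_mul]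
  · have := Fin.val_ne_of_ne h; exact hc _ _ (by omega) (by omega) (by omega) (by omega) (by omega)
  · have := Fin.val_ne_of_ne h; exact hc _ _ (by omega) (by omega) (by omega) (by omega) (by omega)
  · have := Fin.val_ne_of_ne h; exact hc _ _ (by omega) (by omega) (by omega) (by omega) (by omega)
  · exact (basis_pair (show (i : ℕ) < i + 4 by omega) (by omega)).trans (if_pos rfl)

theorem basic_ne : dTr pt0 ≠ pairProd ∧ dTr pt0 ≠ 1 ∧ pairProd ≠ 1 := by
  obtain ⟨h1, h2, h3⟩ := first_ne
  have e0 : prodW gen (certA.conjWord 0 0) = dTr pt0 := (dTr_word pt0).2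
  refine ⟨?_, ?_, ?_⟩
  · rw [← e0, ← pairWord_spec.2]; exact differ_spec (dTr_word pt0).1 pairWord_spec.1 h1
  · rw [← e0, ← prodW_nil (gen := gen)]; exact differ_spec (dTr_word pt0).1 (by simp) h2
  · rw [← pairWord_spec.2, ← prodW_nil (gen := gen)]; exact differ_spec pairWord_spec.1 (by simp) h3

/-- the model of the extraspecial part -/
abbrev XModel : Type := CfsgLib.Extraspecial.Model (n := 4) (fun _ => (0 : ZMod 2))

theorem hom_mem_stab (x : XModel) : ∃ hm : sympBasis.hom x ∈ pairCent,
    sympBasis.hom x ∈ pairStab ∧ psi ⟨sympBasis.hom x, hm⟩ = 1 := by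
  let S : Subgroup Fi22 := (psi.ker).map pairCent.subtype ⊓ pairStab
  suffices hS : sympBasis.hom x ∈ S by
    obtain ⟨⟨y, hy, e⟩, hst⟩ := hS
    refine ⟨e ▸ y.2, hst, ?_⟩
    have hy' : psi y = 1 := hy
    convert hy' using 2
    exact Subtype.ext e.symm
  have hb : ∀ i < 8, prodW gen (basisWord i) ∈ S := fun i hi => by
    obtain ⟨hm, hs, hp⟩ := basis_stab hi
    exact ⟨⟨⟨_, hm⟩, hp, rfl⟩, hs⟩
  have hz : ∀ {g : Fi22}, g ∈ S → ∀ t, zPow g t ∈ S := fun {g} hg t => by
    unfold zPow; split; exacts [one_mem _, hg]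
  have h0 : dTr pt0 ∈ S ∧ pairProd ∈ S := by
    have a0 : prodW gen (certA.conjWord 0 0) = dTr pt0 := (dTr_word pt0).2
    obtain ⟨hm, hs, hp⟩ := block_fix_spec (dTr_word pt0).1 first_fix
    obtain ⟨hm', hs'⟩ : pairProd ∈ pairCent ∧ pairProd ∈ pairStab := by
      have : ∀ u : Fin certA.N, Commute (dTr u) pairProd → rho pairProd u = u := fun u hu =>
        rho_of_gen hu
      exact ⟨Subgroup.mem_centralizer_singleton_iff.mpr rfl,
        this _ ((Commute.refl _).mul_right c07.2), this _ (c07.2.symm.mul_right (Commute.refl _))⟩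
    refine ⟨⟨⟨⟨_, hm⟩, hp, a0⟩, a0 ▸ hs⟩, ⟨⟨⟨_, hm'⟩, ?_, rfl⟩, hs'⟩⟩
    show psi ⟨pairProd, hm'⟩ = 1
    refine Equiv.ext fun b => ?_
    rw [psi_apply, Equiv.Perm.one_apply]
    have hz' : ∀ z : Fin certA.N, tripleMask.testBit z = true → rho pairProd z = z := fun z hz => by
      obtain ⟨-, -, -, -, hc0, hc7⟩ := (common_iff z).mp hz
      exact rho_of_gen (hc0.symm.mul_right hc7.symm)
    rw [show idxMove ⟨pairProd, hm'⟩ (blockHead b) = blockHead b from bPt_inj (by
      rw [idxMove_spec]; exact hz' _ (blockPt_lt _).2), blockOf_head]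
  rw [SympBasis.hom_apply, SympBasis.toFun]
  have hpl : ∀ (i : Fin 4) (u : ZMod 2 × ZMod 2), SympBasis.plane eA eB i u ∈ S := fun i u =>
    mul_mem (hz (hb _ (by omega)) _) (hz (hb _ (by omega)) _)
  exact mul_mem (hz h0.2 _) (mul_mem (mul_mem (hpl _ _) (hpl _ _)) (mul_mem (hpl _ _) (hpl _ _)))

theorem dTr_not_range : ∀ x : XModel, sympBasis.hom x ≠ dTr pt0 := by
  intro x hx
  have hinj := sympBasis.hom_injective basic_ne.2.2
  have hv : x.v = 0 := (CfsgLib.Extraspecial.Model.mem_center_iff x).mp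
    (Subgroup.mem_center_iff.mpr fun y => hinj (by
      rw [map_mul, map_mul, hx]
      exact ((stab_comm (hom_mem_stab y).2.1).1).eq))
  have hj : sympBasis.hom x = zPow pairProd x.a := by
    rw [SympBasis.hom_apply, SympBasis.toFun, hv]; simp [SympBasis.plane, zPow]
  rcases zmod2_cases x.a with e | e <;> rw [hj, e] at hx <;> simp [zPow] at hx
  · exact basic_ne.2.1 hx.symm
  · exact basic_ne.1 hx.symm

/-- the power map of the first transposition -/
noncomputable def firstPow : Multiplicative (ZMod 2) →* Fi22 :=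
  MonoidHom.mk' (fun c => zPow (dTr pt0) c.toAdd) fun c d => zPow_add (dTr_sq pt0) _ _

/-- the product map -/
noncomputable def exHom : Multiplicative (ZMod 2) × XModel →* Fi22 :=
  firstPow.noncommCoprod sympBasis.hom fun c x => by
    show Commute (zPow _ _) _
    unfold zPow; split
    · exact Commute.one_left _
    · exact (stab_comm (hom_mem_stab x).2.1).1.symm

theorem exHom_apply (c : Multiplicative (ZMod 2)) (x : XModel) :
    exHom (c, x) = zPow (dTr pt0) c.toAdd * sympBasis.hom x := rfl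

theorem exHom_injective : Function.Injective exHom := by
  refine (injective_iff_map_eq_one exHom).2 fun ⟨c, x⟩ h => ?_
  rw [exHom_apply] at h
  rcases zmod2_cases c.toAdd with e | e <;> rw [e] at h <;> simp [zPow] at h
  · have := sympBasis.hom_injective basic_ne.2.2 (h.trans (map_one _).symm)
    exact Prod.ext e this
  · exfalso
    exact dTr_not_range x ((eq_inv_of_mul_eq_one_right h).trans (dTr_inv pt0))

/-- the normal 2-subgroup -/
noncomputable def exPart : Subgroup Fi22 := exHom.range

theorem exPart_card : Nat.card exPart = 2 ^ 10 := by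
  rw [exPart, ← Nat.card_congr (MonoidHom.ofInjective exHom_injective).toEquiv, Nat.card_prod,
    Nat.card_congr Multiplicative.toAdd, Nat.card_zmod, CfsgLib.Extraspecial.Model.card]
  norm_num

theorem exPart_mem {g : Fi22} (hg : g ∈ exPart) :
    ∃ hm : g ∈ pairCent, g ∈ pairStab ∧ psi ⟨g, hm⟩ = 1 := by
  obtain ⟨⟨c, x⟩, rfl⟩ := hg
  obtain ⟨hm, hs, hp⟩ := hom_mem_stab x
  have a0 : prodW gen (certA.conjWord 0 0) = dTr pt0 := (dTr_word pt0).2
  obtain ⟨hm0, hs0, hp0⟩ := block_fix_spec (dTr_word pt0).1 first_fix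
  have hm0' : dTr pt0 ∈ pairCent := a0 ▸ hm0
  have hp0' : psi ⟨dTr pt0, hm0'⟩ = 1 := by
    rw [← hp0]; congr 1; exact Subtype.ext a0.symm
  have hs0' : dTr pt0 ∈ pairStab := a0 ▸ hs0
  rw [exHom_apply]
  rcases zmod2_cases c.toAdd with e | e <;> rw [e]
  · simp only [zPow, if_true, one_mul]; exact ⟨hm, hs, hp⟩
  · simp only [zPow, one_ne_zero, if_false]
    refine ⟨mul_mem hm0' hm, mul_mem hs0' hs, ?_⟩
    rw [show (⟨dTr pt0 * sympBasis.hom x, mul_mem hm0' hm⟩ : pairCent) =
      ⟨_, hm0'⟩ * ⟨_, hm⟩ from rfl, map_mul, hp0', hp, mul_one]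

end CfsgLib.Fi22Pres
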