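import Cfsg.Agent.Lib.CosetEnum.SwapSearch

/-!
Decision tree for involutive automorphisms of the commuting graph moving every coset to a neighbour.
-/

set_option autoImplicit false
set_option linter.style.longLine false

namespace CfsgLib.Fi22Pres
open CfsgLib.CosetEnum

/-- branch 0 -/
def swapBranch0 : SwapTree := (.node 2 (.kid 231 (.node 24 (.kid 454 (.node 54 .nil) .nil)) (.kid 280 (.node 20 (.kid 590 (.node 62 .nil) .nil)) (.kid 292 (.node 28 (.kid 152 (.node 6 .nil) .nil)) (.kid 353 (.node 28 (.kid 164 (.node 5 .nil) .nil)) (.kid 369 (.node 20 (.kid 182 (.node 62 .nil) .nil)) (.kid 472 (.node 28 (.kid 152 (.node 6 .nil) .nil)) (.kid 554 (.node 24 (.kid 113 (.node 54 .nil) .nil)) (.kid 687 (.node 28 (.kid 164 (.node 5 .nil) .nil)) .nil)))))))))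

/-- branch 1 -/
def swapBranch1 : SwapTree := (.node 20 (.kid 142 (.node 33 (.kid 56 (.node 27 .nil) .nil)) (.kid 281 (.node 33 (.kid 109 (.node 8 .nil) .nil)) (.kid 288 (.node 28 (.kid 117 (.node 11 .nil) .nil)) (.kid 470 (.node 28 (.kid 238 (.node 11 .nil) .nil)) (.kid 864 (.node 21 (.kid 344 (.node 62 .nil) .nil)) (.kid 1212 (.node 21 (.kid 552 (.node 62 .nil) .nil)) (.kid 1444 (.node 21 (.kid 181 (.node 62 .nil) .nil)) (.kid 1615 (.node 21 (.kid 360 (.node 62 .nil) .nil)) .nil)))))))))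

/-- branch 2 -/
def swapBranch2 : SwapTree := (.node 4 (.kid 87 (.node 6 (.kid 1218 (.node 15 .nil) .nil)) (.kid 112 (.node 6 (.kid 1218 (.node 15 .nil) .nil)) (.kid 217 (.node 11 (.kid 1549 (.node 13 .nil) .nil)) (.kid 270 (.node 11 (.kid 1451 (.node 13 .nil) .nil)) (.kid 452 (.node 6 (.kid 1218 (.node 12 .nil) .nil)) (.kid 469 (.node 11 (.kid 1434 (.node 53 .nil) .nil)) (.kid 566 (.node 6 (.kid 1218 (.node 12 .nil) .nil)) (.kid 595 (.node 11 (.kid 1235 (.node 28 .nil) .nil)) .nil)))))))))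

/-- branch 3 -/
def swapBranch3 : SwapTree := (.node 4 (.kid 87 (.node 11 (.kid 1549 (.node 13 .nil) .nil)) (.kid 112 (.node 11 (.kid 1451 (.node 13 .nil) .nil)) (.kid 217 (.node 11 (.kid 1549 (.node 13 .nil) .nil)) (.kid 270 (.node 11 (.kid 1451 (.node 13 .nil) .nil)) (.kid 363 (.node 11 (.kid 1434 (.node 53 .nil) .nil)) (.kid 465 (.node 11 (.kid 1235 (.node 28 .nil) .nil)) (.kid 719 (.node 11 (.kid 1434 (.node 53 .nil) .nil)) (.kid 872 (.node 11 (.kid 1235 (.node 28 .nil) .nil)) .nil)))))))))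

/-- branch 4 -/
def swapBranch4 : SwapTree := (.node 2 (.kid 140 (.node 11 (.kid 1009 (.node 17 .nil) .nil)) (.kid 175 (.node 11 (.kid 907 (.node 17 .nil) .nil)) (.kid 231 (.node 11 (.kid 880 (.node 83 .nil) .nil)) (.kid 292 (.node 11 (.kid 715 (.node 57 .nil) .nil)) (.kid 345 (.node 11 (.kid 1009 (.node 17 .nil) .nil)) (.kid 433 (.node 11 (.kid 907 (.node 17 .nil) .nil)) (.kid 554 (.node 11 (.kid 880 (.node 83 .nil) .nil)) (.kid 687 (.node 11 (.kid 715 (.node 57 .nil) .nil)) .nil)))))))))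

/-- branch 5 -/
def swapBranch5 : SwapTree := (.node 2 (.kid 140 (.node 6 (.kid 992 (.node 15 .nil) .nil)) (.kid 175 (.node 6 (.kid 992 (.node 15 .nil) .nil)) (.kid 280 (.node 6 (.kid 992 (.node 15 .nil) .nil)) (.kid 345 (.node 11 (.kid 1009 (.node 17 .nil) .nil)) (.kid 353 (.node 6 (.kid 992 (.node 15 .nil) .nil)) (.kid 369 (.node 11 (.kid 880 (.node 83 .nil) .nil)) (.kid 433 (.node 11 (.kid 907 (.node 17 .nil) .nil)) (.kid 472 (.node 11 (.kid 715 (.node 57 .nil) .nil)) .nil)))))))))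

/-- branch 6 -/
def swapBranch6 : SwapTree := (.node 8 (.kid 237 (.node 20 (.kid 2174 (.node 14 .nil) .nil)) (.kid 254 (.node 20 (.kid 1246 (.node 53 .nil) .nil)) (.kid 297 (.node 20 (.kid 181 (.node 14 .nil) .nil)) (.kid 318 (.node 20 (.kid 344 (.node 1 .nil) .nil)) (.kid 616 (.node 20 (.kid 1246 (.node 53 .nil) .nil)) (.kid 658 (.node 20 (.kid 2174 (.node 14 .nil) .nil)) (.kid 765 (.node 20 (.kid 344 (.node 1 .nil) .nil)) (.kid 809 (.node 20 (.kid 181 (.node 14 .nil) .nil)) .nil)))))))))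

/-- branch 7 -/
def swapBranch7 : SwapTree := (.node 4 (.kid 57 (.node 11 (.kid 731 (.node 13 .nil) .nil)) (.kid 77 (.node 11 (.kid 731 (.node 13 .nil) .nil)) (.kid 83 (.node 11 (.kid 899 (.node 13 .nil) .nil)) (.kid 105 (.node 11 (.kid 899 (.node 13 .nil) .nil)) (.kid 363 (.node 11 (.kid 1237 (.node 28 .nil) .nil)) (.kid 465 (.node 11 (.kid 1436 (.node 53 .nil) .nil)) (.kid 719 (.node 11 (.kid 1237 (.node 28 .nil) .nil)) (.kid 872 (.node 11 (.kid 1436 (.node 53 .nil) .nil)) .nil)))))))))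

/-- branch 8 -/
def swapBranch8 : SwapTree := (.node 8 (.kid 237 (.node 20 (.kid 572 (.node 3 .nil) .nil)) (.kid 254 (.node 20 (.kid 853 (.node 26 .nil) .nil)) (.kid 297 (.node 20 (.kid 137 (.node 14 .nil) .nil)) (.kid 318 (.node 20 (.kid 58 (.node 1 .nil) .nil)) (.kid 616 (.node 20 (.kid 137 (.node 14 .nil) .nil)) (.kid 658 (.node 20 (.kid 58 (.node 1 .nil) .nil)) (.kid 765 (.node 20 (.kid 572 (.node 3 .nil) .nil)) (.kid 809 (.node 20 (.kid 853 (.node 26 .nil) .nil)) .nil)))))))))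

/-- branch 9 -/
def swapBranch9 : SwapTree := (.node 2 (.kid 28 (.node 11 (.kid 349 (.node 67 .nil) .nil)) (.kid 53 (.node 11 (.kid 349 (.node 67 .nil) .nil)) (.kid 110 (.node 11 (.kid 349 (.node 103 .nil) .nil)) (.kid 139 (.node 11 (.kid 349 (.node 74 .nil) .nil)) (.kid 140 (.node 11 (.kid 349 (.node 30 .nil) .nil)) (.kid 175 (.node 11 (.kid 349 (.node 30 .nil) .nil)) (.kid 231 (.node 60 (.kid 829 (.node 24 .nil) .nil)) (.kid 280 (.node 52 (.kid 445 (.node 29 .nil) .nil)) (.kid 292 (.node 60 (.kid 829 (.node 24 .nil) .nil)) (.kid 345 (.node 11 (.kid 349 (.node 30 .nil) .nil)) (.kid 353 (.node 52 (.kid 445 (.node 29 .nil) .nil)) (.kid 369 (.node 52 (.kid 445 (.node 29 .nil) .nil)) (.kid 433 (.node 11 (.kid 349 (.node 30 .nil) .nil)) (.kid 472 (.node 52 (.kid 445 (.node 29 .nil) .nil)) (.kid 554 (.node 60 (.kid 829 (.node 24 .nil) .nil)) (.kid 687 (.node 60 (.kid 829 (.node 24 .nil) .nil)) .nil)))))))))))))))))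

/-- branch 10 -/
def swapBranch10 : SwapTree := (.node 4 (.kid 57 (.node 11 (.kid 731 (.node 13 .nil) .nil)) (.kid 77 (.node 6 (.kid 751 (.node 15 .nil) .nil)) (.kid 83 (.node 11 (.kid 899 (.node 13 .nil) .nil)) (.kid 105 (.node 6 (.kid 751 (.node 15 .nil) .nil)) (.kid 452 (.node 6 (.kid 751 (.node 12 .nil) .nil)) (.kid 469 (.node 11 (.kid 1237 (.node 28 .nil) .nil)) (.kid 566 (.node 6 (.kid 751 (.node 12 .nil) .nil)) (.kid 595 (.node 11 (.kid 1436 (.node 53 .nil) .nil)) .nil)))))))))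

/-- branch 11 -/
def swapBranch11 : SwapTree := (.node 2 (.kid 28 (.node 11 (.kid 905 (.node 17 .nil) .nil)) (.kid 53 (.node 11 (.kid 1090 (.node 17 .nil) .nil)) (.kid 110 (.node 11 (.kid 905 (.node 17 .nil) .nil)) (.kid 139 (.node 11 (.kid 1090 (.node 17 .nil) .nil)) (.kid 231 (.node 11 (.kid 1468 (.node 57 .nil) .nil)) (.kid 292 (.node 11 (.kid 1550 (.node 83 .nil) .nil)) (.kid 554 (.node 11 (.kid 1468 (.node 57 .nil) .nil)) (.kid 687 (.node 11 (.kid 1550 (.node 83 .nil) .nil)) .nil)))))))))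

/-- branch 12 -/
def swapBranch12 : SwapTree := (.node 8 (.kid 115 (.node 20 (.kid 363 (.node 14 .nil) .nil)) (.kid 125 (.node 20 (.kid 719 (.node 30 .nil) .nil)) (.kid 146 (.node 20 (.kid 77 (.node 14 .nil) .nil)) (.kid 158 (.node 20 (.kid 57 (.node 1 .nil) .nil)) (.kid 616 (.node 20 (.kid 77 (.node 14 .nil) .nil)) (.kid 658 (.node 20 (.kid 57 (.node 1 .nil) .nil)) (.kid 765 (.node 20 (.kid 363 (.node 14 .nil) .nil)) (.kid 809 (.node 20 (.kid 719 (.node 30 .nil) .nil)) .nil)))))))))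

/-- branch 13 -/
def swapBranch13 : SwapTree := (.node 2 (.kid 28 (.node 11 (.kid 349 (.node 30 .nil) .nil)) (.kid 53 (.node 11 (.kid 349 (.node 30 .nil) .nil)) (.kid 110 (.node 11 (.kid 349 (.node 30 .nil) .nil)) (.kid 139 (.node 11 (.kid 349 (.node 30 .nil) .nil)) (.kid 140 (.node 11 (.kid 349 (.node 30 .nil) .nil)) (.kid 175 (.node 11 (.kid 349 (.node 30 .nil) .nil)) (.kid 345 (.node 11 (.kid 349 (.node 30 .nil) .nil)) (.kid 433 (.node 11 (.kid 349 (.node 30 .nil) .nil)) .nil)))))))))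

/-- branch 14 -/
def swapBranch14 : SwapTree := (.node 2 (.kid 28 (.node 6 (.kid 375 (.node 15 .nil) .nil)) (.kid 53 (.node 6 (.kid 375 (.node 15 .nil) .nil)) (.kid 110 (.node 11 (.kid 905 (.node 17 .nil) .nil)) (.kid 139 (.node 11 (.kid 1090 (.node 17 .nil) .nil)) (.kid 280 (.node 6 (.kid 375 (.node 15 .nil) .nil)) (.kid 353 (.node 6 (.kid 375 (.node 15 .nil) .nil)) (.kid 369 (.node 11 (.kid 1468 (.node 57 .nil) .nil)) (.kid 472 (.node 11 (.kid 1550 (.node 83 .nil) .nil)) .nil)))))))))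

/-- branch 15 -/
def swapBranch15 : SwapTree := (.node 10 (.kid 65 (.node 28 (.kid 1479 (.node 184 .nil) .nil)) (.kid 72 (.node 28 (.kid 1515 (.node 184 .nil) .nil)) (.kid 93 (.node 31 (.kid 33 (.node 27 .nil) .nil)) (.kid 101 (.node 31 (.kid 33 (.node 27 .nil) .nil)) (.kid 381 (.node 31 (.kid 637 (.node 8 .nil) .nil)) (.kid 407 (.node 31 (.kid 637 (.node 8 .nil) .nil)) (.kid 481 (.node 31 (.kid 432 (.node 35 .nil) .nil)) (.kid 514 (.node 31 (.kid 432 (.node 35 .nil) .nil)) .nil)))))))))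

/-- branch 16 -/
def swapBranch16 : SwapTree := (.node 10 (.kid 63 (.node 33 (.kid 55 (.node 35 .nil) .nil)) (.kid 70 (.node 33 (.kid 55 (.node 35 .nil) .nil)) (.kid 90 (.node 28 (.kid 65 (.node 14 .nil) .nil)) (.kid 98 (.node 28 (.kid 72 (.node 1 .nil) .nil)) (.kid 380 (.node 28 (.kid 65 (.node 14 .nil) .nil)) (.kid 406 (.node 28 (.kid 72 (.node 1 .nil) .nil)) (.kid 480 (.node 33 (.kid 108 (.node 4 .nil) .nil)) (.kid 513 (.node 33 (.kid 108 (.node 4 .nil) .nil)) .nil)))))))))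

/-- branch 17 -/
def swapBranch17 : SwapTree := (.node 20 (.kid 53 (.node 84 .nil) (.kid 57 (.node 84 .nil) (.kid 77 (.node 152 .nil) (.kid 112 (.node 58 .nil) (.kid 139 (.node 133 .nil) (.kid 140 (.node 58 .nil) (.kid 270 (.node 58 .nil) (.kid 345 (.node 58 .nil) .nil)))))))))

/-- branch 18 -/
def swapBranch18 : SwapTree := (.node 20 (.kid 584 (.node 50 (.kid 563 (.node 8 .nil) .nil)) (.kid 594 (.node 28 (.kid 1234 (.node 131 .nil) .nil)) (.kid 840 (.node 28 (.kid 1465 (.node 131 .nil) .nil)) (.kid 1036 (.node 50 (.kid 563 (.node 8 .nil) .nil)) (.kid 1048 (.node 50 (.kid 832 (.node 8 .nil) .nil)) (.kid 1063 (.node 50 (.kid 52 (.node 28 .nil) .nil)) (.kid 1271 (.node 50 (.kid 213 (.node 16 .nil) .nil)) (.kid 1412 (.node 50 (.kid 52 (.node 28 .nil) .nil)) .nil)))))))))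

/-- branch 19 -/
def swapBranch19 : SwapTree := (.node 2 (.kid 231 (.node 28 (.kid 123 (.node 4 .nil) .nil)) (.kid 280 (.node 20 (.kid 468 (.node 135 .nil) .nil)) (.kid 292 (.node 24 (.kid 1467 (.node 135 .nil) .nil)) (.kid 353 (.node 28 (.kid 123 (.node 4 .nil) .nil)) (.kid 369 (.node 20 (.kid 1180 (.node 135 .nil) .nil)) (.kid 472 (.node 28 (.kid 133 (.node 6 .nil) .nil)) (.kid 554 (.node 28 (.kid 133 (.node 6 .nil) .nil)) (.kid 687 (.node 24 (.kid 716 (.node 135 .nil) .nil)) .nil)))))))))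

/-- branch 20 -/
def swapBranch20 : SwapTree := (.node 11 (.kid 55 (.node 28 .nil) (.kid 82 (.node 53 .nil) (.kid 108 (.node 28 .nil) (.kid 138 (.node 53 .nil) (.kid 1235 (.node 53 .nil) (.kid 1434 (.node 28 .nil) (.kid 1451 (.node 53 .nil) (.kid 1549 (.node 28 .nil) .nil)))))))))

/-- branch 21 -/
def swapBranch21 : SwapTree := (.node 2 (.kid 28 (.node 6 (.kid 185 (.node 47 .nil) .nil)) (.kid 53 (.node 6 (.kid 185 (.node 47 .nil) .nil)) (.kid 110 (.node 11 (.kid 349 (.node 30 .nil) .nil)) (.kid 139 (.node 11 (.kid 349 (.node 30 .nil) .nil)) (.kid 140 (.node 6 (.kid 185 (.node 30 .nil) .nil)) (.kid 175 (.node 6 (.kid 185 (.node 30 .nil) .nil)) (.kid 345 (.node 11 (.kid 349 (.node 30 .nil) .nil)) (.kid 433 (.node 11 (.kid 349 (.node 30 .nil) .nil)) .nil)))))))))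

/-- branch 22 -/
def swapBranch22 : SwapTree := (.node 2 (.kid 140 (.node 11 (.kid 855 (.node 17 .nil) .nil)) (.kid 175 (.node 11 (.kid 698 (.node 17 .nil) .nil)) (.kid 231 (.node 11 (.kid 1027 (.node 21 .nil) .nil)) (.kid 292 (.node 11 (.kid 1210 (.node 21 .nil) .nil)) (.kid 345 (.node 11 (.kid 855 (.node 17 .nil) .nil)) (.kid 433 (.node 11 (.kid 698 (.node 17 .nil) .nil)) (.kid 554 (.node 11 (.kid 1027 (.node 21 .nil) .nil)) (.kid 687 (.node 11 (.kid 1210 (.node 21 .nil) .nil)) .nil)))))))))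

/-- branch 23 -/
def swapBranch23 : SwapTree := (.node 2 (.kid 28 (.node 11 (.kid 82 (.node 17 .nil) .nil)) (.kid 53 (.node 11 (.kid 55 (.node 17 .nil) .nil)) (.kid 110 (.node 11 (.kid 82 (.node 17 .nil) .nil)) (.kid 139 (.node 11 (.kid 55 (.node 17 .nil) .nil)) (.kid 280 (.node 11 (.kid 108 (.node 68 .nil) .nil)) (.kid 353 (.node 11 (.kid 138 (.node 57 .nil) .nil)) (.kid 369 (.node 11 (.kid 108 (.node 68 .nil) .nil)) (.kid 472 (.node 11 (.kid 138 (.node 57 .nil) .nil)) .nil)))))))))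

/-- branch 24 -/
def swapBranch24 : SwapTree := (.node 8 (.kid 20 (.node 28 (.kid 2135 (.node 30 .nil) .nil)) (.kid 24 (.node 28 (.kid 2368 (.node 30 .nil) .nil)) (.kid 42 (.node 28 (.kid 125 (.node 3 .nil) .nil)) (.kid 48 (.node 28 (.kid 115 (.node 15 .nil) .nil)) (.kid 237 (.node 28 (.kid 125 (.node 3 .nil) .nil)) (.kid 254 (.node 28 (.kid 115 (.node 15 .nil) .nil)) (.kid 297 (.node 28 (.kid 2135 (.node 30 .nil) .nil)) (.kid 318 (.node 28 (.kid 2368 (.node 30 .nil) .nil)) .nil)))))))))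

/-- branch 25 -/
def swapBranch25 : SwapTree := (.node 11 (.kid 55 (.node 28 .nil) (.kid 82 (.node 53 .nil) (.kid 108 (.node 28 .nil) (.kid 138 (.node 53 .nil) (.kid 1235 (.node 53 .nil) (.kid 1434 (.node 28 .nil) (.kid 1451 (.node 53 .nil) (.kid 1549 (.node 28 .nil) .nil)))))))))

/-- branch 26 -/
def swapBranch26 : SwapTree := (.node 4 (.kid 87 (.node 11 (.kid 1201 (.node 13 .nil) .nil)) (.kid 112 (.node 11 (.kid 1025 (.node 13 .nil) .nil)) (.kid 217 (.node 11 (.kid 1201 (.node 13 .nil) .nil)) (.kid 270 (.node 11 (.kid 1025 (.node 13 .nil) .nil)) (.kid 363 (.node 11 (.kid 720 (.node 21 .nil) .nil)) (.kid 465 (.node 11 (.kid 886 (.node 21 .nil) .nil)) (.kid 719 (.node 11 (.kid 720 (.node 21 .nil) .nil)) (.kid 872 (.node 11 (.kid 886 (.node 21 .nil) .nil)) .nil)))))))))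

/-- branch 27 -/
def swapBranch27 : SwapTree := (.node 8 (.kid 20 (.node 28 (.kid 2135 (.node 26 .nil) .nil)) (.kid 24 (.node 28 (.kid 2368 (.node 26 .nil) .nil)) (.kid 42 (.node 28 (.kid 254 (.node 26 .nil) .nil)) (.kid 48 (.node 28 (.kid 237 (.node 26 .nil) .nil)) (.kid 115 (.node 28 (.kid 254 (.node 26 .nil) .nil)) (.kid 125 (.node 28 (.kid 237 (.node 26 .nil) .nil)) (.kid 146 (.node 28 (.kid 2135 (.node 26 .nil) .nil)) (.kid 158 (.node 28 (.kid 2368 (.node 26 .nil) .nil)) .nil)))))))))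

/-- branch 28 -/
def swapBranch28 : SwapTree := (.node 11 (.kid 720 (.node 83 .nil) (.kid 886 (.node 57 .nil) (.kid 905 (.node 57 .nil) (.kid 1025 (.node 83 .nil) (.kid 1090 (.node 83 .nil) (.kid 1201 (.node 57 .nil) (.kid 1468 (.node 57 .nil) (.kid 1550 (.node 83 .nil) .nil)))))))))

/-- branch 29 -/
def swapBranch29 : SwapTree := (.node 2 (.kid 140 (.node 11 (.kid 855 (.node 17 .nil) .nil)) (.kid 175 (.node 11 (.kid 698 (.node 17 .nil) .nil)) (.kid 280 (.node 11 (.kid 1027 (.node 57 .nil) .nil)) (.kid 345 (.node 11 (.kid 855 (.node 17 .nil) .nil)) (.kid 353 (.node 11 (.kid 1210 (.node 64 .nil) .nil)) (.kid 369 (.node 11 (.kid 1027 (.node 57 .nil) .nil)) (.kid 433 (.node 11 (.kid 698 (.node 17 .nil) .nil)) (.kid 472 (.node 11 (.kid 1210 (.node 64 .nil) .nil)) .nil)))))))))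

/-- branch 30 -/
def swapBranch30 : SwapTree := (.node 11 (.kid 106 (.node 57 .nil) (.kid 136 (.node 58 .nil) (.kid 172 (.node 57 .nil) (.kid 214 (.node 58 .nil) (.kid 715 (.node 28 .nil) (.kid 880 (.node 20 .nil) (.kid 907 (.node 28 .nil) (.kid 1009 (.node 20 .nil) .nil)))))))))

/-- branch 31 -/
def swapBranch31 : SwapTree := (.node 2 (.kid 28 (.node 11 (.kid 82 (.node 17 .nil) .nil)) (.kid 53 (.node 11 (.kid 55 (.node 17 .nil) .nil)) (.kid 110 (.node 11 (.kid 82 (.node 17 .nil) .nil)) (.kid 139 (.node 11 (.kid 55 (.node 17 .nil) .nil)) (.kid 231 (.node 11 (.kid 108 (.node 83 .nil) .nil)) (.kid 292 (.node 11 (.kid 138 (.node 57 .nil) .nil)) (.kid 554 (.node 11 (.kid 108 (.node 83 .nil) .nil)) (.kid 687 (.node 11 (.kid 138 (.node 57 .nil) .nil)) .nil)))))))))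

/-- branch 32 -/
def swapBranch32 : SwapTree := (.node 11 (.kid 698 (.node 53 .nil) (.kid 731 (.node 20 .nil) (.kid 855 (.node 28 .nil) (.kid 899 (.node 42 .nil) (.kid 1027 (.node 53 .nil) (.kid 1210 (.node 28 .nil) (.kid 1237 (.node 20 .nil) (.kid 1436 (.node 42 .nil) .nil)))))))))

/-- branch 33 -/
def swapBranch33 : SwapTree := (.node 11 (.kid 720 (.node 83 .nil) (.kid 886 (.node 57 .nil) (.kid 905 (.node 57 .nil) (.kid 1025 (.node 83 .nil) (.kid 1090 (.node 83 .nil) (.kid 1201 (.node 57 .nil) (.kid 1468 (.node 57 .nil) (.kid 1550 (.node 83 .nil) .nil)))))))))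

/-- branch 34 -/
def swapBranch34 : SwapTree := (.node 4 (.kid 57 (.node 11 (.kid 136 (.node 13 .nil) .nil)) (.kid 77 (.node 11 (.kid 136 (.node 13 .nil) .nil)) (.kid 83 (.node 11 (.kid 106 (.node 13 .nil) .nil)) (.kid 105 (.node 11 (.kid 106 (.node 13 .nil) .nil)) (.kid 452 (.node 11 (.kid 172 (.node 53 .nil) .nil)) (.kid 469 (.node 11 (.kid 172 (.node 53 .nil) .nil)) (.kid 566 (.node 11 (.kid 214 (.node 28 .nil) .nil)) (.kid 595 (.node 11 (.kid 214 (.node 28 .nil) .nil)) .nil)))))))))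

/-- branch 35 -/
def swapBranch35 : SwapTree := (.node 11 (.kid 106 (.node 57 .nil) (.kid 136 (.node 58 .nil) (.kid 172 (.node 57 .nil) (.kid 214 (.node 58 .nil) (.kid 715 (.node 28 .nil) (.kid 880 (.node 20 .nil) (.kid 907 (.node 28 .nil) (.kid 1009 (.node 20 .nil) .nil)))))))))

/-- branch 36 -/
def swapBranch36 : SwapTree := (.node 4 (.kid 87 (.node 11 (.kid 1201 (.node 13 .nil) .nil)) (.kid 112 (.node 11 (.kid 1025 (.node 13 .nil) .nil)) (.kid 217 (.node 11 (.kid 1201 (.node 13 .nil) .nil)) (.kid 270 (.node 11 (.kid 1025 (.node 13 .nil) .nil)) (.kid 452 (.node 11 (.kid 720 (.node 28 .nil) .nil)) (.kid 469 (.node 11 (.kid 720 (.node 28 .nil) .nil)) (.kid 566 (.node 11 (.kid 886 (.node 53 .nil) .nil)) (.kid 595 (.node 11 (.kid 886 (.node 53 .nil) .nil)) .nil)))))))))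

/-- branch 37 -/
def swapBranch37 : SwapTree := (.node 4 (.kid 57 (.node 11 (.kid 136 (.node 13 .nil) .nil)) (.kid 77 (.node 11 (.kid 136 (.node 13 .nil) .nil)) (.kid 83 (.node 11 (.kid 106 (.node 13 .nil) .nil)) (.kid 105 (.node 11 (.kid 106 (.node 13 .nil) .nil)) (.kid 363 (.node 11 (.kid 172 (.node 53 .nil) .nil)) (.kid 465 (.node 11 (.kid 214 (.node 28 .nil) .nil)) (.kid 719 (.node 11 (.kid 172 (.node 53 .nil) .nil)) (.kid 872 (.node 11 (.kid 214 (.node 28 .nil) .nil)) .nil)))))))))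

/-- branch 38 -/
def swapBranch38 : SwapTree := (.node 20 (.kid 224 (.node 51 (.kid 108 (.node 53 .nil) .nil)) (.kid 447 (.node 51 (.kid 55 (.node 53 .nil) .nil)) (.kid 546 (.node 53 (.kid 1502 (.node 219 .nil) .nil)) (.kid 560 (.node 53 (.kid 1843 (.node 219 .nil) .nil)) (.kid 682 (.node 53 (.kid 2003 (.node 219 .nil) .nil)) (.kid 700 (.node 53 (.kid 1308 (.node 219 .nil) .nil)) (.kid 707 (.node 51 (.kid 108 (.node 53 .nil) .nil)) (.kid 898 (.node 51 (.kid 55 (.node 53 .nil) .nil)) .nil)))))))))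

/-- branch 39 -/
def swapBranch39 : SwapTree := (.node 11 (.kid 698 (.node 53 .nil) (.kid 731 (.node 20 .nil) (.kid 855 (.node 28 .nil) (.kid 899 (.node 42 .nil) (.kid 1027 (.node 53 .nil) (.kid 1210 (.node 28 .nil) (.kid 1237 (.node 20 .nil) (.kid 1436 (.node 42 .nil) .nil)))))))))

/-- branch 40 -/
def swapBranch40 : SwapTree := (.node 20 (.kid 224 (.node 36 (.kid 1120 (.node 13 .nil) .nil)) (.kid 447 (.node 36 (.kid 1120 (.node 14 .nil) .nil)) (.kid 546 (.node 53 (.kid 1119 (.node 11 .nil) .nil)) (.kid 560 (.node 36 (.kid 1120 (.node 4 .nil) .nil)) (.kid 682 (.node 53 (.kid 627 (.node 11 .nil) .nil)) (.kid 700 (.node 36 (.kid 1120 (.node 5 .nil) .nil)) (.kid 707 (.node 51 (.kid 1443 (.node 53 .nil) .nil)) (.kid 898 (.node 51 (.kid 1985 (.node 53 .nil) .nil)) .nil)))))))))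

/-- branch 41 -/
def swapBranch41 : SwapTree := (.node 20 (.kid 142 (.node 33 (.kid 108 (.node 53 .nil) .nil)) (.kid 281 (.node 33 (.kid 55 (.node 53 .nil) .nil)) (.kid 288 (.node 33 (.kid 108 (.node 53 .nil) .nil)) (.kid 470 (.node 33 (.kid 55 (.node 53 .nil) .nil)) (.kid 864 (.node 50 (.kid 56 (.node 14 .nil) .nil)) (.kid 1212 (.node 53 (.kid 639 (.node 62 .nil) .nil)) (.kid 1444 (.node 50 (.kid 56 (.node 3 .nil) .nil)) (.kid 1615 (.node 53 (.kid 597 (.node 62 .nil) .nil)) .nil)))))))))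

/-- branch 42 -/
def swapBranch42 : SwapTree := (.node 20 (.kid 113 (.node 21 (.kid 181 (.node 62 .nil) .nil)) (.kid 182 (.node 21 (.kid 442 (.node 62 .nil) .nil)) (.kid 454 (.node 21 (.kid 344 (.node 62 .nil) .nil)) (.kid 590 (.node 21 (.kid 285 (.node 62 .nil) .nil)) (.kid 873 (.node 58 (.kid 654 (.node 21 .nil) .nil)) (.kid 1247 (.node 55 (.kid 1237 (.node 13 .nil) .nil)) (.kid 1397 (.node 58 (.kid 612 (.node 21 .nil) .nil)) (.kid 1589 (.node 55 (.kid 1237 (.node 13 .nil) .nil)) .nil)))))))))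

/-- branch 43 -/
def swapBranch43 : SwapTree := (.node 8 (.kid 115 (.node 20 (.kid 280 (.node 36 .nil) .nil)) (.kid 125 (.node 20 (.kid 369 (.node 57 .nil) .nil)) (.kid 146 (.node 20 (.kid 345 (.node 39 .nil) .nil)) (.kid 158 (.node 20 (.kid 140 (.node 3 .nil) .nil)) (.kid 237 (.node 20 (.kid 140 (.node 3 .nil) .nil)) (.kid 254 (.node 20 (.kid 345 (.node 39 .nil) .nil)) (.kid 297 (.node 20 (.kid 369 (.node 57 .nil) .nil)) (.kid 318 (.node 20 (.kid 280 (.node 36 .nil) .nil)) .nil)))))))))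

/-- branch 44 -/
def swapBranch44 : SwapTree := (.node 8 (.kid 20 (.node 50 (.kid 1198 (.node 29 .nil) .nil)) (.kid 24 (.node 50 (.kid 1198 (.node 29 .nil) .nil)) (.kid 42 (.node 28 (.kid 521 (.node 60 .nil) .nil)) (.kid 48 (.node 28 (.kid 408 (.node 60 .nil) .nil)) (.kid 616 (.node 28 (.kid 265 (.node 60 .nil) .nil)) (.kid 658 (.node 28 (.kid 334 (.node 60 .nil) .nil)) (.kid 765 (.node 53 (.kid 333 (.node 60 .nil) .nil)) (.kid 809 (.node 53 (.kid 423 (.node 60 .nil) .nil)) .nil)))))))))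

/-- branch 45 -/
def swapBranch45 : SwapTree := (.node 10 (.kid 65 (.node 33 (.kid 2856 (.node 1 .nil) .nil)) (.kid 72 (.node 33 (.kid 2856 (.node 4 .nil) .nil)) (.kid 93 (.node 33 (.kid 2856 (.node 1 .nil) .nil)) (.kid 101 (.node 33 (.kid 2856 (.node 4 .nil) .nil)) (.kid 380 (.node 33 (.kid 2856 (.node 4 .nil) .nil)) (.kid 406 (.node 33 (.kid 2856 (.node 1 .nil) .nil)) (.kid 480 (.node 33 (.kid 2856 (.node 4 .nil) .nil)) (.kid 513 (.node 33 (.kid 2856 (.node 1 .nil) .nil)) .nil)))))))))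

/-- branch 46 -/
def swapBranch46 : SwapTree := (.node 10 (.kid 63 (.node 31 (.kid 1537 (.node 27 .nil) .nil)) (.kid 70 (.node 31 (.kid 1537 (.node 27 .nil) .nil)) (.kid 90 (.node 28 (.kid 408 (.node 52 .nil) .nil)) (.kid 98 (.node 28 (.kid 521 (.node 52 .nil) .nil)) (.kid 381 (.node 31 (.kid 1537 (.node 16 .nil) .nil)) (.kid 407 (.node 31 (.kid 1537 (.node 16 .nil) .nil)) (.kid 481 (.node 52 (.kid 2855 (.node 2 .nil) .nil)) (.kid 514 (.node 52 (.kid 2855 (.node 2 .nil) .nil)) .nil)))))))))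

/-- branch 47 -/
def swapBranch47 : SwapTree := (.node 20 (.kid 142 (.node 60 (.kid 563 (.node 5 .nil) .nil)) (.kid 281 (.node 60 (.kid 563 (.node 5 .nil) .nil)) (.kid 288 (.node 60 (.kid 563 (.node 1 .nil) .nil)) (.kid 468 (.node 60 (.kid 563 (.node 6 .nil) .nil)) (.kid 470 (.node 60 (.kid 563 (.node 1 .nil) .nil)) (.kid 580 (.node 114 (.kid 680 (.node 3 .nil) .nil)) (.kid 716 (.node 60 (.kid 563 (.node 6 .nil) .nil)) (.kid 861 (.node 114 (.kid 680 (.node 3 .nil) .nil)) (.kid 864 (.node 62 (.kid 339 (.node 14 .nil) .nil)) (.kid 1180 (.node 60 (.kid 563 (.node 3 .nil) .nil)) (.kid 1212 (.node 62 (.kid 339 (.node 8 .nil) .nil)) (.kid 1258 (.node 114 (.kid 680 (.node 6 .nil) .nil)) (.kid 1435 (.node 114 (.kid 680 (.node 4 .nil) .nil)) (.kid 1444 (.node 62 (.kid 339 (.node 3 .nil) .nil)) (.kid 1467 (.node 60 (.kid 563 (.node 3 .nil) .nil)) (.kid 1615 (.node 62 (.kid 339 (.node 3 .nil) .nil)) .nil)))))))))))))))))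

/-- branch 48 -/
def swapBranch48 : SwapTree := (.node 20 (.kid 113 (.node 60 (.kid 564 (.node 13 .nil) .nil)) (.kid 182 (.node 60 (.kid 564 (.node 4 .nil) .nil)) (.kid 454 (.node 60 (.kid 564 (.node 6 .nil) .nil)) (.kid 584 (.node 114 (.kid 446 (.node 8 .nil) .nil)) (.kid 590 (.node 60 (.kid 564 (.node 4 .nil) .nil)) (.kid 594 (.node 60 (.kid 564 (.node 1 .nil) .nil)) (.kid 840 (.node 60 (.kid 564 (.node 1 .nil) .nil)) (.kid 873 (.node 62 (.kid 219 (.node 4 .nil) .nil)) (.kid 1036 (.node 114 (.kid 446 (.node 3 .nil) .nil)) (.kid 1048 (.node 60 (.kid 564 (.node 4 .nil) .nil)) (.kid 1063 (.node 114 (.kid 446 (.node 4 .nil) .nil)) (.kid 1247 (.node 62 (.kid 219 (.node 13 .nil) .nil)) (.kid 1271 (.node 60 (.kid 564 (.node 5 .nil) .nil)) (.kid 1397 (.node 62 (.kid 219 (.node 4 .nil) .nil)) (.kid 1412 (.node 114 (.kid 446 (.node 3 .nil) .nil)) (.kid 1589 (.node 62 (.kid 219 (.node 13 .nil) .nil)) .nil)))))))))))))))))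

/-- branch 49 -/
def swapBranch49 : SwapTree := (.node 20 (.kid 584 (.node 50 (.kid 174 (.node 6 .nil) .nil)) (.kid 594 (.node 54 (.kid 272 (.node 1 .nil) .nil)) (.kid 840 (.node 50 (.kid 174 (.node 1 .nil) .nil)) (.kid 1036 (.node 50 (.kid 174 (.node 8 .nil) .nil)) (.kid 1048 (.node 54 (.kid 272 (.node 3 .nil) .nil)) (.kid 1063 (.node 52 (.kid 1041 (.node 63 .nil) .nil)) (.kid 1271 (.node 50 (.kid 174 (.node 3 .nil) .nil)) (.kid 1412 (.node 52 (.kid 1041 (.node 63 .nil) .nil)) .nil)))))))))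

/-- branch 50 -/
def swapBranch50 : SwapTree := (.node 20 (.kid 468 (.node 58 (.kid 256 (.node 135 .nil) .nil)) (.kid 580 (.node 33 (.kid 347 (.node 27 .nil) .nil)) (.kid 716 (.node 58 (.kid 317 (.node 135 .nil) .nil)) (.kid 861 (.node 33 (.kid 439 (.node 8 .nil) .nil)) (.kid 1180 (.node 58 (.kid 239 (.node 135 .nil) .nil)) (.kid 1258 (.node 33 (.kid 347 (.node 27 .nil) .nil)) (.kid 1435 (.node 33 (.kid 439 (.node 8 .nil) .nil)) (.kid 1467 (.node 58 (.kid 296 (.node 135 .nil) .nil)) .nil)))))))))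

/-- the decision tree -/
def swapTree : SwapTree := (.node 9 (.kid 11 swapBranch0 (.kid 32 swapBranch1 (.kid 33 swapBranch2 (.kid 51 swapBranch3 (.kid 52 swapBranch4 (.kid 60 swapBranch5 (.kid 62 swapBranch6 (.kid 114 swapBranch7 (.kid 135 swapBranch8 (.kid 173 swapBranch9 (.kid 183 swapBranch10 (.kid 184 swapBranch11 (.kid 213 swapBranch12 (.kid 219 swapBranch13 (.kid 290 swapBranch14 (.kid 335 swapBranch15 (.kid 336 swapBranch16 (.kid 339 swapBranch17 (.kid 340 swapBranch18 (.kid 349 swapBranch19 (.kid 432 swapBranch20 (.kid 437 swapBranch21 (.kid 445 swapBranch22 (.kid 446 swapBranch23 (.kid 541 swapBranch24 (.kid 563 swapBranch25 (.kid 564 swapBranch26 (.kid 637 swapBranch27 (.kid 680 swapBranch28 (.kid 829 swapBranch29 (.kid 830 swapBranch30 (.kid 832 swapBranch31 (.kid 833 swapBranch32 (.kid 857 swapBranch33 (.kid 858 swapBranch34 (.kid 1002 swapBranch35 (.kid 1035 swapBranch36 (.kid 1040 swapBranch37 (.kid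 1238 swapBranch38 (.kid 1351 swapBranch39 (.kid 1540 swapBranch40 (.kid 1551 swapBranch41 (.kid 1590 swapBranch42 (.kid 2364 swapBranch43 (.kid 2433 swapBranch44 (.kid 2855 swapBranch45 (.kid 2856 swapBranch46 (.kid 2857 swapBranch47 (.kid 2942 swapBranch48 (.kid 3270 swapBranch49 (.kid 3271 swapBranch50 .nil))))))))))))))))))))))))))))))))))))))))))))))))))))

end CfsgLib.Fi22Pres
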