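import Cfsg.Agent.Lib.Fi22Pres.OutChecks
import Cfsg.Agent.Lib.Fi22Pres.CentScan

/-!
The centralizer of an element of order 13 of the presented Fischer group Fi22.
-/

set_option autoImplicit false
set_option Elab.async false

namespace CfsgLib.Fi22Pres

open CfsgLib.CosetEnum

/-- an element of order 13 -/
def thirteenWord : List ℕ := [3, 1, 2, 7, 8, 0, 5, 4]

/-- the possible images of the first coset -/
def thirteenCases : List (ℕ × List (List ℕ)) := [(0, [[]]), (2101, []), (2241, [])]

theorem thirteen_pow : allUp (wordFix certA (powWord thirteenWord 13)) 12 0 = true := by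
  decide +kernel

theorem thirteen_moves : Nat.beq (certA.run 0 (certA.revInv thirteenWord)) 0 = false := by
  decide +kernel

theorem thirteen_scan : Cert.allPts certA.N
    (TransCent.scanOK certA commMask thirteenWord 13 7 0 [] (thirteenCases.map Prod.fst)) = true := by
  decide +kernel

theorem thirteen_cases : TransCent.casesOK certA commMask thirteenWord 13 7 0 []
    (levels.map Level.base) [198, 66, 4] thirteenCases = true := by decide +kernel

end CfsgLib.Fi22Pres
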