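import Cfsg.Agent.Lib.Fi22Pres.Out
import Cfsg.Agent.Lib.Fi22Pres.ThirteenChecks
import Cfsg.Agent.Lib.Fi22Pres.CyclicSylowNormalizer
import Cfsg.Agent.Lib.Fi22USix.TransClass
import Cfsg.Agent.Lib.Fi22Pres.CentScan

/-!
The Sylow subgroups of orders 11 and 13 of a group isomorphic to Fi22.
-/

set_option autoImplicit false
set_option Elab.async false
set_option linter.style.haveILetI false

namespace CfsgLib.Fi22Pres

open CfsgLib.CosetEnum Cfsg.Spor CfsgLib.Fi22USix
open scoped Pointwise

theorem pow_lt {u : List ℕ} (hu : ∀ g ∈ u, g < 9) (i : ℕ) : ∀ g ∈ powWord u i, g < 9 := by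
  intro g hg
  obtain ⟨l, hl, hgl⟩ := List.mem_flatten.mp hg
  obtain rfl := List.eq_of_mem_replicate hl
  exact hu g hgl

/-- the transposition class as a class of involutions on the cosets -/
theorem env : TransCent.Env certA subA gen rho (gen 0) commMask [0] where
  setup := setupA
  rep := repWords
  graph := graph
  zw_lt := by decide +kernel
  zw_eq := by simp
  inj := card_faithful.2

theorem thirteen_lt : ∀ g ∈ thirteenWord, g < 9 := by decide

theorem thirteen_order : orderOf (prodW gen thirteenWord) = 13 := by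
  haveI : Fact (Nat.Prime 13) := ⟨by norm_num⟩
  refine orderOf_eq_prime (setupA.pow_eq_one card_faithful.2 (by decide) thirteen_pow hN)
    fun e => ?_
  have h2 := setupA.rho_prodW thirteen_lt (⟨0, by decide +kernel⟩ : Fin certA.N)
  rw [e, map_one] at h2
  have h := thirteen_moves
  rw [← h2] at h
  simp at h

theorem thirteen_cent :
    Nat.card (Subgroup.centralizer (Subgroup.zpowers (prodW gen thirteenWord) : Set Fi22)) = 13 := by
  haveI : Finite Fi22 := finite_and_card.1
  have h : Subgroup.centralizer (Subgroup.zpowers (prodW gen thirteenWord) : Set Fi22) =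
      Subgroup.zpowers (prodW gen thirteenWord) := by
    refine le_antisymm (fun g hg => ?_) (Subgroup.le_centralizer _)
    have hc : Commute g (prodW gen thirteenWord) :=
      ((Subgroup.mem_centralizer_iff.mp hg) _ (Subgroup.mem_zpowers _)).symm
    have hpow : prodW gen thirteenWord ^ 13 = 1 :=
      thirteen_order ▸ pow_orderOf_eq_one (prodW gen thirteenWord)
    obtain ⟨k, hk, u, hu, e, -⟩ := env.scan_cases thirteen_lt (F := []) (by norm_num) hpow
      (b := 0) (n := 7) (show 0 < certA.N by decide +kernel) (by simp) (by simp)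
      (fun x hx => Cert.allPts_spec thirteen_scan x hx) chain_ok
      (chain_size.trans card_faithful.1.symm) thirteen_cases hc (by simp [TransCent.FixedList])
    obtain rfl : u = [] := by simpa [thirteenCases] using hu
    rw [e]
    simpa using hk
  rw [h, Nat.card_zpowers, thirteen_order]

theorem eleven_cases {g : Fi22} (hg : Commute g (prodW gen elevenWord)) :
    g ∈ Subgroup.zpowers (prodW gen elevenWord) ∨
      g * gen 0 ∈ Subgroup.zpowers (prodW gen elevenWord) := by
  haveI : Finite Fi22 := finite_and_card.1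
  obtain ⟨i, u, hu, e⟩ := setupA.centralizer_cases repWords (graph.inv) eleven_lt eleven_fixed
    eleven_first chain_ok (chain_size.trans card_faithful.1.symm) (leaves := [[], [0]])
    (by decide +kernel) eleven_search hg
  rcases List.mem_cons.mp hu with rfl | hu
  · left; rw [e]; simp [Subgroup.npow_mem_zpowers]
  · right
    rw [List.mem_singleton.mp hu] at e
    rw [e]
    simp [mul_assoc, first_facts.1, Subgroup.npow_mem_zpowers]

theorem eleven_centralizer :
    Nat.card (Subgroup.centralizer (Subgroup.zpowers (prodW gen elevenWord) : Set Fi22)) = 22 ∧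
      gen 0 ∈ Subgroup.centralizer (Subgroup.zpowers (prodW gen elevenWord) : Set Fi22) := by
  haveI : Finite Fi22 := finite_and_card.1
  set V := prodW gen elevenWord
  set C := Subgroup.centralizer (Subgroup.zpowers V : Set Fi22)
  have h0 : gen 0 ∈ C := by
    rw [Subgroup.mem_centralizer_iff]
    rintro _ ⟨k, rfl⟩
    exact (eleven_facts.2.zpow_right k).eq.symm
  refine ⟨?_, h0⟩
  have hVC : Subgroup.zpowers V ≤ C := Subgroup.le_centralizer _
  have hV : Nat.card (Subgroup.zpowers V) = 11 := by rw [Nat.card_zpowers, eleven_facts.1]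
  have hlt : Nat.card C ≤ 22 := by
    classical
    let f : Bool × Subgroup.zpowers V → Fi22 := fun q =>
      bif q.1 then (q.2 : Fi22) * gen 0 else q.2
    have hsub : (C : Set Fi22) ⊆ Set.range f := by
      intro g hg
      have hc : Commute g V :=
        ((Subgroup.mem_centralizer_iff.mp hg) _ (Subgroup.mem_zpowers _)).symm
      rcases eleven_cases hc with h | h
      · exact ⟨(false, ⟨g, h⟩), rfl⟩
      · exact ⟨(true, ⟨_, h⟩), by simp [f, mul_assoc, first_facts.1]⟩
    calc Nat.card C ≤ Nat.card (Set.range f) := Nat.card_mono (Set.toFinite _) hsub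
      _ ≤ Nat.card (Bool × Subgroup.zpowers V) := Finite.card_range_le f
      _ = 22 := by rw [Nat.card_prod, hV, Nat.card_eq_fintype_card, Fintype.card_bool]
  have h11 : 11 ∣ Nat.card C := hV ▸ Subgroup.card_dvd_of_le hVC
  have h2 : 2 ∣ Nat.card C := by
    haveI : Fact (Nat.Prime 2) := ⟨Nat.prime_two⟩
    have ho : orderOf (gen 0) = 2 :=
      orderOf_eq_prime (by rw [pow_two]; exact first_facts.1) first_facts.2
    rw [← ho, ← Nat.card_zpowers]
    exact Subgroup.card_dvd_of_le ((Subgroup.zpowers_le).mpr h0)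
  have h22 : 22 ∣ Nat.card C := (Nat.Coprime.mul_dvd_of_dvd_of_dvd (by norm_num) h2 h11)
  exact le_antisymm hlt (Nat.le_of_dvd Nat.card_pos h22)

variable {G : Type*} [Group G] [Finite G] {D : Set G}

omit [Finite G] in
theorem card_map_centralizer (e : Fi22 ≃* G) (V : Fi22) :
    (Subgroup.centralizer (Subgroup.zpowers V : Set Fi22)).map e.toMonoidHom =
      Subgroup.centralizer (Subgroup.zpowers (e V) : Set G) := by
  ext w
  rw [Subgroup.mem_map_equiv, Subgroup.mem_centralizer_iff, Subgroup.mem_centralizer_iff]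
  constructor
  · rintro h _ ⟨k, rfl⟩
    have := congrArg e (h _ (Subgroup.zpow_mem_zpowers V k))
    simpa [map_zpow] using this
  · rintro h _ ⟨k, rfl⟩
    apply e.injective
    simpa [map_zpow] using h _ (Subgroup.zpow_mem_zpowers (e V) k)

theorem order_thirteen (e : Fi22 ≃* G) :
    (∀ X Y : Subgroup G, Nat.card X = 13 → Nat.card Y = 13 →
      ∃ g : G, X.map (MulAut.conj g).toMonoidHom = Y) ∧
    ∀ X : Subgroup G, Nat.card X = 13 →
      Nat.card ↥(Subgroup.normalizer ((X : Subgroup G) : Set G)) = 78 ∧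
        Subgroup.centralizer ((X : Subgroup G) : Set G) = X := by
  haveI : Fact (Nat.Prime 13) := ⟨by norm_num⟩
  have hG : Nat.card G = 64561751654400 :=
    (Nat.card_congr e.toEquiv).symm.trans card_faithful.1
  have hd : 13 ∣ Nat.card G := by rw [hG]; norm_num
  have hd2 : ¬ 13 * 13 ∣ Nat.card G := by rw [hG]; norm_num
  have h0 : Nat.card (Subgroup.zpowers (e (prodW gen thirteenWord))) = 13 := by
    rw [Nat.card_zpowers, MulEquiv.orderOf_eq, thirteen_order]
  refine ⟨fun X Y => SylowPrime.conj_of_card hd hd2, fun X hX => ?_⟩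
  have hc : Nat.card (Subgroup.centralizer (X : Set G)) = 13 := by
    rw [SylowPrime.centralizer_card hd hd2 h0 hX, ← card_map_centralizer,
      ← Nat.card_congr (Subgroup.equivMapOfInjective _ _ e.injective).toEquiv, thirteen_cent]
  haveI : IsCyclic X := isCyclic_of_prime_card hX
  refine ⟨SylowPrime.normalizer_card hd hd2 hX (a := 6) hc (by rw [hG]; decide),
    (Subgroup.eq_of_le_of_card_ge (Subgroup.le_centralizer X) (by rw [hc, hX])).symm⟩

theorem order_eleven (e : Fi22 ≃* G) (hD : e '' transClass = D) :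
    (∀ X Y : Subgroup G, Nat.card X = 11 → Nat.card Y = 11 →
      ∃ g : G, X.map (MulAut.conj g).toMonoidHom = Y) ∧
    ∀ X : Subgroup G, Nat.card X = 11 → ∃ (F : Subgroup G) (d : G), d ∈ D ∧ Nat.card ↥F = 55 ∧
      X ≤ F ∧ F ⊓ Subgroup.centralizer ((X : Subgroup G) : Set G) = X ∧
      F ⊓ Subgroup.zpowers d = ⊥ ∧ (∀ x ∈ F, ∀ y ∈ Subgroup.zpowers d, x * y = y * x) ∧
      F ⊔ Subgroup.zpowers d = Subgroup.normalizer ((X : Subgroup G) : Set G) := by
  haveI : Fact (Nat.Prime 11) := ⟨by norm_num⟩
  haveI : Fact (Nat.Prime 5) := ⟨by norm_num⟩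
  haveI : Finite Fi22 := finite_and_card.1
  set W := prodW gen elevenWord
  have hG : Nat.card G = 64561751654400 :=
    (Nat.card_congr e.toEquiv).symm.trans card_faithful.1
  have hd : 11 ∣ Nat.card G := by rw [hG]; norm_num
  have hd2 : ¬ 11 * 11 ∣ Nat.card G := by rw [hG]; norm_num
  have h0 : Nat.card (Subgroup.zpowers (e W)) = 11 := by
    rw [Nat.card_zpowers, MulEquiv.orderOf_eq, eleven_facts.1]
  refine ⟨fun X Y => SylowPrime.conj_of_card hd hd2, fun X hX => ?_⟩
  obtain ⟨g, hg⟩ := SylowPrime.conj_of_card hd hd2 h0 hX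
  let φ : Fi22 ≃* G := e.trans (MulAut.conj g)
  have hmap : (Subgroup.centralizer (Subgroup.zpowers W : Set Fi22)).map φ.toMonoidHom =
      Subgroup.centralizer (X : Set G) := by
    rw [card_map_centralizer φ W]
    congr 2
    rw [← hg, MonoidHom.map_zpowers]
    rfl
  set d := φ (gen 0) with hdd
  have hdC : d ∈ Subgroup.centralizer (X : Set G) := hmap ▸ ⟨gen 0, eleven_centralizer.2, rfl⟩
  have hdo : orderOf d = 2 := by
    haveI : Fact (Nat.Prime 2) := ⟨Nat.prime_two⟩
    rw [hdd, MulEquiv.orderOf_eq]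
    exact orderOf_eq_prime (by rw [pow_two]; exact first_facts.1) first_facts.2
  have huniq : ∀ y ∈ Subgroup.centralizer (X : Set G), orderOf y = 2 → y = d := by
    intro y hy ho
    rw [← hmap] at hy
    obtain ⟨u, hu, rfl⟩ := hy
    have hc : Commute u W :=
      ((Subgroup.mem_centralizer_iff.mp hu) _ (Subgroup.mem_zpowers _)).symm
    have ho' : orderOf u = 2 := by rw [← ho]; exact (MulEquiv.orderOf_eq φ u).symm
    show φ u = φ (gen 0)
    refine congrArg φ ?_
    refine eleven_cent u hc ?_ fun e1 => ?_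
    · rw [← pow_two, ← ho', pow_orderOf_eq_one]
    · rw [e1, orderOf_one] at ho'; exact absurd ho' (by norm_num)
  have hcard : Nat.card (Subgroup.centralizer (X : Set G)) = 22 := by
    rw [← hmap, ← Nat.card_congr (Subgroup.equivMapOfInjective _ _ φ.injective).toEquiv]
    exact eleven_centralizer.1
  set N := Subgroup.normalizer (X : Set G)
  have hN : Nat.card N = 110 :=
    SylowPrime.normalizer_card hd hd2 hX (a := 5) hcard (by rw [hG]; decide)
  have hdcomm : ∀ x ∈ N, x * d = d * x := by
    intro x hx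
    have hy : x * d * x⁻¹ ∈ Subgroup.centralizer (X : Set G) := by
      rw [Subgroup.mem_centralizer_iff]
      intro a ha
      have ha' : x⁻¹ * a * x ∈ X := by
        have := (Subgroup.mem_normalizer_iff.mp (inv_mem hx) a).mp ha
        simpa using this
      have h2 := (Subgroup.mem_centralizer_iff.mp hdC) _ ha'
      calc a * (x * d * x⁻¹) = x * ((x⁻¹ * a * x) * d) * x⁻¹ := by group
        _ = x * (d * (x⁻¹ * a * x)) * x⁻¹ := by rw [h2]
        _ = x * d * x⁻¹ * a := by group
    have h3 := huniq _ hy (by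
      rw [show x * d * x⁻¹ = MulAut.conj x d from rfl, MulEquiv.orderOf_eq, hdo])
    calc x * d = x * d * x⁻¹ * x := by group
      _ = d * x := by rw [h3]
  obtain ⟨u, hu⟩ := exists_prime_orderOf_dvd_card' (G := N) 5 (by rw [hN]; norm_num)
  have hu' : orderOf (u : G) = 5 := by rw [Subgroup.orderOf_coe, hu]
  set U := Subgroup.zpowers (u : G)
  have hUN : U ≤ Subgroup.normalizer (X : Set G) := Subgroup.zpowers_le.mpr u.2
  have hU : Nat.card U = 5 := by rw [Nat.card_zpowers, hu']
  set F := X ⊔ U
  have hXN : X ≤ N := Subgroup.le_normalizer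
  have hFN : F ≤ N := sup_le hXN hUN
  have hF : Nat.card F = 55 := by
    have hsq : (F : Set G) = (X : Set G) * (U : Set G) :=
      Subgroup.coe_mul_of_right_le_normalizer_left X U hUN
    have hle : Nat.card F ≤ 55 := by
      rw [show Nat.card F = Nat.card (F : Set G) from rfl, hsq]
      calc Nat.card ((X : Set G) * (U : Set G) : Set G) ≤ Nat.card X * Nat.card U :=
            Set.natCard_mul_le
        _ = 55 := by rw [hX, hU]
    have h1 : 11 ∣ Nat.card F := hX ▸ Subgroup.card_dvd_of_le le_sup_left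
    have h5 : 5 ∣ Nat.card F := hU ▸ Subgroup.card_dvd_of_le le_sup_right
    exact le_antisymm hle
      (Nat.le_of_dvd Nat.card_pos (Nat.Coprime.mul_dvd_of_dvd_of_dvd (by norm_num) h5 h1))
  have hd2' : Nat.card (Subgroup.zpowers d) = 2 := by rw [Nat.card_zpowers, hdo]
  refine ⟨F, d, ?_, hF, le_sup_left, ?_, ?_, ?_, ?_⟩
  · rw [← hD]
    refine ⟨(e.symm g) * gen 0 * (e.symm g)⁻¹, ?_, by simp [hdd, φ]⟩
    show IsConj _ _
    exact isConj_iff.mpr ⟨e.symm g, rfl⟩
  · haveI : IsCyclic X := isCyclic_of_prime_card hX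
    refine (Subgroup.eq_of_le_of_card_ge (le_inf le_sup_left (Subgroup.le_centralizer X)) ?_).symm
    have h1 := Subgroup.card_dvd_of_le (inf_le_left : F ⊓ Subgroup.centralizer (X : Set G) ≤ F)
    have h2 := Subgroup.card_dvd_of_le
      (inf_le_right : F ⊓ Subgroup.centralizer (X : Set G) ≤ Subgroup.centralizer (X : Set G))
    rw [hF] at h1
    rw [hcard] at h2
    have := Nat.dvd_gcd h1 h2
    rw [hX]
    exact Nat.le_of_dvd (by norm_num) this
  · refine disjoint_iff.mp (Subgroup.disjoint_of_coprime_natCard ?_)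
    rw [hF, hd2']; norm_num
  · rintro x hx _ ⟨k, rfl⟩
    exact ((show Commute x d from hdcomm x (hFN hx)).zpow_right k).eq
  · have hdN : Subgroup.zpowers d ≤ N :=
      Subgroup.zpowers_le.mpr (Subgroup.centralizer_le_normalizer _ hdC)
    refine Subgroup.eq_of_le_of_card_ge (sup_le hFN hdN) ?_
    rw [hN]
    have h1 : 55 ∣ Nat.card ↥(F ⊔ Subgroup.zpowers d) := hF ▸ Subgroup.card_dvd_of_le le_sup_left
    have h2 : 2 ∣ Nat.card ↥(F ⊔ Subgroup.zpowers d) := hd2' ▸ Subgroup.card_dvd_of_le le_sup_right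
    exact Nat.le_of_dvd Nat.card_pos (Nat.Coprime.mul_dvd_of_dvd_of_dvd (by norm_num) h1 h2)

end CfsgLib.Fi22Pres
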