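import Cfsg.Agent.Lib.Fi22Pres.OutChecks
import Cfsg.Agent.Lib.Fi22Pres.TriplesData

/-!
Kernel checks for commuting triples of transpositions of the presented Fischer group Fi22.
-/

set_option autoImplicit false
set_option Elab.async false

namespace CfsgLib.Fi22Pres

open CfsgLib.CosetEnum

/-- the word of the standard pair product -/
noncomputable def pairWord : List ℕ := certA.conjWord 0 0 ++ certA.conjWord 0 7

/-- the word of the standard triple product -/
noncomputable def tripleWord : List ℕ := pairWord ++ certA.conjWord 0 62

/-- the word of the other triple product -/
noncomputable def otherWord : List ℕ :=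
  certA.conjWord 0 tripleOther.1 ++ certA.conjWord 0 tripleOther.2.1 ++
    certA.conjWord 0 tripleOther.2.2

/-- the words of the transpositions used for transitivity -/
noncomputable def tripleWords : List (List ℕ) := tripleGens.map (certA.conjWord 0)

theorem triple_gens_ok : (tripleGens.all fun x => ltB x 3510 &&
    certA.relB commMask x 0 && certA.relB commMask x 7) = true := by decide +kernel

theorem triple_gens_fix : (tripleWords.all fun w =>
    Nat.beq (certA.run 0 (certA.revInv w)) 0 && Nat.beq (certA.run 7 (certA.revInv w)) 7) = true := by
  decide +kernel

theorem triple_tree :
    (reach certA tripleWords tripleTree (2 ^ 62) == some tripleMask) = true := by decide +kernel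

theorem triple_mask_size : popc tripleMask 3510 = 180 := by decide +kernel

/-- common neighbours of the pair are exactly the mask -/
noncomputable def commonOK (z : ℕ) : Bool :=
  strict z fun z => pick (ltB z 3510)
    (Nat.testBit tripleMask z == (band (certA.relB commMask 0 z) (band (certA.relB commMask 7 z)
      (band (!(Nat.beq z 0)) (!(Nat.beq z 7)))))) true

theorem common_ok : allUp commonOK 12 0 = true := by decide +kernel

theorem pair_size : popc subMask0 3510 = 693 := by decide +kernel

/-- the cosets fixed by a word are listed -/
noncomputable def fixListed (w F : List ℕ) (x : ℕ) : Bool :=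
  strict x fun x => pick (ltB x 3510)
    (pick (Nat.beq (certA.run x (certA.revInv w)) x) (F.any (Nat.beq x)) true) true

theorem pair_fix : allUp (fixListed pairWord pairFix) 12 0 = true := by decide +kernel

theorem triple_fix : allUp (fixListed tripleWord tripleFix) 12 0 = true := by decide +kernel

/-- distinct and commuting -/
noncomputable def adjB (x y : ℕ) : Bool := band (!(Nat.beq x y)) (certA.relB commMask x y)

/-- the target of the last factor at a base point -/
noncomputable def lastTarget (J w : List ℕ) (b : ℕ) : ℕ :=
  certA.run (certA.run b (certA.revInv J)) (certA.revInv w)

/-- some base point separates a product from the target word -/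
noncomputable def sepB (J pre : List ℕ) (z : ℕ) : Bool :=
  (levels.map Level.base).any fun b =>
    !(Nat.beq (certA.run b (certA.revInv (certA.conjWord 0 z)))
      (lastTarget J pre b))

/-- no other pair has the product of the standard one -/
noncomputable def pairsUnique : Bool :=
  pairFix.all fun x => strict x fun x => pairFix.all fun y => strict y fun y =>
    pick (adjB x y)
      (band (!(Nat.beq x y)) (pick (band ([0, 7].any (Nat.beq x)) ([0, 7].any (Nat.beq y))) true
        (sepB pairWord (certA.conjWord 0 x) y))) true

theorem pairs_unique : pairsUnique = true := by decide +kernel

/-- inside one of the two triples -/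
noncomputable def inTwoB (x y z : ℕ) : Bool :=
  (band ([0, 7, 62].any (Nat.beq x)) (band ([0, 7, 62].any (Nat.beq y))
    ([0, 7, 62].any (Nat.beq z)))) ||
  (band ([tripleOther.1, tripleOther.2.1, tripleOther.2.2].any (Nat.beq x))
    (band ([tripleOther.1, tripleOther.2.1, tripleOther.2.2].any (Nat.beq y))
      ([tripleOther.1, tripleOther.2.1, tripleOther.2.2].any (Nat.beq z))))

/-- no further triple has the product of the standard one -/
noncomputable def triplesUnique : Bool :=
  tripleFix.all fun x => strict x fun x => tripleFix.all fun y => strict y fun y =>
    pick (adjB x y) (tripleFix.all fun z => strict z fun z =>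
      pick (band (adjB x z) (adjB y z))
        (inTwoB x y z || sepB tripleWord (certA.conjWord 0 y ++ certA.conjWord 0 x) z) true) true

theorem triples_unique : triplesUnique = true := by decide +kernel

theorem other_ok : band (band (ltB tripleOther.1 3510) (band (ltB tripleOther.2.1 3510)
    (ltB tripleOther.2.2 3510))) (band (adjB tripleOther.1 tripleOther.2.1)
      (band (adjB tripleOther.1 tripleOther.2.2) (band (adjB tripleOther.2.1 tripleOther.2.2)
        (band ([tripleOther.1, tripleOther.2.1, tripleOther.2.2].all fun x =>
          [0, 7, 62].all fun y => !(Nat.beq x y))
          (allUp (sameAt certA otherWord tripleWord) 12 0))))) = true := by decide +kernel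

end CfsgLib.Fi22Pres
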