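import Mathlib.GroupTheory.GroupAction.Quotient
import Cfsg.Agent.Lib.Fi22USix.TransClass
import Cfsg.Agent.Lib.Fi22Pres.TriplesChecks

/-!
Commuting pairs and triples of transpositions in the presented Fischer group Fi22.
-/

set_option autoImplicit false
set_option Elab.async false

namespace CfsgLib.Fi22Pres

open CfsgLib.CosetEnum Cfsg.Spor

/-- the transposition of a coset -/
noncomputable def dTr (x : Fin certA.N) : Fi22 := conjAt certA gen (gen 0) x

/-- the standard commuting triple -/
def pt0 : Fin certA.N := ⟨0, show 0 < 3510 by omega⟩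

/-- the second point -/
def pt7 : Fin certA.N := ⟨7, show 7 < 3510 by omega⟩

/-- the third point -/
def pt62 : Fin certA.N := ⟨62, show 62 < 3510 by omega⟩

/-- the product of the standard pair -/
noncomputable def pairProd : Fi22 := dTr pt0 * dTr pt7

/-- the product of the standard triple -/
noncomputable def tripleProd : Fi22 := dTr pt0 * dTr pt7 * dTr pt62

theorem dTr_conj (g : Fi22) (x : Fin certA.N) : g * dTr x * g⁻¹ = dTr (rho g x) :=
  setupA.conjAt_smul comm_first g x

theorem dTr_inj {x y : Fin certA.N} (h : dTr x = dTr y) : x = y := graph.injective h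

theorem dTr_sq (x : Fin certA.N) : dTr x * dTr x = 1 := by
  rw [dTr, conjAt, show ∀ c : Fi22, c⁻¹ * gen 0 * c * (c⁻¹ * gen 0 * c) =
    c⁻¹ * (gen 0 * gen 0) * c from fun c => by group, first_facts.1, mul_one, inv_mul_cancel]

theorem dTr_inv (x : Fin certA.N) : (dTr x)⁻¹ = dTr x := inv_eq_of_mul_eq_one_right (dTr_sq x)

theorem dTr_word (x : Fin certA.N) :
    (∀ g ∈ certA.conjWord 0 x, g < 9) ∧ prodW gen (certA.conjWord 0 x) = dTr x :=
  ⟨conj_letters x.2, (conj_eq x.2).symm⟩

theorem pt0_base : pt0 = setupA.base := rfl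

theorem adj_iff (x y : Fin certA.N) :
    adjB x y = true ↔ x ≠ y ∧ Commute (dTr x) (dTr y) := by
  rw [adjB, band_eq_true, graph.commute_iff repWords, Bool.not_eq_true', ← Bool.not_eq_true,
    Nat.beq_eq, ← Fin.ext_iff]
  rfl

theorem rho_of_gen {x : Fin certA.N} {g : Fi22} (h : Commute (dTr x) g) : rho g x = x := by
  apply dTr_inj
  rw [← dTr_conj, ← h.eq, mul_inv_cancel_right]

/-- commuting distinct triples -/
def GoodTriple (t : Fin certA.N × Fin certA.N × Fin certA.N) : Prop :=
  t.1 ≠ t.2.1 ∧ t.1 ≠ t.2.2 ∧ t.2.1 ≠ t.2.2 ∧ Commute (dTr t.1) (dTr t.2.1) ∧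
    Commute (dTr t.1) (dTr t.2.2) ∧ Commute (dTr t.2.1) (dTr t.2.2)

theorem pair_reps {y : Fin certA.N} (hy : y ≠ pt0) (hc : Commute (dTr pt0) (dTr y)) :
    subMask0.testBit y = true := by
  have h := (graph.mask y).mpr (by rw [dTr, pt0_base, setupA.conjAt_base] at hc; exact hc)
  rw [commMask, Nat.testBit_or, Bool.or_eq_true] at h
  refine h.resolve_left fun e => hy ?_
  exact Fin.ext (Nat.testBit_one_eq_true_iff_self_eq_zero.mp e)

/-- The group is transitive on commuting pairs. -/
theorem pair_transitive {x y : Fin certA.N} (hne : x ≠ y) (hc : Commute (dTr x) (dTr y)) :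
    ∃ g : Fi22, rho g pt0 = x ∧ rho g pt7 = y := by
  set c : Fi22 := (coreRep certA gen x)⁻¹
  have hcx : rho c pt0 = x := setupA.rho_rep_inv x
  have hy : rho c⁻¹ y ≠ pt0 := fun e => hne (by
    rw [← hcx, ← e, ← Equiv.Perm.mul_apply, ← map_mul, mul_inv_cancel, map_one]; rfl)
  have hxb : rho c⁻¹ x = pt0 := by
    rw [← hcx, ← Equiv.Perm.mul_apply, ← map_mul, inv_mul_cancel, map_one]; rfl
  have hcy : Commute (dTr pt0) (dTr (rho c⁻¹ y)) := by
    rw [← hxb, ← dTr_conj, ← dTr_conj]
    exact (conj_commute_iff _ _ _).mpr hc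
  obtain ⟨h, hh, e⟩ := (setupA.orbit_mem_iff subMask0_orbit _).mpr (pair_reps hy hcy)
  refine ⟨c * h, ?_, ?_⟩
  · rw [map_mul, Equiv.Perm.mul_apply, pt0_base, setupA.rho_fix hh]; exact hcx
  · rw [map_mul, Equiv.Perm.mul_apply, show rho h pt7 = rho c⁻¹ y from e,
      ← Equiv.Perm.mul_apply, ← map_mul, mul_inv_cancel, map_one]
    rfl

theorem common_iff (z : Fin certA.N) : tripleMask.testBit z = true ↔ GoodTriple (pt0, pt7, z) := by
  have h := allUp_spec common_ok z (Nat.zero_le _) (by have := z.2; have := hN; omega)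
  unfold commonOK at h
  simp only [strict_eq] at h
  rw [show ltB (z : ℕ) 3510 = true from ltB_iff.mpr z.2, pick_true, beq_iff_eq] at h
  have h0 : (¬ (z : ℕ) = 0) ↔ pt0 ≠ z := by rw [Ne, Fin.ext_iff]; exact not_congr eq_comm
  have h7 : (¬ (z : ℕ) = 7) ↔ pt7 ≠ z := by rw [Ne, Fin.ext_iff]; exact not_congr eq_comm
  have c07 : pt0 ≠ pt7 ∧ Commute (dTr pt0) (dTr pt7) :=
    (adj_iff pt0 pt7).mp (by decide +kernel)
  have e0 := graph.commute_iff repWords pt0 z
  have e7 := graph.commute_iff repWords pt7 z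
  rw [h, band_eq_true, band_eq_true, band_eq_true, Bool.not_eq_true', Bool.not_eq_true',
    ← Bool.not_eq_true, ← Bool.not_eq_true, Nat.beq_eq, Nat.beq_eq,
    show certA.relB commMask 0 z = certA.relB commMask (pt0 : ℕ) z from rfl,
    show certA.relB commMask 7 z = certA.relB commMask (pt7 : ℕ) z from rfl, e0, e7, h0, h7]
  unfold GoodTriple
  constructor
  · rintro ⟨a, b, c, d⟩; exact ⟨c07.1, c, d, c07.2, a, b⟩
  · rintro ⟨-, c, d, -, a, b⟩; exact ⟨a, b, c, d⟩

theorem tree_reach (z : Fin certA.N) (hz : tripleMask.testBit z = true) :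
    ∃ g : Fi22, rho g pt0 = pt0 ∧ rho g pt7 = pt7 ∧ rho g pt62 = z := by
  have hfix := triple_gens_fix
  simp only [List.all_eq_true, Bool.and_eq_true] at hfix
  have hlt : ∀ w ∈ tripleWords, ∀ l ∈ w, l < 9 := by
    intro w hw
    obtain ⟨x, hx, rfl⟩ := List.mem_map.mp hw
    have := triple_gens_ok
    simp only [List.all_eq_true, Bool.and_eq_true, ltB_iff] at this
    exact conj_letters (this x hx).1.1
  refine (reach_spec (P := fun y => ∃ hy : y < certA.N, ∃ g : Fi22,
      rho g pt0 = pt0 ∧ rho g pt7 = pt7 ∧ rho g pt62 = ⟨y, hy⟩)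
    ?_ _ _ _ (beq_iff_eq.mp triple_tree) ?_ z hz).2
  · rintro y i hi ⟨hy, g, g0, g7, g62⟩
    have hw : tripleWords.getD i [] ∈ tripleWords := by
      rw [List.getD_eq_getElem _ _ hi]; exact List.getElem_mem hi
    have ha := setupA.rho_prodW (hlt _ hw)
    refine ⟨ha ⟨y, hy⟩ ▸ Fin.isLt _, prodW gen (tripleWords.getD i []) * g, ?_, ?_, ?_⟩ <;>
      rw [map_mul, Equiv.Perm.mul_apply]
    · rw [g0]; exact Fin.ext ((ha pt0).trans (Nat.eq_of_beq_eq_true (hfix _ hw).1))
    · rw [g7]; exact Fin.ext ((ha pt7).trans (Nat.eq_of_beq_eq_true (hfix _ hw).2))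
    · rw [g62]; exact Fin.ext (ha ⟨y, hy⟩)
  · intro y hy
    rw [Nat.testBit_two_pow, decide_eq_true_eq] at hy
    subst hy
    exact ⟨pt62.2, 1, by simp, by simp, by simp; rfl⟩

theorem good_smul (g : Fi22) {x y z : Fin certA.N} (h : GoodTriple (x, y, z)) :
    GoodTriple (rho g x, rho g y, rho g z) := by
  obtain ⟨a, b, c, d, e, f⟩ := h
  refine ⟨(rho g).injective.ne a, (rho g).injective.ne b, (rho g).injective.ne c, ?_, ?_, ?_⟩ <;>
    rw [← dTr_conj, ← dTr_conj, conj_commute_iff] <;> assumption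

/-- The group is transitive on ordered commuting triples. -/
theorem triple_transitive {x y z : Fin certA.N} (h : GoodTriple (x, y, z)) :
    ∃ g : Fi22, rho g pt0 = x ∧ rho g pt7 = y ∧ rho g pt62 = z := by
  obtain ⟨g, rfl, rfl⟩ := pair_transitive h.1 h.2.2.2.1
  have h' := good_smul g⁻¹ h
  simp only [← Equiv.Perm.mul_apply, ← map_mul, inv_mul_cancel, map_one] at h'
  obtain ⟨k, k0, k7, k62⟩ := tree_reach (rho g⁻¹ z) ((common_iff _).mpr h')
  refine ⟨g * k, ?_, ?_, ?_⟩ <;> rw [map_mul, Equiv.Perm.mul_apply]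
  · rw [k0]
  · rw [k7]
  · rw [k62, ← Equiv.Perm.mul_apply, ← map_mul, mul_inv_cancel, map_one]; rfl

theorem listed_fix {w F : List ℕ} (hw : ∀ g ∈ w, g < 9) (hF : allUp (fixListed w F) 12 0 = true)
    {x : Fin certA.N} (hx : rho (prodW gen w) x = x) : (x : ℕ) ∈ F := by
  have h := allUp_spec hF x (Nat.zero_le _) (by have := x.2; have := hN; omega)
  unfold fixListed at h
  simp only [strict_eq] at h
  rw [show ltB (x : ℕ) 3510 = true from ltB_iff.mpr x.2, pick_true, ← setupA.rho_prodW hw, hx,
    Nat.beq_refl, pick_true, List.any_eq_true] at h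
  obtain ⟨y, hy, e⟩ := h
  exact (Nat.eq_of_beq_eq_true e) ▸ hy

theorem pairWord_spec : (∀ g ∈ pairWord, g < 9) ∧ prodW gen pairWord = pairProd := by
  refine ⟨fun g hg => ?_, ?_⟩
  · rcases List.mem_append.mp hg with h | h
    exacts [(dTr_word pt0).1 g h, (dTr_word pt7).1 g h]
  · rw [pairWord, prodW_append]
    exact congrArg₂ (· * ·) (dTr_word pt0).2 (dTr_word pt7).2

theorem tripleWord_spec : (∀ g ∈ tripleWord, g < 9) ∧ prodW gen tripleWord = tripleProd := by
  refine ⟨fun g hg => ?_, ?_⟩
  · rcases List.mem_append.mp hg with h | h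
    exacts [pairWord_spec.1 g h, (dTr_word pt62).1 g h]
  · rw [tripleWord, prodW_append, pairWord_spec.2]
    exact congrArg (pairProd * ·) (dTr_word pt62).2

theorem sep_false {J pre : List ℕ} (hJ : ∀ g ∈ J, g < 9) (hpre : ∀ g ∈ pre, g < 9)
    (z : Fin certA.N) (e : dTr z = prodW gen pre * prodW gen J) : sepB J pre z = false := by
  unfold sepB lastTarget
  rw [List.any_eq_false]
  intro b hb
  obtain ⟨l, hl, rfl⟩ := List.mem_map.mp hb
  have hb' : l.base < certA.N := by
    revert hl l; decide +kernel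
  have h := congrArg (fun g => (rho g ⟨l.base, hb'⟩ : ℕ)) e
  rw [← (dTr_word z).2, map_mul] at h
  simp only [Equiv.Perm.mul_apply, setupA.rho_prodW (dTr_word z).1, setupA.rho_prodW hpre,
    setupA.rho_prodW hJ] at h
  simp [h]

/-- A commuting pair with the product of the standard pair is that pair. -/
theorem pair_unique {x y : Fin certA.N} (hne : x ≠ y) (hc : Commute (dTr x) (dTr y))
    (e : dTr x * dTr y = pairProd) : (x = pt0 ∨ x = pt7) ∧ (y = pt0 ∨ y = pt7) := by
  have hx : rho (prodW gen pairWord) x = x := rho_of_gen (by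
    rw [pairWord_spec.2, ← e]; exact (Commute.refl _).mul_right hc)
  have hy : rho (prodW gen pairWord) y = y := rho_of_gen (by
    rw [pairWord_spec.2, ← e]; exact hc.symm.mul_right (Commute.refl _))
  have h := pairs_unique
  simp only [pairsUnique, List.all_eq_true, strict_eq] at h
  have h' := h x (listed_fix pairWord_spec.1 pair_fix hx) y (listed_fix pairWord_spec.1 pair_fix hy)
  rw [(adj_iff x y).mpr ⟨hne, hc⟩, pick_true, band_eq_true] at h'
  have hsep : sepB pairWord (certA.conjWord 0 x) y = false := sep_false pairWord_spec.1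
    (dTr_word x).1 y (by rw [(dTr_word x).2, pairWord_spec.2, ← e, ← mul_assoc, dTr_sq, one_mul])
  have hb := h'.2
  rw [hsep] at hb
  cases hp : band ([0, 7].any (Nat.beq (x : ℕ))) ([0, 7].any (Nat.beq (y : ℕ)))
  · rw [hp, pick_false] at hb; exact absurd hb Bool.false_ne_true
  · simp only [band_eq_true, List.any_cons, List.any_nil, Bool.or_false, Bool.or_eq_true,
      Nat.beq_eq] at hp
    simpa [Fin.ext_iff, pt0, pt7] using hp

/-- first point of the other triple -/
noncomputable def alt1 : Fin certA.N := ⟨tripleOther.1, by decide +kernel⟩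

/-- second point of the other triple -/
noncomputable def alt2 : Fin certA.N := ⟨tripleOther.2.1, by decide +kernel⟩

/-- third point of the other triple -/
noncomputable def alt3 : Fin certA.N := ⟨tripleOther.2.2, by decide +kernel⟩

/-- the standard triple as a set -/
noncomputable def setT : Finset (Fin certA.N) := {pt0, pt7, pt62}

/-- the other triple as a set -/
noncomputable def setU : Finset (Fin certA.N) := {alt1, alt2, alt3}

theorem alt_facts : GoodTriple (alt1, alt2, alt3) ∧ dTr alt1 * dTr alt2 * dTr alt3 = tripleProd ∧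
    Disjoint setT setU := by
  have h := other_ok
  simp only [band_eq_true] at h
  obtain ⟨-, h12, h13, h23, hdis, hsame⟩ := h
  obtain ⟨n12, c12⟩ := (adj_iff alt1 alt2).mp h12
  obtain ⟨n13, c13⟩ := (adj_iff alt1 alt3).mp h13
  obtain ⟨n23, c23⟩ := (adj_iff alt2 alt3).mp h23
  refine ⟨⟨n12, n13, n23, c12, c13, c23⟩, ?_, ?_⟩
  · have hl : ∀ g ∈ otherWord, g < 9 := fun g hg => by
      rcases List.mem_append.mp hg with h | h
      · rcases List.mem_append.mp h with h | h
        exacts [(dTr_word alt1).1 g h, (dTr_word alt2).1 g h]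
      · exact (dTr_word alt3).1 g h
    rw [← tripleWord_spec.2, ← setupA.eq_of_sameAt card_faithful.2 hl tripleWord_spec.1 hsame hN,
      otherWord, prodW_append, prodW_append]
    exact (congrArg₂ (· * ·) (congrArg₂ (· * ·) (dTr_word alt1).2 (dTr_word alt2).2)
      (dTr_word alt3).2).symm
  · rw [setT, setU]
    simp only [List.all_eq_true, List.mem_cons, List.not_mem_nil, or_false, forall_eq_or_imp,
      forall_eq, Bool.not_eq_true', ← Bool.not_eq_true, Nat.beq_eq] at hdis
    simp only [Finset.disjoint_insert_left, Finset.disjoint_singleton_left, Finset.mem_insert,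
      Finset.mem_singleton, Fin.ext_iff]
    simp only [alt1, alt2, alt3, pt0, pt7, pt62]
    omega

/-- A commuting triple with the standard product is one of two. -/
theorem triple_two {x y z : Fin certA.N} (h : GoodTriple (x, y, z))
    (e : dTr x * dTr y * dTr z = tripleProd) :
    ({x, y, z} : Finset (Fin certA.N)) = setT ∨ ({x, y, z} : Finset (Fin certA.N)) = setU := by
  obtain ⟨n12, n13, n23, c12, c13, c23⟩ := h
  simp only at n12 n13 n23 c12 c13 c23
  have hfix : ∀ u : Fin certA.N, Commute (dTr u) tripleProd → (u : ℕ) ∈ tripleFix := fun u hu =>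
    listed_fix tripleWord_spec.1 triple_fix (rho_of_gen (by rw [tripleWord_spec.2]; exact hu))
  have fx := hfix x (by rw [← e]; exact ((Commute.refl _).mul_right c12).mul_right c13)
  have fy := hfix y (by rw [← e]; exact (c12.symm.mul_right (Commute.refl _)).mul_right c23)
  have fz := hfix z (by
    rw [← e]; exact (c13.symm.mul_right c23.symm).mul_right (Commute.refl _))
  have h := triples_unique
  simp only [triplesUnique, List.all_eq_true, strict_eq] at h
  have h' := h x fx y fy
  rw [(adj_iff x y).mpr ⟨n12, c12⟩, pick_true, List.all_eq_true] at h'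
  have h'' := h' z fz
  rw [(adj_iff x z).mpr ⟨n13, c13⟩, (adj_iff y z).mpr ⟨n23, c23⟩] at h''
  have hsep : sepB tripleWord (certA.conjWord 0 y ++ certA.conjWord 0 x) z = false :=
    sep_false tripleWord_spec.1 (fun g hg => by
      rcases List.mem_append.mp hg with h | h
      exacts [(dTr_word y).1 g h, (dTr_word x).1 g h]) z (by
      rw [prodW_append, (dTr_word y).2, (dTr_word x).2, tripleWord_spec.2, ← e,
        show dTr y * dTr x * (dTr x * dTr y * dTr z) =
          dTr y * (dTr x * dTr x) * dTr y * dTr z by group, dTr_sq, mul_one, dTr_sq, one_mul])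
  rw [band, pick_true, pick_true, hsep, Bool.or_false] at h''
  have hsub : ∀ S : Finset (Fin certA.N), S.card ≤ 3 → x ∈ S → y ∈ S → z ∈ S →
      ({x, y, z} : Finset (Fin certA.N)) = S := fun S hS hx hy hz =>
    Finset.eq_of_subset_of_card_le (by simp [Finset.insert_subset_iff, hx, hy, hz])
      (hS.trans (by simp [n12, n13, n23]))
  simp only [inTwoB, Bool.or_eq_true, band_eq_true, List.any_cons, List.any_nil, Bool.or_false,
    Nat.beq_eq] at h''
  rcases h'' with ⟨hx, hy, hz⟩ | ⟨hx, hy, hz⟩
  · exact Or.inl (hsub _ Finset.card_le_three (by simpa [setT, Fin.ext_iff, pt0, pt7, pt62] using hx)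
      (by simpa [setT, Fin.ext_iff, pt0, pt7, pt62] using hy)
      (by simpa [setT, Fin.ext_iff, pt0, pt7, pt62] using hz))
  · exact Or.inr (hsub _ Finset.card_le_three
      (by simpa [setU, Fin.ext_iff, alt1, alt2, alt3] using hx)
      (by simpa [setU, Fin.ext_iff, alt1, alt2, alt3] using hy)
      (by simpa [setU, Fin.ext_iff, alt1, alt2, alt3] using hz))

end CfsgLib.Fi22Pres
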