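import Cfsg.Agent.Lib.Fi22Pres.Triples

/-!
The centralizer of the product of three commuting transpositions in the presented Fischer
group Fi22.
-/

set_option autoImplicit false
set_option Elab.async false

namespace CfsgLib.Fi22Pres

open CfsgLib.CosetEnum Cfsg.Spor

theorem card_stab_tuple {G α : Type*} [Group G] (f : G →* Equiv.Perm α) (t : α) (K : Subgroup G)
    (hK : ∀ g, g ∈ K ↔ f g t = t) :
    Nat.card G = (Set.range fun g => f g t).ncard * Nat.card K := by
  letI : MulAction G α := MulAction.compHom α f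
  have hs : MulAction.stabilizer G t = K := by
    ext g; rw [hK]; exact Iff.rfl
  have h1 := MulAction.index_stabilizer G t
  rw [hs] at h1
  rw [← K.card_mul_index, h1, mul_comm]
  rfl

/-- the diagonal action on triples -/
noncomputable def rho3 : Fi22 →* Equiv.Perm (Fin certA.N × Fin certA.N × Fin certA.N) where
  toFun g := Equiv.prodCongr (rho g) (Equiv.prodCongr (rho g) (rho g))
  map_one' := by ext x <;> simp
  map_mul' a b := by ext x <;> simp

theorem rho3_apply (g : Fi22) (x y z : Fin certA.N) :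
    rho3 g (x, y, z) = (rho g x, rho g y, rho g z) := rfl

theorem rho3_fix (g : Fi22) : rho3 g (pt0, pt7, pt62) = (pt0, pt7, pt62) ↔
    rho g pt0 = pt0 ∧ rho g pt7 = pt7 ∧ rho g pt62 = pt62 := by
  rw [rho3_apply]; simp only [Prod.mk.injEq]

/-- the pointwise stabilizer of the standard triple -/
noncomputable def tripleStab : Subgroup Fi22 where
  carrier := {g | rho g pt0 = pt0 ∧ rho g pt7 = pt7 ∧ rho g pt62 = pt62}
  one_mem' := by simp
  mul_mem' {a b} ha hb := by simp [ha.1, ha.2.1, ha.2.2, hb.1, hb.2.1, hb.2.2]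
  inv_mem' {a} ha := by
    simp only [Set.mem_ofPred_eq, map_inv, Equiv.Perm.inv_eq_iff_eq]
    exact ⟨ha.1.symm, ha.2.1.symm, ha.2.2.symm⟩

/-- the stabilizer of the standard pair -/
noncomputable def pairStab : Subgroup Fi22 where
  carrier := {g | rho g pt0 = pt0 ∧ rho g pt7 = pt7}
  one_mem' := by simp
  mul_mem' {a b} ha hb := by simp [ha.1, ha.2, hb.1, hb.2]
  inv_mem' {a} ha := by
    simp only [Set.mem_ofPred_eq, map_inv, Equiv.Perm.inv_eq_iff_eq]
    exact ⟨ha.1.symm, ha.2.symm⟩

theorem mask_ncard_gen (m N : ℕ) :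
    {z : Fin N | m.testBit z = true}.ncard = popc m N := by
  classical
  rw [popc_eq, Set.ncard_eq_toFinset_card', ← Finset.card_map Fin.valEmbedding]
  congr 1
  ext y
  simp only [Finset.mem_map, Set.mem_toFinset, Set.mem_ofPred_eq, Finset.mem_filter,
    Finset.mem_range, Fin.valEmbedding_apply]
  exact ⟨fun ⟨z, hz, e⟩ => e ▸ ⟨z.2, hz⟩, fun ⟨h1, h2⟩ => ⟨⟨y, h1⟩, h2, rfl⟩⟩

theorem mask_ncard (m : ℕ) :
    {z : Fin certA.N | m.testBit z = true}.ncard = popc m 3510 :=
  mask_ncard_gen m certA.N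

theorem std_good : GoodTriple (pt0, pt7, pt62) := (common_iff pt62).mp (by decide +kernel)

theorem stab_chain : 3510 * (693 * (180 * Nat.card tripleStab)) = 64561751654400 := by
  have h1 : Nat.card Fi22 = 3510 * Nat.card subA := by
    rw [← subA.card_mul_index, setupA.index_eq, mul_comm]; rfl
  have h2 : Nat.card subA = 693 * Nat.card pairStab := by
    have e := card_stab_tuple (rho.comp subA.subtype) pt7 (pairStab.subgroupOf subA) fun g => by
      rw [Subgroup.mem_subgroupOf]
      exact ⟨fun h => h.2, fun h => ⟨setupA.rho_fix g.2, h⟩⟩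
    have hs : (Set.range fun g : subA => (rho.comp subA.subtype) g pt7) =
        {z : Fin certA.N | subMask0.testBit z = true} := by
      ext z
      simp only [Set.mem_range, Set.mem_ofPred_eq, MonoidHom.comp_apply, Subgroup.subtype_apply]
      rw [← setupA.orbit_mem_iff subMask0_orbit z]
      exact ⟨fun ⟨g, hg⟩ => ⟨g, g.2, hg⟩, fun ⟨g, hg, e⟩ => ⟨⟨g, hg⟩, e⟩⟩
    have hle : pairStab ≤ subA := fun g hg => (setupA.mem_iff g).mpr hg.1
    rwa [hs, mask_ncard, pair_size,
      Nat.card_congr (Subgroup.subgroupOfEquivOfLe hle).toEquiv] at e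
  have h3 : Nat.card pairStab = 180 * Nat.card tripleStab := by
    have e := card_stab_tuple (rho.comp pairStab.subtype) pt62 (tripleStab.subgroupOf pairStab)
      fun g => by
        rw [Subgroup.mem_subgroupOf]
        exact ⟨fun h => h.2.2, fun h => ⟨g.2.1, g.2.2, h⟩⟩
    have hs : (Set.range fun g : pairStab => (rho.comp pairStab.subtype) g pt62) =
        {z : Fin certA.N | tripleMask.testBit z = true} := by
      ext z
      simp only [Set.mem_range, Set.mem_ofPred_eq, MonoidHom.comp_apply, Subgroup.subtype_apply]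
      constructor
      · rintro ⟨g, rfl⟩
        have := good_smul (g : Fi22) std_good
        rw [g.2.1, g.2.2] at this
        exact (common_iff _).mpr this
      · intro hz
        obtain ⟨g, g0, g7, g62⟩ := tree_reach z hz
        exact ⟨⟨g, g0, g7⟩, g62⟩
    have hle : tripleStab ≤ pairStab := fun g hg => ⟨hg.1, hg.2.1⟩
    rwa [hs, mask_ncard, triple_mask_size,
      Nat.card_congr (Subgroup.subgroupOfEquivOfLe hle).toEquiv] at e
  rw [← h3, ← h2, ← h1, card_faithful.1]

/-- the orderings of a triple -/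
def orders {α : Type*} (a b c : α) : List (α × α × α) :=
  [(a, b, c), (a, c, b), (b, a, c), (b, c, a), (c, a, b), (c, b, a)]

theorem mem_orders {α : Type*} [DecidableEq α] {a b c x y z : α} (hxy : x ≠ y) (hxz : x ≠ z)
    (hyz : y ≠ z) (h : ({x, y, z} : Finset α) = {a, b, c}) : (x, y, z) ∈ orders a b c := by
  have hx : x ∈ ({a, b, c} : Finset α) := h ▸ by simp
  have hy : y ∈ ({a, b, c} : Finset α) := h ▸ by simp
  have hz : z ∈ ({a, b, c} : Finset α) := h ▸ by simp
  simp only [Finset.mem_insert, Finset.mem_singleton] at hx hy hz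
  rcases hx with rfl | rfl | rfl <;> rcases hy with rfl | rfl | rfl <;>
    rcases hz with rfl | rfl | rfl <;> simp_all [orders]

theorem orders_good {a b c : Fin certA.N} (h : GoodTriple (a, b, c))
    {t : Fin certA.N × Fin certA.N × Fin certA.N} (ht : t ∈ orders a b c) :
    GoodTriple t ∧ dTr t.1 * dTr t.2.1 * dTr t.2.2 = dTr a * dTr b * dTr c := by
  obtain ⟨n1, n2, n3, c1, c2, c3⟩ := h
  simp only at n1 n2 n3 c1 c2 c3
  simp only [orders, List.mem_cons, List.not_mem_nil, or_false] at ht
  rcases ht with rfl | rfl | rfl | rfl | rfl | rfl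
  · exact ⟨⟨n1, n2, n3, c1, c2, c3⟩, rfl⟩
  · exact ⟨⟨n2, n1, n3.symm, c2, c1, c3.symm⟩, by rw [mul_assoc, c3.symm.eq, ← mul_assoc]⟩
  · exact ⟨⟨n1.symm, n3, n2, c1.symm, c3, c2⟩, by rw [c1.symm.eq]⟩
  · refine ⟨⟨n3, n1.symm, n2.symm, c3, c1.symm, c2.symm⟩, ?_⟩
    rw [mul_assoc, mul_assoc, c2.symm.eq, ← mul_assoc, c1.symm.eq, mul_assoc]
  · refine ⟨⟨n2.symm, n3.symm, n1, c2.symm, c3.symm, c1⟩, ?_⟩
    rw [c2.symm.eq, mul_assoc, c3.symm.eq, ← mul_assoc]
  · refine ⟨⟨n3.symm, n2.symm, n1.symm, c3.symm, c2.symm, c1.symm⟩, ?_⟩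
    rw [c3.symm.eq, mul_assoc, c2.symm.eq, ← mul_assoc, c1.symm.eq, mul_assoc]

/-- the twelve ordered triples with the standard product -/
noncomputable def twelve : List (Fin certA.N × Fin certA.N × Fin certA.N) :=
  orders pt0 pt7 pt62 ++ orders alt1 alt2 alt3

theorem twelve_nodup : twelve.Nodup := by
  refine List.Nodup.of_map (fun t => ((t.1 : ℕ), (t.2.1 : ℕ), (t.2.2 : ℕ))) ?_
  decide +kernel

theorem centralizer_triple :
    Nat.card (Subgroup.centralizer ({tripleProd} : Set Fi22)) = 2 ^ 16 * 3 ^ 3 := by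
  classical
  set J := Subgroup.centralizer ({tripleProd} : Set Fi22)
  have hmem : ∀ g : Fi22, g ∈ J ↔ g * tripleProd * g⁻¹ = tripleProd := fun g => by
    rw [Subgroup.mem_centralizer_singleton_iff, mul_inv_eq_iff_eq_mul]
  have himg : ∀ g : Fi22, g * tripleProd * g⁻¹ =
      dTr (rho g pt0) * dTr (rho g pt7) * dTr (rho g pt62) := fun g => by
    rw [← dTr_conj, ← dTr_conj, ← dTr_conj, tripleProd]; group
  have hle : tripleStab ≤ J := fun g hg => by
    rw [hmem, himg, hg.1, hg.2.1, hg.2.2]; rfl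
  have e := card_stab_tuple (rho3.comp J.subtype) (pt0, pt7, pt62) (tripleStab.subgroupOf J)
    fun g => by rw [Subgroup.mem_subgroupOf]; exact (rho3_fix _).symm
  have hs : (Set.range fun g : J => (rho3.comp J.subtype) g (pt0, pt7, pt62)) =
      {t | t ∈ twelve} := by
    ext t
    simp only [Set.mem_range, Set.mem_ofPred_eq, MonoidHom.comp_apply, Subgroup.subtype_apply]
    constructor
    · rintro ⟨g, rfl⟩
      have hg := good_smul (g : Fi22) std_good
      have hj := (himg g).symm.trans ((hmem g).mp g.2)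
      rw [rho3_apply]
      rcases triple_two hg hj with hS | hS
      · exact List.mem_append.mpr (Or.inl (mem_orders hg.1 hg.2.1 hg.2.2.1 hS))
      · exact List.mem_append.mpr (Or.inr (mem_orders hg.1 hg.2.1 hg.2.2.1 hS))
    · intro ht
      obtain ⟨x, y, z⟩ := t
      have key : GoodTriple (x, y, z) ∧ dTr x * dTr y * dTr z = tripleProd := by
        rcases List.mem_append.mp ht with h | h
        · exact orders_good std_good h
        · exact ⟨(orders_good alt_facts.1 h).1, (orders_good alt_facts.1 h).2.trans alt_facts.2.1⟩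
      obtain ⟨g, g0, g7, g62⟩ := triple_transitive key.1
      refine ⟨⟨g, ?_⟩, by rw [rho3_apply, g0, g7, g62]⟩
      rw [hmem, himg, g0, g7, g62]; exact key.2
  have hcard : {t | t ∈ twelve}.ncard = 12 := by
    rw [show {t | t ∈ twelve} = ↑twelve.toFinset by ext; simp, Set.ncard_coe_finset,
      List.toFinset_card_of_nodup twelve_nodup]
    rfl
  rw [hs, hcard, Nat.card_congr (Subgroup.subgroupOfEquivOfLe hle).toEquiv] at e
  have h := stab_chain
  rw [e]
  omega

end CfsgLib.Fi22Pres
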